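import Cfsg.Agent.H17.CD
import Cfsg.Prelude.Def_PLocal

/-! Chermak--Delgado measure, part 2: abelian subgroups of largest order, minimal CL subgroups
(helper17). -/

set_option autoImplicit false

namespace Cfsg.Agent.H17

open Subgroup
open scoped Pointwise

variable {G : Type*} [Group G]

/-- `H` is abelian, in centralizer form. -/
theorem abelian_sup {H K : Subgroup G} (hH : H ≤ centralizer (H : Set G))
    (hK : K ≤ centralizer (K : Set G)) (hHK : H ≤ centralizer (K : Set G)) :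
    H ⊔ K ≤ centralizer ((H ⊔ K : Subgroup G) : Set G) := by
  rw [centralizer_sup']
  exact sup_le (le_inf hH hHK) (le_inf (le_centralizer_iff.mp hHK) hK)

theorem maxAb_iff (A : Subgroup G) : A ∈ Cfsg.maxAbelianSubgroups G ↔
    A ≤ centralizer (A : Set G) ∧
      ∀ B : Subgroup G, B ≤ centralizer (B : Set G) → Nat.card ↥B ≤ Nat.card ↥A := by
  unfold Cfsg.maxAbelianSubgroups
  simp only [Set.mem_ofPred_eq, le_centralizer_iff_isMulCommutative]

theorem maxAb_centralizer [Finite G] {A : Subgroup G} (hA : A ∈ Cfsg.maxAbelianSubgroups G) :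
    centralizer (A : Set G) = A := by
  rw [maxAb_iff] at hA
  apply le_antisymm _ hA.1
  intro x hx
  have h1 : A ⊔ zpowers x ≤ centralizer ((A ⊔ zpowers x : Subgroup G) : Set G) := by
    apply abelian_sup hA.1
    · exact le_centralizer_iff_isMulCommutative.mpr inferInstance
    · rw [le_centralizer_iff, zpowers_le]
      exact hx
  have h2 := eq_of_le_of_card_le' (le_sup_left (a := A) (b := zpowers x)) (hA.2 _ h1)
  rw [h2]
  exact le_sup_right (a := A) (mem_zpowers x)

theorem exists_maxAb [Finite G] : ∃ A : Subgroup G, A ∈ Cfsg.maxAbelianSubgroups G := by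
  have : Nonempty {B : Subgroup G // B ≤ centralizer (B : Set G)} := ⟨⟨⊥, bot_le⟩⟩
  obtain ⟨A, hA⟩ := Finite.exists_max
    (fun B : {B : Subgroup G // B ≤ centralizer (B : Set G)} => Nat.card ↥B.1)
  exact ⟨A.1, (maxAb_iff _).mpr ⟨A.2, fun B hB => hA ⟨B, hB⟩⟩⟩

theorem cl_arith {q a z s i w b : ℕ} (hq : 0 < q) (ha : 0 < a) (hz : 0 < z) (hs : 0 < s)
    (hw : 0 < w)
    (h1 : i * z ≤ b * w) (h2 : b ≤ a) (h3 : q * a ≤ s * i) (h4 : s * w ≤ q * z) :
    s * i ≤ q * a ∧ s * w = q * z ∧ a ≤ b ∧ b * w ≤ i * z := by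
  have c1 : q * a * z ≤ s * i * z := Nat.mul_le_mul_right _ h3
  have c2 : s * i * z ≤ s * (b * w) := by rw [mul_assoc]; exact Nat.mul_le_mul_left _ h1
  have c3 : s * (b * w) ≤ s * (a * w) := Nat.mul_le_mul_left _ (Nat.mul_le_mul_right _ h2)
  have c4 : s * (a * w) ≤ q * a * z := by
    calc s * (a * w) = (s * w) * a := by ring
      _ ≤ (q * z) * a := Nat.mul_le_mul_right _ h4
      _ = q * a * z := by ring
  refine ⟨?_, ?_, ?_, ?_⟩
  · exact Nat.le_of_mul_le_mul_right (c2.trans (c3.trans c4)) hz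
  · apply le_antisymm h4
    have : (q * z) * a ≤ (s * w) * a := by
      calc (q * z) * a = q * a * z := by ring
        _ ≤ s * (a * w) := c1.trans (c2.trans c3)
        _ = (s * w) * a := by ring
    exact Nat.le_of_mul_le_mul_right this ha
  · have : (s * w) * a ≤ (s * w) * b := by
      calc (s * w) * a = s * (a * w) := by ring
        _ ≤ s * (b * w) := c4.trans (c1.trans c2)
        _ = (s * w) * b := by ring
    exact Nat.le_of_mul_le_mul_left this (Nat.mul_pos hs hw)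
  · have : s * (b * w) ≤ s * (i * z) := by
      rw [← mul_assoc s i z]
      exact c3.trans (c4.trans c1)
    exact Nat.le_of_mul_le_mul_left this hs

theorem CLL.sup_maxAb [Finite G] {Q A : Subgroup G} (hQ : CLL Q)
    (hA : A ∈ Cfsg.maxAbelianSubgroups G) :
    ((Q ⊔ A : Subgroup G) : Set G) = (Q : Set G) * (A : Set G) ∧ CLL (Q ⊔ A) ∧
    (Q ⊔ A) ⊓ centralizer ((Q ⊓ A : Subgroup G) : Set G) = centralizer (Q : Set G) ⊔ A ∧
    ((centralizer (Q : Set G) ⊔ A : Subgroup G) : Set G)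
      = (centralizer (Q : Set G) : Set G) * (A : Set G) := by
  have hCA := maxAb_centralizer hA
  have hA' := (maxAb_iff A).mp hA
  obtain ⟨hQ1, hQ2⟩ := (cll_iff Q).mp hQ
  set Z := centralizer (Q : Set G) with hZ
  have hQZ : Q ≤ centralizer (Z : Set G) := le_centralizer_centralizer' Q
  have hZab : Z ≤ centralizer (Z : Set G) := hQ2.trans hQZ
  have hDab : Q ⊓ A ≤ centralizer ((Q ⊓ A : Subgroup G) : Set G) :=
    inf_le_right.trans (hA'.1.trans (centralizer_le (inf_le_right (a := Q) (b := A))))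
  have hBab : (Z ⊔ (Q ⊓ A)) ≤ centralizer ((Z ⊔ (Q ⊓ A) : Subgroup G) : Set G) :=
    abelian_sup hZab hDab (centralizer_le (inf_le_left (a := Q) (b := A)))
  have e1 : Z ⊓ (Q ⊓ A) = Z ⊓ A := by
    rw [← inf_assoc, inf_eq_left.mpr hQ2]
  have h1 := card_mul_card_le Z (Q ⊓ A)
  rw [e1, mul_comm (Nat.card ↥Z)] at h1
  have h2 := hA'.2 _ hBab
  have h3 := card_mul_card_le Q A
  have h4 : Nat.card ↥(Q ⊔ A : Subgroup G) * Nat.card ↥(Z ⊓ A : Subgroup G)
      ≤ Nat.card ↥Q * Nat.card ↥Z := by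
    have := hQ1 (Q ⊔ A)
    unfold cdm at this
    rwa [centralizer_sup', hCA] at this
  obtain ⟨a1, a2, a3, a4⟩ := cl_arith Nat.card_pos Nat.card_pos Nat.card_pos Nat.card_pos
    Nat.card_pos h1 h2 h3 h4
  have s1 := sup_eq_mul_of_card Q A a1
  have hB : (Z ⊔ (Q ⊓ A)) ∈ Cfsg.maxAbelianSubgroups G :=
    (maxAb_iff _).mpr ⟨hBab, fun B hB => (hA'.2 B hB).trans a3⟩
  have hCB := maxAb_centralizer hB
  have s2 : ((Z ⊔ (Q ⊓ A) : Subgroup G) : Set G) = (Z : Set G) * ((Q ⊓ A : Subgroup G) : Set G) := by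
    apply sup_eq_mul_of_card
    rw [e1, mul_comm (Nat.card ↥Z)]
    exact a4
  have hcll : CLL (Q ⊔ A) := by
    rw [cll_iff]
    constructor
    · apply hQ1.of_eq
      unfold cdm
      rw [centralizer_sup', hCA]
      exact a2
    · exact (centralizer_le (le_sup_left (a := Q) (b := A))).trans (hQ2.trans le_sup_left)
  have t1 : (((Q ⊔ A) ⊓ centralizer ((Q ⊓ A : Subgroup G) : Set G) : Subgroup G) : Set G)
      ⊆ (Z : Set G) * (A : Set G) := by
    intro x hx
    have hx1 : x ∈ ((Q ⊔ A : Subgroup G) : Set G) := hx.1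
    have hx2 : x ∈ centralizer ((Q ⊓ A : Subgroup G) : Set G) := hx.2
    rw [s1] at hx1
    obtain ⟨q, hq, a, ha, rfl⟩ := hx1
    have ha2 : a ∈ centralizer ((Q ⊓ A : Subgroup G) : Set G) :=
      (hA'.1.trans (centralizer_le (inf_le_right (a := Q) (b := A)))) ha
    have hq2 : q ∈ centralizer ((Q ⊓ A : Subgroup G) : Set G) := by
      have := mul_mem hx2 (inv_mem ha2)
      simpa using this
    have hq3 : q ∈ ((Z ⊔ (Q ⊓ A) : Subgroup G) : Set G) := by
      rw [SetLike.mem_coe, ← hCB, centralizer_sup']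
      exact mem_inf.mpr ⟨hQZ hq, hq2⟩
    rw [s2] at hq3
    obtain ⟨z, hz, d, hd, rfl⟩ := hq3
    refine ⟨z, hz, d * a, mul_mem hd.2 ha, ?_⟩
    simp only [mul_assoc]
  have t2 : Z ⊔ A ≤ (Q ⊔ A) ⊓ centralizer ((Q ⊓ A : Subgroup G) : Set G) := by
    apply sup_le
    · exact le_inf (hQ2.trans le_sup_left) (centralizer_le (inf_le_left (a := Q) (b := A)))
    · exact le_inf le_sup_right (hA'.1.trans (centralizer_le (inf_le_right (a := Q) (b := A))))
  have t3 := mul_set_subset_sup Z A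
  refine ⟨s1, hcll, ?_, ?_⟩
  · apply le_antisymm _ t2
    exact fun x hx => t3 (t1 hx)
  · apply Set.Subset.antisymm _ t3
    exact fun x hx => t1 (t2 hx)

theorem centralizer_ZJ_le [Finite G] {T : Subgroup G} (hT : CLL T)
    (h : ∀ A ∈ Cfsg.maxAbelianSubgroups G, A ≤ T) :
    centralizer ((Cfsg.thompsonSubgroupA G ⊓ centralizer (Cfsg.thompsonSubgroupA G : Set G)
      : Subgroup G) : Set G) ≤ T := by
  obtain ⟨A, hA⟩ := exists_maxAb (G := G)
  obtain ⟨hT1, hT2⟩ := (cll_iff T).mp hT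
  have hJ : Cfsg.thompsonSubgroupA G ≤ T := sSup_le h
  have hAJ : A ≤ Cfsg.thompsonSubgroupA G := le_sSup hA
  have h1 : centralizer (T : Set G) ≤ Cfsg.thompsonSubgroupA G := by
    calc centralizer (T : Set G) ≤ centralizer (A : Set G) := centralizer_le (h A hA)
      _ = A := maxAb_centralizer hA
      _ ≤ _ := hAJ
  have h2 : centralizer (T : Set G) ≤ centralizer (Cfsg.thompsonSubgroupA G : Set G) :=
    centralizer_le hJ
  have h3 := centralizer_le (le_inf h1 h2)
  rw [← (cd_centralizer hT1).2] at h3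
  exact h3

end Cfsg.Agent.H17
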