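import Cfsg.Prelude.Def_SylowChains
import Cfsg.Agent.Lib.Helper16.SPE
import Cfsg.Agent.H17.SylIn

set_option autoImplicit false

/-! Connectivity of the graph on Sylow `p`-subgroups and strongly `p`-embedded subgroups. -/

namespace Cfsg.Agent.H17

open Subgroup

variable {G : Type*} [Group G] {p : ℕ}

/-- two Sylow subgroups meet nontrivially -/
def SAdj (S T : Sylow p G) : Prop := (S : Subgroup G) ⊓ (T : Subgroup G) ≠ ⊥

/-- connectivity through nontrivial intersections -/
def SConn (S T : Sylow p G) : Prop := Relation.ReflTransGen SAdj S T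

theorem sAdj_iff {S T : Sylow p G} : SAdj S T ↔ ∃ x : G, x ∈ S ∧ x ∈ T ∧ x ≠ 1 := by
  unfold SAdj
  rw [Subgroup.ne_bot_iff_exists_ne_one]
  constructor
  · rintro ⟨⟨x, hx⟩, hx1⟩
    exact ⟨x, hx.1, hx.2, fun h => hx1 (Subtype.ext h)⟩
  · rintro ⟨x, h1, h2, h3⟩
    exact ⟨⟨x, h1, h2⟩, fun h => h3 (congrArg Subtype.val h)⟩

theorem SAdj.symm {S T : Sylow p G} (h : SAdj S T) : SAdj T S := by
  unfold SAdj at *; rwa [inf_comm]

theorem SConn.refl (S : Sylow p G) : SConn S S := Relation.ReflTransGen.refl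

theorem SConn.trans {S T U : Sylow p G} (h1 : SConn S T) (h2 : SConn T U) : SConn S U :=
  Relation.ReflTransGen.trans h1 h2

theorem SAdj.conn {S T : Sylow p G} (h : SAdj S T) : SConn S T := Relation.ReflTransGen.single h

theorem SConn.symm {S T : Sylow p G} (h : SConn S T) : SConn T S := by
  induction h with
  | refl => exact SConn.refl _
  | tail _ h2 ih => exact (h2.symm.conn).trans ih

theorem mem_smul_sylow {S : Sylow p G} {g x : G} : x ∈ g • S ↔ g⁻¹ * x * g ∈ S := by
  change x ∈ ((g • S : Sylow p G) : Subgroup G) ↔ _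
  rw [Sylow.coe_subgroup_smul,
    Subgroup.mem_pointwise_smul_iff_inv_smul_mem, MulAut.smul_def, ← map_inv, MulAut.conj_apply,
    inv_inv]
  rfl

theorem SAdj.smul {S T : Sylow p G} (h : SAdj S T) (g : G) : SAdj (g • S) (g • T) := by
  rw [sAdj_iff] at *
  obtain ⟨x, h1, h2, h3⟩ := h
  refine ⟨g * x * g⁻¹, ?_, ?_, ?_⟩
  · rw [mem_smul_sylow]; simpa [mul_assoc] using h1
  · rw [mem_smul_sylow]; simpa [mul_assoc] using h2
  · intro h
    apply h3
    have : x = g⁻¹ * (g * x * g⁻¹) * g := by group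
    rw [this, h]; group

theorem SConn.smul {S T : Sylow p G} (h : SConn S T) (g : G) : SConn (g • S) (g • T) := by
  induction h with
  | refl => exact SConn.refl _
  | tail _ h2 ih => exact ih.trans (h2.smul g).conn

theorem exists_chain_of_SConn {S T : Sylow p G} (h : SConn S T) :
    ∃ (n : ℕ) (c : Fin (n + 1) → Sylow p G), c 0 = S ∧ c (Fin.last n) = T ∧
      ∀ i : Fin n, c i.castSucc ≠ c i.succ ∧
        (c i.castSucc : Subgroup G) ⊓ (c i.succ : Subgroup G) ≠ ⊥ := by
  induction h with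
  | refl => exact ⟨0, fun _ => S, rfl, rfl, fun i => i.elim0⟩
  | @tail T T' _ h2 ih =>
    obtain ⟨n, c, h0, hl, hc⟩ := ih
    by_cases hTT : T = T'
    · exact ⟨n, c, h0, hTT ▸ hl, hc⟩
    · refine ⟨n + 1, Fin.snoc c T', ?_, ?_, ?_⟩
      · rw [← Fin.castSucc_zero, Fin.snoc_castSucc]; exact h0
      · rw [Fin.snoc_last]
      · intro i
        refine Fin.lastCases ?_ (fun j => ?_) i
        · rw [Fin.snoc_castSucc, Fin.succ_last, Fin.snoc_last, hl]
          exact ⟨hTT, h2⟩
        · rw [Fin.snoc_castSucc, Fin.succ_castSucc, Fin.snoc_castSucc]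
          exact hc j

theorem chainConnected_iff : Cfsg.IsSylowChainConnected p G ↔ ∀ S T : Sylow p G, SConn S T := by
  constructor
  · intro h S T
    obtain ⟨n, c, h0, hl, _, hc⟩ := h S T
    have : ∀ i : Fin (n + 1), SConn (c 0) (c i) := by
      intro i
      induction i using Fin.induction with
      | zero => exact SConn.refl _
      | succ i ih => exact ih.trans (SAdj.conn (hc i).2)
    rw [← h0, ← hl]
    exact this _
  · intro h S T
    by_cases hST : S = T
    · subst hST
      exact ⟨0, fun _ => S, rfl, rfl, fun _ => inf_le_left, fun i => i.elim0⟩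
    by_cases hb : (S : Subgroup G) ⊓ (T : Subgroup G) = ⊥
    · obtain ⟨n, c, h0, hl, hc⟩ := exists_chain_of_SConn (h S T)
      exact ⟨n, c, h0, hl, fun _ => by rw [hb]; exact bot_le, hc⟩
    · obtain ⟨n, c, h0, hl, hc⟩ := exists_chain_of_SConn (SAdj.conn (show SAdj S T from hb))
      refine ⟨1, ![S, T], rfl, rfl, ?_, ?_⟩
      · intro i
        fin_cases i
        · exact inf_le_left
        · exact inf_le_right
      · intro i
        fin_cases i
        exact ⟨hST, hb⟩

open Cfsg.Agent.Lib.Helper16 in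
theorem le_of_SConn_of_SPE [Fact p.Prime] [Finite G] {H : Subgroup G} (h : SPE p H) {S T : Sylow p G}
    (hS : (S : Subgroup G) ≤ H) (hc : SConn S T) : (T : Subgroup G) ≤ H := by
  induction hc with
  | refl => exact hS
  | @tail T T' _ h2 ih =>
    apply h.pgroup_le T'.2
    intro hb
    apply h2
    rw [eq_bot_iff, ← hb, inf_comm]
    exact inf_le_inf_left _ ih

open Cfsg.Agent.Lib.Helper16 in
theorem exists_sylow_le_of_SPE [Fact p.Prime] [Finite G] {H : Subgroup G} (h : SPE p H) :
    ∃ S : Sylow p G, (S : Subgroup G) ≤ H := by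
  obtain ⟨S, hS⟩ := exists_isSyl p H
  obtain ⟨P, hP⟩ := isSyl_top_iff.mp (h.isSyl_top hS)
  exact ⟨P, hP ▸ hS.le⟩

open Cfsg.Agent.Lib.Helper16 in
theorem not_connected_of_SPE [Fact p.Prime] [Finite G] {H : Subgroup G} (h : SPE p H) :
    ¬ ∀ S T : Sylow p G, SConn S T := by
  intro hall
  obtain ⟨S, hS⟩ := exists_sylow_le_of_SPE h
  apply h.2.1
  rw [eq_top_iff]
  intro g _
  have h1 : ((g • S : Sylow p G) : Subgroup G) ≤ H := le_of_SConn_of_SPE h hS (hall _ _)
  have hSne : ((g • S : Sylow p G) : Subgroup G) ≠ ⊥ :=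
    ne_bot_of_isSyl_of_dvd (IsSyl.of_le (isSyl_sylow (g • S)) h1 le_top) h.1
  apply h.mem_of_inf_cj
  apply dvd_card_of_pgroup_le (g • S).2 _ hSne
  apply le_inf h1
  intro x hx
  have hx' : x ∈ g • S := hx
  rw [mem_smul_sylow] at hx'
  refine ⟨g⁻¹ * x * g, hS hx', ?_⟩
  simp [mul_assoc]

/-- the stabilizer of the connected component of `S` -/
def compStab (S : Sylow p G) : Subgroup G where
  carrier := {g | SConn S (g • S)}
  one_mem' := by
    change SConn S ((1 : G) • S)
    rw [one_smul]; exact SConn.refl _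
  mul_mem' := by
    intro a b ha hb
    change SConn S ((a * b) • S)
    rw [mul_smul]
    exact SConn.trans ha (SConn.smul hb a)
  inv_mem' := by
    intro a ha
    change SConn S (a⁻¹ • S)
    have := (SConn.smul ha a⁻¹).symm
    rwa [inv_smul_smul] at this

theorem mem_compStab {S : Sylow p G} {g : G} : g ∈ compStab S ↔ SConn S (g • S) := Iff.rfl

theorem le_compStab (S : Sylow p G) : (S : Subgroup G) ≤ compStab S := by
  intro s hs
  rw [mem_compStab]
  have : s • S = S := Sylow.smul_eq_iff_mem_normalizer.mpr (le_normalizer hs)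
  rw [this]; exact SConn.refl _

open Cfsg.Agent.Lib.Helper16 in
theorem compStab_SPE [Fact p.Prime] [Finite G] {S T : Sylow p G} (h : ¬ SConn S T) :
    SPE p (compStab S) := by
  have hSne : (S : Subgroup G) ≠ ⊥ := by
    intro hb
    apply h
    have : S = T := by
      obtain ⟨g, rfl⟩ := MulAction.exists_smul_eq G S T
      apply Sylow.ext
      rw [Sylow.coe_subgroup_smul, hb]
      simp
    rw [this]; exact SConn.refl _
  refine ⟨dvd_card_of_pgroup_le S.2 (le_compStab S) hSne, ?_, ?_⟩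
  · intro htop
    apply h
    obtain ⟨g, rfl⟩ := MulAction.exists_smul_eq G S T
    rw [← mem_compStab, htop]; exact mem_top g
  · intro A hA hAp hAne g hg
    have hsyl : IsSylIn p (S : Subgroup G) (compStab S) :=
      (sylow_isSylIn_top S).of_le (le_compStab S) le_top
    obtain ⟨m, hm, hmA⟩ := hsyl.exists_conj_le hAp hA
    -- A ≤ m⁻¹ • S
    have hA1 : ∀ a ∈ A, a ∈ m⁻¹ • S := by
      intro a ha
      rw [mem_smul_sylow, inv_inv]
      exact hmA ⟨a, ha, rfl⟩
    obtain ⟨⟨a, ha⟩, ha1'⟩ := Subgroup.ne_bot_iff_exists_ne_one.mp hAne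
    have ha1 : a ≠ 1 := fun h => ha1' (Subtype.ext h)
    have hadj : SAdj (m⁻¹ • S) (g • m⁻¹ • S) := by
      rw [sAdj_iff]
      refine ⟨a, hA1 a ha, ?_, ha1⟩
      rw [mem_smul_sylow]
      apply hA1
      have := (mem_normalizer_iff.mp (inv_mem hg) a).mp ha
      simpa using this
    have h1 : SConn S (m⁻¹ • S) := mem_compStab.mp (inv_mem hm)
    have h2 : g * m⁻¹ ∈ compStab S := by
      rw [mem_compStab, mul_smul]
      exact h1.trans hadj.conn
    have := mul_mem h2 hm
    simpa using this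

open Cfsg.Agent.Lib.Helper16 in
theorem not_chainConnected_iff [Fact p.Prime] [Finite G] :
    ¬ Cfsg.IsSylowChainConnected p G ↔ ∃ H : Subgroup G, SPE p H := by
  rw [chainConnected_iff]
  constructor
  · intro h
    push Not at h
    obtain ⟨S, T, hST⟩ := h
    exact ⟨_, compStab_SPE hST⟩
  · rintro ⟨H, hH⟩
    exact not_connected_of_SPE hH

end Cfsg.Agent.H17
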