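import Cfsg.Agent.H17.CharPBridge
import Cfsg.Agent.H17.SPE2
import Cfsg.Agent.H17.SylConn
import Cfsg.Agent.Lib.Helper13.PAction
import Cfsg.Prelude.Def_LocalStructure
import Cfsg.Prelude.Def_LocalEven

set_option autoImplicit false

/-! Parabolic / local characteristic `p` in terms of centralizers of elements of order `p`. -/

namespace Cfsg.Agent.H17

open Subgroup Cfsg Cfsg.Agent.Lib.Helper16

variable {G : Type*} [Group G] [Finite G] {p : ℕ} [Fact p.Prime]

theorem hasCharP_normalizer_of_mem {X : Subgroup G} (hX : IsPGroup p X) {z : G} (hz : z ∈ X)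
    (hC : HasCharP p (centralizer ({z} : Set G))) : HasCharP p (normalizer (X : Set G)) := by
  rw [← centralizer_zpowers_eq] at hC
  exact (HasCharP.centralizer_of_le hX _ (zpowers z) (by rwa [zpowers_le]) rfl
    hC).normalizer_of_centralizer hX

theorem hasCharP_centralizer_conj {z : G} (g : G) (hC : HasCharP p (centralizer ({z} : Set G))) :
    HasCharP p (centralizer ({g * z * g⁻¹} : Set G)) := by
  have := hC.cj g
  rw [← centralizer_zpowers_eq, ← centralizer_cj, MonoidHom.map_zpowers,
    centralizer_zpowers_eq] at this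
  simpa using this

theorem hasCharP_centralizer_of_normalizer {z : G} (hz : IsPGroup p (zpowers z))
    (h : HasCharP p (normalizer ((zpowers z : Subgroup G) : Set G))) :
    HasCharP p (centralizer ({z} : Set G)) := by
  have h1 := h.inf_centralizer hz (le_normalizer.trans le_normalizer)
  rwa [inf_eq_right.mpr (centralizer_le_normalizer _), centralizer_zpowers_eq] at h1

omit [Finite G] [Fact p.Prime] in
theorem omegaOne_le (X : Subgroup G) : omegaOne p X ≤ X := by
  rw [omegaOne, closure_le]
  exact fun x hx => hx.1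

omit [Finite G] [Fact p.Prime] in
theorem le_sylow_of_le_normalizer {R : Subgroup G} (hR : IsPGroup p R) {T : Sylow p G}
    (hT : (T : Subgroup G) ≤ normalizer (R : Set G)) : R ≤ T := by
  have h1 : IsPGroup p (R ⊔ T : Subgroup G) := hR.to_sup_of_normal_left' T.2 hT
  have h2 := T.is_maximal' h1 le_sup_right
  rw [← h2]; exact le_sup_left

theorem parabolic_iff (S : Sylow p G) : IsOfParabolicCharacteristic p G ↔
    ∀ z : G, z ≠ 1 → z ∈ omegaOne p ((S : Subgroup G) ⊓ centralizer ((S : Subgroup G) : Set G)) →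
      HasCharP p (centralizer ({z} : Set G)) := by
  constructor
  · intro h z hz1 hz
    have hzZ := omegaOne_le _ hz
    have hzS : zpowers z ≤ S := by rw [zpowers_le]; exact hzZ.1
    have hzp : IsPGroup p (zpowers z) := S.2.to_le hzS
    apply hasCharP_centralizer_of_normalizer hzp
    have := h (zpowers z) hzp (by rwa [Ne, zpowers_eq_bot]) ⟨S, by
      refine le_trans ?_ (centralizer_le_normalizer _)
      rw [le_centralizer_iff, zpowers_le]
      exact hzZ.2⟩
    exact hasCharP_iff.mp this
  · intro h R hR hRne ⟨T, hT⟩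
    rw [hasCharP_iff]
    have hRT : R ≤ T := le_sylow_of_le_normalizer hR hT
    have hne : R ⊓ centralizer ((T : Subgroup G) : Set G) ≠ ⊥ := by
      apply Cfsg.Agent.Lib.Helper13.inf_centralizer_ne_bot hR hT _ R le_rfl hT hRne
      intro a ha
      obtain ⟨k, hk⟩ := T.2 ⟨a, ha⟩
      refine ⟨k, ?_⟩
      have : a ^ p ^ k = 1 := by simpa using congrArg Subtype.val hk
      rw [this]; exact one_mem _
    obtain ⟨z', hz', hoz'⟩ := exists_order_p_of_ne_bot (hR.to_le inf_le_left) hne
    obtain ⟨g, rfl⟩ := MulAction.exists_smul_eq G S T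
    have hzS : g⁻¹ * z' * g ∈ S := mem_smul_sylow.mp (hRT hz'.1)
    have hC := h (g⁻¹ * z' * g) (by
      intro h1
      have : z' = g * (g⁻¹ * z' * g) * g⁻¹ := by group
      rw [h1] at this
      rw [this] at hoz'
      simp at hoz'
      exact (Fact.out : p.Prime).one_lt.ne hoz') (by
      apply Subgroup.subset_closure
      refine ⟨Subgroup.mem_inf.mpr ⟨hzS, ?_⟩, ?_⟩
      · rw [mem_centralizer_iff]
        intro s hs
        have h2 : g * s * g⁻¹ ∈ g • S := by
          rw [mem_smul_sylow]; simpa [mul_assoc] using hs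
        have h3 := (mem_centralizer_iff.mp hz'.2) _ h2
        have h4 : g⁻¹ * (g * s * g⁻¹ * z') * g = g⁻¹ * (z' * (g * s * g⁻¹)) * g := by rw [h3]
        simpa [mul_assoc] using h4
      · have : (g⁻¹ * z' * g) ^ p = g⁻¹ * z' ^ p * g := by
          have := conj_pow (a := g⁻¹) (b := z') (i := p)
          simpa using this
        rw [this, ← hoz', pow_orderOf_eq_one]; group)
    have hC' := hasCharP_centralizer_conj g hC
    have e : g * (g⁻¹ * z' * g) * g⁻¹ = z' := by group
    rw [e] at hC'
    exact hasCharP_normalizer_of_mem hR hz'.1 hC'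

theorem local_of_centralizers (hdiv : p ∣ Nat.card G) (S : Sylow p G)
    (h : ∀ z : G, z ∈ (S : Subgroup G) → orderOf z = p → HasCharP p (centralizer ({z} : Set G))) :
    IsOfLocalCharacteristic p G := by
  refine ⟨hdiv, ?_⟩
  intro T hT hTne
  rw [hasCharP_iff]
  obtain ⟨z', hz', hoz'⟩ := exists_order_p_of_ne_bot hT hTne
  obtain ⟨T', hTT'⟩ := hT.exists_le_sylow
  obtain ⟨g, rfl⟩ := MulAction.exists_smul_eq G S T'
  have hzS : g⁻¹ * z' * g ∈ S := mem_smul_sylow.mp (hTT' hz')
  have hC := h _ hzS (by
    have := orderOf_conj' g⁻¹ z'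
    rw [inv_inv] at this
    rw [this, hoz'])
  have hC' := hasCharP_centralizer_conj g hC
  have e : g * (g⁻¹ * z' * g) * g⁻¹ = z' := by group
  rw [e] at hC'
  exact hasCharP_normalizer_of_mem hT hz' hC'

end Cfsg.Agent.H17
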