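import Cfsg.Agent.H17.CharP4
import Cfsg.Agent.H9.PConstr2
import Cfsg.Agent.S0542

set_option autoImplicit false

/-! Characteristic `p` passes to subnormal subgroups; parabolic characteristic `p` too. -/

namespace Cfsg.Agent.H17

open Subgroup Cfsg Cfsg.Agent.Lib.Helper16

universe u

variable {G : Type u} [Group G] [Finite G] {p : ℕ} [Fact p.Prime]

theorem genFitting_charP_of_subnormal {K : Subgroup G} (hK : K.IsSubnormal)
    (h : generalizedFittingSubgroup G = pCore p G) :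
    generalizedFittingSubgroup ↥K = pCore p ↥K := by
  rw [Cfsg.H9.genFitting_eq_pCore_iff] at h ⊢
  refine ⟨Cfsg.H9.layer_eq_bot_of_subnormal hK h.1, ?_⟩
  have h1 := Cfsg.H9.map_pPrimeCore_subnormal p hK
  rw [h.2, bot_inf_eq] at h1
  exact (map_eq_bot_iff_of_injective _ K.subtype_injective).mp h1

theorem HasCharP.of_subnormal {X Y : Subgroup G} (hX : HasCharP p X) (hYX : Y ≤ X)
    (hsn : (Y.subgroupOf X).IsSubnormal) : HasCharP p Y := by
  rw [← genFitting_eq_pCore_iff_hasCharP] at hX ⊢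
  exact Cfsg.H9.genFitting_eq_pCore_congr (subgroupOfEquivOfLe hYX) (genFitting_charP_of_subnormal hsn hX)

theorem hasCharP_map_subtype {G₁ : Subgroup G} (Y : Subgroup ↥G₁) :
    HasCharP p Y ↔ HasCharP p (Y.map G₁.subtype) := by
  rw [← genFitting_eq_pCore_iff_hasCharP, ← genFitting_eq_pCore_iff_hasCharP]
  constructor
  · exact Cfsg.H9.genFitting_eq_pCore_congr (Y.equivMapOfInjective _ G₁.subtype_injective)
  · exact Cfsg.H9.genFitting_eq_pCore_congr (Y.equivMapOfInjective _ G₁.subtype_injective).symm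

theorem parabolic_of_subnormal (hG : IsOfParabolicCharacteristic p G) (S : Sylow p G)
    (G₁ : Subgroup G) (hsn : G₁.IsSubnormal)
    (hle : omegaOne p (((S : Subgroup G) ⊓ G₁) ⊓
        centralizer (((S : Subgroup G) ⊓ G₁ : Subgroup G) : Set G)) ≤
      omegaOne p ((S : Subgroup G) ⊓ centralizer ((S : Subgroup G) : Set G))) :
    IsOfParabolicCharacteristic p ↥G₁ := by
  obtain ⟨Q, hQ⟩ := Cfsg.Agent.S0542.result p G₁ hsn S
  rw [parabolic_iff Q]
  intro z hz1 hz
  rw [hasCharP_map_subtype]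
  have hmap : (centralizer ({z} : Set ↥G₁)).map G₁.subtype = G₁ ⊓ centralizer ({(z : G)} : Set G) := by
    ext x
    constructor
    · rintro ⟨y, hy, rfl⟩
      refine Subgroup.mem_inf.mpr ⟨y.2, ?_⟩
      rw [mem_centralizer_iff]
      intro w hw
      rw [Set.mem_singleton_iff] at hw
      rw [hw]
      exact congrArg Subtype.val ((mem_centralizer_iff.mp hy) z rfl)
    · intro hx
      obtain ⟨hx1, hx2⟩ := Subgroup.mem_inf.mp hx
      refine ⟨⟨x, hx1⟩, ?_, rfl⟩
      rw [SetLike.mem_coe, mem_centralizer_iff]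
      intro w hw
      rw [Set.mem_singleton_iff] at hw
      rw [hw]
      exact Subtype.ext ((mem_centralizer_iff.mp hx2) z rfl)
  rw [hmap]
  have hz' : (z : G) ∈ omegaOne p (((S : Subgroup G) ⊓ G₁) ⊓
        centralizer (((S : Subgroup G) ⊓ G₁ : Subgroup G) : Set G)) := by
    have h1 : (z : G) ∈ (omegaOne p ((Q : Subgroup ↥G₁) ⊓
        centralizer ((Q : Subgroup ↥G₁) : Set ↥G₁))).map G₁.subtype := ⟨z, hz, rfl⟩
    rw [omegaOne, MonoidHom.map_closure] at h1
    refine (Subgroup.closure_mono ?_) h1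
    rintro _ ⟨x, ⟨hx12, hx3⟩, rfl⟩
    obtain ⟨hx1, hx2⟩ := Subgroup.mem_inf.mp hx12
    rw [hQ, mem_subgroupOf] at hx1
    refine ⟨Subgroup.mem_inf.mpr ⟨⟨hx1, x.2⟩, ?_⟩, by simpa using congrArg Subtype.val hx3⟩
    rw [mem_centralizer_iff]
    rintro y ⟨hy1, hy2⟩
    have := (mem_centralizer_iff.mp hx2) ⟨y, hy2⟩ (by
      rw [SetLike.mem_coe, hQ, mem_subgroupOf]; exact hy1)
    exact congrArg Subtype.val this
  have hC := (parabolic_iff S).mp hG z (fun h => hz1 (Subtype.ext h)) (hle hz')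
  apply HasCharP.of_subnormal hC inf_le_right
  rw [inf_subgroupOf_right]
  exact hsn.subgroupOf

end Cfsg.Agent.H17
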