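import Cfsg.Agent.H9.Local2
import Cfsg.Agent.S1265
import Cfsg.Agent.S1326
import Cfsg.Agent.Lib.Helper16.CharP3
import Cfsg.Agent.H12.Cores

set_option autoImplicit false

/-! Bridges between `F*(L) = O_p(L)` and the internal "characteristic `p`" of helper16. -/

namespace Cfsg.Agent.H17

open Subgroup Cfsg Cfsg.Agent.Lib.Helper16

theorem genFitting_eq_pCore_iff_centralizer {G : Type*} [Group G] [Finite G] {p : ℕ}
    [Fact p.Prime] :
    generalizedFittingSubgroup G = pCore p G ↔ centralizer (pCore p G : Set G) ≤ pCore p G := by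
  constructor
  · intro h
    rw [← h]
    exact Cfsg.Agent.S1265.result
  · intro h
    rw [Cfsg.H9.genFitting_eq_pCore_iff]
    constructor
    · rw [← Cfsg.Agent.S1326.result]
      exact (centralizer_le (Cfsg.H9.pCore_le_fitting p)).trans (h.trans (Cfsg.H9.pCore_le_fitting p))
    · have h1 : pCore p G ⊓ pPrimeCore p G = ⊥ :=
        Cfsg.Agent.H12.inf_eq_bot_of_pGroup_of_coprime (Cfsg.Agent.H12.pCore_isPGroup p G)
          (Cfsg.Agent.H12.pPrimeCore_coprime p)
      have h2 : pPrimeCore p G ≤ centralizer (pCore p G : Set G) := by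
        rw [← commutator_eq_bot_iff_le_centralizer, eq_bot_iff, ← h1, inf_comm]
        exact commutator_le_inf _ _
      rw [eq_bot_iff, ← h1]
      exact le_inf (h2.trans h) le_rfl

theorem genFitting_eq_pCore_iff_hasCharP {H : Type*} [Group H] [Finite H] {p : ℕ} [Fact p.Prime]
    (L : Subgroup H) :
    generalizedFittingSubgroup ↥L = pCore p ↥L ↔ HasCharP p L := by
  rw [genFitting_eq_pCore_iff_centralizer, hasCharP_iff]
  rfl

end Cfsg.Agent.H17
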