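import Cfsg.Agent.H1.Coprime
import Cfsg.Agent.Lib.Helper22.Commutator

/-! Commutator lemmas in the ambient group (helper17). -/

set_option autoImplicit false

namespace Cfsg.Agent.H17

open Subgroup

variable {G : Type*} [Group G]

theorem normalizer_inf_le_normalizer_commutator (H K : Subgroup G) :
    normalizer (H : Set G) ⊓ normalizer (K : Set G) ≤ normalizer ((⁅H, K⁆ : Subgroup G) : Set G) := by
  intro g hg
  rw [mem_normalizer_iff_map_conj_eq, map_commutator,
    mem_normalizer_iff_map_conj_eq.mp hg.1, mem_normalizer_iff_map_conj_eq.mp hg.2]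

theorem normalizer_inf_le_normalizer_sup (H K : Subgroup G) :
    normalizer (H : Set G) ⊓ normalizer (K : Set G) ≤ normalizer ((H ⊔ K : Subgroup G) : Set G) := by
  intro g hg
  rw [mem_normalizer_iff_map_conj_eq, Subgroup.map_sup,
    mem_normalizer_iff_map_conj_eq.mp hg.1, mem_normalizer_iff_map_conj_eq.mp hg.2]

theorem commutator_le_of_le {H K Y : Subgroup G} (hH : H ≤ Y) (hK : K ≤ Y) : ⁅H, K⁆ ≤ Y := by
  rw [commutator_le]
  intro a ha b hb
  rw [commutatorElement_def]
  exact Y.mul_mem (Y.mul_mem (Y.mul_mem (hH ha) (hK hb)) (Y.inv_mem (hH ha))) (Y.inv_mem (hK hb))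

theorem commutator_subgroupOf {H K Y : Subgroup G} (hH : H ≤ Y) (hK : K ≤ Y) :
    ⁅H.subgroupOf Y, K.subgroupOf Y⁆ = (⁅H, K⁆ : Subgroup G).subgroupOf Y := by
  apply map_injective Y.subtype_injective
  rw [map_commutator, subgroupOf_map_subtype, subgroupOf_map_subtype, subgroupOf_map_subtype,
    inf_eq_left.mpr hH, inf_eq_left.mpr hK, inf_eq_left.mpr (commutator_le_of_le hH hK)]

/-- Three subgroups lemma modulo a subgroup `R` normalized by the three subgroups. -/
theorem three_subgroups_rel (R H₁ H₂ H₃ : Subgroup G) (n₁ : H₁ ≤ normalizer (R : Set G))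
    (n₂ : H₂ ≤ normalizer (R : Set G)) (n₃ : H₃ ≤ normalizer (R : Set G))
    (h1 : ⁅⁅H₂, H₃⁆, H₁⁆ ≤ R) (h2 : ⁅⁅H₃, H₁⁆, H₂⁆ ≤ R) : ⁅⁅H₁, H₂⁆, H₃⁆ ≤ R := by
  set Y := normalizer (R : Set G) with hY
  have hn : (R.subgroupOf Y).Normal :=
    (normal_subgroupOf_iff_le_normalizer le_normalizer).mpr le_rfl
  have key := Lib.Helper22.three_subgroups_normal (R.subgroupOf Y) (H₁.subgroupOf Y)
    (H₂.subgroupOf Y) (H₃.subgroupOf Y)
    (by
      rw [commutator_subgroupOf n₂ n₃, commutator_subgroupOf (commutator_le_of_le n₂ n₃) n₁]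
      exact fun x hx => h1 hx)
    (by
      rw [commutator_subgroupOf n₃ n₁, commutator_subgroupOf (commutator_le_of_le n₃ n₁) n₂]
      exact fun x hx => h2 hx)
  rw [commutator_subgroupOf n₁ n₂, commutator_subgroupOf (commutator_le_of_le n₁ n₂) n₃] at key
  intro x hx
  have hxY : x ∈ Y := commutator_le_of_le (commutator_le_of_le n₁ n₂) n₃ hx
  exact key (show (⟨x, hxY⟩ : ↥Y) ∈ (⁅⁅H₁, H₂⁆, H₃⁆ : Subgroup G).subgroupOf Y from hx)

/-- A subgroup `Q` of a nilpotent subgroup `X` with `[Q, X] = Q` is trivial. -/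
theorem eq_bot_of_commutator_eq_self {Q X : Subgroup G} (hX : Group.IsNilpotent ↥X) (hQX : Q ≤ X)
    (h : Q ≤ ⁅Q, X⁆) : Q = ⊥ := by
  obtain ⟨n, hn⟩ := (isNilpotent_iff_lowerCentralSeries X).mp hX
  have : ∀ k, Q ≤ X.lowerCentralSeries k := by
    intro k
    induction k with
    | zero => exact hQX
    | succ k ih =>
      rw [Subgroup.lowerCentralSeries_succ]
      exact h.trans (commutator_mono ih le_rfl)
  rw [eq_bot_iff, ← hn]
  exact this n

theorem coprime_card_of_pgroup [Finite G] {p : ℕ} [hp : Fact p.Prime] {P B : Subgroup G}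
    (hP : IsPGroup p ↥P) (hB : ¬ p ∣ Nat.card ↥B) : (Nat.card ↥B).Coprime (Nat.card ↥P) := by
  obtain ⟨n, hn⟩ := IsPGroup.iff_card.mp hP
  rw [hn]
  exact Nat.Coprime.pow_right _ ((Nat.Prime.coprime_iff_not_dvd hp.out).mpr hB).symm

/-- S2908 -/
theorem commutator_eq_bot_of_le_commutator [Finite G] {p : ℕ} [Fact p.Prime] (P A B : Subgroup G)
    (hP : IsPGroup p ↥P) (hA : IsPGroup p ↥A) (hB : ¬ p ∣ Nat.card ↥B)
    (hnA : A ≤ normalizer (P : Set G)) (hnB : B ≤ normalizer (P : Set G)) (hAB : ⁅A, B⁆ = ⊥)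
    (hcomm : ⁅P, B⁆ ≤ ⁅P, A⁆) : ⁅P, B⁆ = ⊥ := by
  have hPnil : Group.IsNilpotent ↥P := hP.isNilpotent
  have hstab : ⁅⁅P, B⁆, B⁆ = ⁅P, B⁆ :=
    Cfsg.H1.coprime_commutator_stable B P hnB (coprime_card_of_pgroup hP hB) (Or.inr inferInstance)
  set Q := ⁅P, B⁆ with hQ
  set X := P ⊔ A with hX
  have hQP : Q ≤ P := Cfsg.H1.commutator_le_of_le_normalizer hnB
  have hXp : IsPGroup p ↥X := by
    rw [hX, sup_comm]
    exact hA.to_sup_of_normal_right' hP hnA
  have hBA : B ≤ normalizer (A : Set G) := by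
    refine le_trans ?_ (centralizer_le_normalizer _)
    rw [← commutator_eq_bot_iff_le_centralizer, commutator_comm]
    exact hAB
  have hAB' : A ≤ normalizer (B : Set G) := by
    refine le_trans ?_ (centralizer_le_normalizer _)
    rw [← commutator_eq_bot_iff_le_centralizer]
    exact hAB
  have nQ : ∀ K : Subgroup G, K ≤ normalizer (P : Set G) → K ≤ normalizer (B : Set G) →
      K ≤ normalizer (Q : Set G) := fun K h1 h2 =>
    (le_inf h1 h2).trans (normalizer_inf_le_normalizer_commutator P B)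
  have nQA : A ≤ normalizer (Q : Set G) := nQ A hnA hAB'
  have nQB : B ≤ normalizer (Q : Set G) := nQ B hnB le_normalizer
  have nQP : P ≤ normalizer (Q : Set G) := normalizer_commutator_ge_left P B
  have nXP : P ≤ normalizer (X : Set G) := (le_sup_left (a := P) (b := A)).trans le_normalizer
  have nXA : A ≤ normalizer (X : Set G) := (le_sup_right (a := P) (b := A)).trans le_normalizer
  have nXB : B ≤ normalizer (X : Set G) :=
    (le_inf hnB hBA).trans (normalizer_inf_le_normalizer_sup P A)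
  set R := ⁅Q, X⁆ with hR
  have nR : ∀ K : Subgroup G, K ≤ normalizer (Q : Set G) → K ≤ normalizer (X : Set G) →
      K ≤ normalizer (R : Set G) := fun K h1 h2 =>
    (le_inf h1 h2).trans (normalizer_inf_le_normalizer_commutator Q X)
  have h3 : ⁅⁅P, A⁆, B⁆ ≤ R := by
    apply three_subgroups_rel R P A B (nR P nQP nXP) (nR A nQA nXA) (nR B nQB nXB)
    · rw [hAB, commutator_bot_left]
      exact bot_le
    · rw [commutator_comm B P]
      exact commutator_mono le_rfl le_sup_right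
  apply eq_bot_of_commutator_eq_self hXp.isNilpotent (hQP.trans le_sup_left)
  calc Q = ⁅Q, B⁆ := hstab.symm
    _ ≤ ⁅⁅P, A⁆, B⁆ := commutator_mono hcomm le_rfl
    _ ≤ R := h3

end Cfsg.Agent.H17
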