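import Cfsg.Prelude.Def_DStar
import Cfsg.Prelude.Def_PLocal
import Cfsg.Agent.S0015
import Cfsg.Agent.S0649
import Cfsg.Agent.S0650
import Cfsg.Agent.H17.CD2
import Cfsg.Agent.H17.Comm
import Cfsg.Agent.Lib.Helper13.Glaub1

set_option autoImplicit false

/-! The Glauberman--Solomon subgroup `D*(S)`. -/

namespace Cfsg.Agent.H17

open Subgroup
open scoped commutatorElement

variable {S : Type*} [Group S]

theorem mem_dStarFamily_iff (A : Subgroup S) : A ∈ Cfsg.dStarFamily S ↔
    A ≤ centralizer (A : Set S) ∧ ∀ x : S,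
      ⁅⁅A ⊔ zpowers x, A ⊔ zpowers x⁆, A ⊔ zpowers x⁆ = ⊥ → x ∈ centralizer (A : Set S) := by
  unfold Cfsg.dStarFamily
  simp only [Set.mem_ofPred_eq, le_centralizer_iff_isMulCommutative, mem_centralizer_iff]
  rfl

theorem cl2_of_central_commutators {A : Subgroup S} {b : S} (hA : A ≤ centralizer (A : Set S))
    (Ω : Subgroup S) (hΩA : Ω ≤ centralizer (A : Set S)) (hΩb : ∀ w ∈ Ω, w * b = b * w)
    (hab : ∀ a ∈ A, ⁅a, b⁆ ∈ Ω) :
    ⁅⁅A ⊔ zpowers b, A ⊔ zpowers b⁆, A ⊔ zpowers b⁆ = ⊥ := by
  have hΩX : Ω ≤ centralizer ((A ⊔ zpowers b : Subgroup S) : Set S) := by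
    rw [centralizer_sup']
    refine le_inf hΩA ?_
    rw [le_centralizer_iff, zpowers_le, mem_centralizer_iff]
    exact fun w hw => hΩb w hw
  have h0 : A ⊔ zpowers b = closure ((A : Set S) ∪ {b}) := by
    rw [Subgroup.closure_union, closure_eq, zpowers_eq_closure]
  have h1 : ⁅A ⊔ zpowers b, A ⊔ zpowers b⁆ ≤ Ω := by
    rw [h0]
    apply Cfsg.Agent.Lib.Helper13.commutator_closure_le_of_central
    · intro x hx w hw
      rw [← h0] at hx
      have := (mem_centralizer_iff.mp (hΩX hw)) x hx
      rw [this]; group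
    · intro x hx y hy
      rcases hx with hx | hx <;> rcases hy with hy | hy
      · have : ⁅x, y⁆ = 1 := by
          rw [commutatorElement_eq_one_iff_mul_comm]
          exact ((mem_centralizer_iff.mp (hA hx)) y hy).symm
        rw [this]; exact one_mem _
      · rw [Set.mem_singleton_iff] at hy
        rw [hy]; exact hab x hx
      · rw [Set.mem_singleton_iff] at hx
        rw [hx, ← commutatorElement_inv]
        exact inv_mem (hab y hy)
      · rw [Set.mem_singleton_iff] at hx hy
        rw [hx, hy, commutatorElement_self]; exact one_mem _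
  rw [eq_bot_iff]
  refine (commutator_mono h1 le_rfl).trans ?_
  rw [le_bot_iff, commutator_eq_bot_iff_le_centralizer]
  exact hΩX

/-- a member of the family centralizes every abelian subgroup it normalizes -/
theorem dStarFamily_centralizes [Finite S] [hn : Group.IsNilpotent S] {A : Subgroup S}
    (hA : A ∈ Cfsg.dStarFamily S) {B : Subgroup S} (hB : B ≤ centralizer (B : Set S)) :
    ∀ (n : ℕ) (W : Subgroup S), Nat.card W = n → W ≤ B → A ≤ normalizer (W : Set S) →
      W ≤ centralizer (A : Set S) := by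
  rw [mem_dStarFamily_iff] at hA
  intro n
  induction n using Nat.strong_induction_on with
  | _ n ih =>
    intro W hWn hWB hAW
    by_cases hW : W = ⊥
    · rw [hW]; exact bot_le
    have hle : ⁅W, A⁆ ≤ W := le_normalizer_iff_commutator_le_left.mp hAW
    have hlt : ⁅W, A⁆ < W := by
      apply lt_of_le_of_ne hle
      intro heq
      apply hW
      have htop : Group.IsNilpotent (⊤ : Subgroup S) := inferInstance
      exact eq_bot_of_commutator_eq_self htop le_top
        (by conv_lhs => rw [← heq]
            exact commutator_mono le_rfl le_top)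
    have hcard : Nat.card (⁅W, A⁆ : Subgroup S) < n := by
      rw [← hWn]
      exact Cfsg.H1.card_lt_of_lt hlt
    have h1 := ih _ hcard ⁅W, A⁆ rfl (hle.trans hWB)
      ((le_inf hAW le_normalizer).trans (normalizer_inf_le_normalizer_commutator W A))
    intro b hb
    apply hA.2 b
    apply cl2_of_central_commutators hA.1 ⁅W, A⁆ h1
    · intro w hw
      exact ((mem_centralizer_iff.mp (hB (hWB hb))) w (hWB (hle hw)))
    · intro a ha
      rw [← commutatorElement_inv]
      exact inv_mem (commutator_mem_commutator hb ha)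

theorem dStarFamily_le_centralizer [Finite S] [Group.IsNilpotent S] {A B : Subgroup S}
    (hA : A ∈ Cfsg.dStarFamily S) (hB : B ≤ centralizer (B : Set S))
    (hAB : A ≤ normalizer (B : Set S)) : B ≤ centralizer (A : Set S) :=
  dStarFamily_centralizes hA hB _ B rfl le_rfl hAB

theorem dStar_le_of_maximal_normal_abelian [Finite S] [Group.IsNilpotent S] (M : Subgroup S)
    (hMn : M.Normal) (hMc : IsMulCommutative M)
    (hmax : ∀ B : Subgroup S, B.Normal → IsMulCommutative B → M ≤ B → B = M) :
    Cfsg.dStar S ≤ M := by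
  have hC : centralizer (M : Set S) = M := Cfsg.Agent.S0015.result M hmax
  apply sSup_le
  intro A hA
  have := dStarFamily_le_centralizer hA (le_centralizer_iff_isMulCommutative.mpr hMc)
    (by rw [normalizer_eq_top]; exact le_top)
  rw [← hC]; exact le_centralizer_iff.mp this

theorem exists_maximal_normal_abelian [Finite S] : ∃ M : Subgroup S, M.Normal ∧
    IsMulCommutative M ∧ ∀ B : Subgroup S, B.Normal → IsMulCommutative B → M ≤ B → B = M := by
  have : Nonempty {B : Subgroup S // B.Normal ∧ IsMulCommutative B} :=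
    ⟨⟨⊥, inferInstance, inferInstance⟩⟩
  obtain ⟨M, hM⟩ := Finite.exists_max
    (fun B : {B : Subgroup S // B.Normal ∧ IsMulCommutative B} => Nat.card ↥B.1)
  refine ⟨M.1, M.2.1, M.2.2, ?_⟩
  intro B hBn hBc hMB
  exact (Subgroup.eq_of_le_of_card_ge hMB (hM ⟨B, hBn, hBc⟩)).symm

theorem dStar_abelian [Finite S] [Group.IsNilpotent S] :
    Cfsg.dStar S ≤ centralizer (Cfsg.dStar S : Set S) := by
  obtain ⟨M, hMn, hMc, hmax⟩ := exists_maximal_normal_abelian (S := S)
  have h1 := dStar_le_of_maximal_normal_abelian M hMn hMc hmax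
  have h2 : M ≤ centralizer (M : Set S) := le_centralizer_iff_isMulCommutative.mpr hMc
  exact (h1.trans h2).trans (centralizer_le h1)

theorem dStar_mem [Finite S] [Group.IsNilpotent S] : Cfsg.dStar S ∈ Cfsg.dStarFamily S := by
  rw [mem_dStarFamily_iff]
  refine ⟨dStar_abelian, ?_⟩
  intro x hx
  have : Cfsg.dStar S ≤ centralizer ((zpowers x : Subgroup S) : Set S) := by
    apply sSup_le
    intro A hA
    have hAD : A ≤ Cfsg.dStar S := le_sSup hA
    rw [le_centralizer_iff, zpowers_le]
    apply ((mem_dStarFamily_iff A).mp hA).2 x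
    rw [eq_bot_iff, ← hx]
    have hle : A ⊔ zpowers x ≤ Cfsg.dStar S ⊔ zpowers x := sup_le_sup_right hAD _
    exact commutator_mono (commutator_mono hle hle) hle
  rw [le_centralizer_iff, zpowers_le] at this
  exact this

theorem center_mem_dStarFamily : center S ∈ Cfsg.dStarFamily S := by
  rw [mem_dStarFamily_iff]
  constructor
  · intro z hz
    rw [mem_centralizer_iff]
    intro w _
    exact (mem_center_iff.mp hz w)
  · intro x _
    rw [mem_centralizer_iff]
    intro z hz
    exact (mem_center_iff.mp hz x).symm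

theorem dStarFamily_map {T : Type*} [Group T] (e : S ≃* T) {A : Subgroup S}
    (hA : A ∈ Cfsg.dStarFamily S) : A.map e.toMonoidHom ∈ Cfsg.dStarFamily T := by
  rw [mem_dStarFamily_iff] at hA ⊢
  constructor
  · rintro _ ⟨a, ha, rfl⟩
    rw [mem_centralizer_iff]
    rintro _ ⟨a', ha', rfl⟩
    have := (mem_centralizer_iff.mp (hA.1 ha)) a' ha'
    change e a' * e a = e a * e a'
    rw [← map_mul, ← map_mul, this]
  · intro y hy
    obtain ⟨x, rfl⟩ := e.surjective y
    have h1 : A.map e.toMonoidHom ⊔ zpowers (e x) = (A ⊔ zpowers x).map e.toMonoidHom := by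
      rw [Subgroup.map_sup, MonoidHom.map_zpowers]; rfl
    rw [h1, ← map_commutator, ← map_commutator,
      map_eq_bot_iff_of_injective _ e.injective] at hy
    have h2 := hA.2 x hy
    rw [mem_centralizer_iff]
    rintro _ ⟨a', ha', rfl⟩
    have := (mem_centralizer_iff.mp h2) a' ha'
    change e a' * e x = e x * e a'
    rw [← map_mul, ← map_mul, this]

theorem dStar_normal : (Cfsg.dStar S).Normal := by
  constructor
  intro n hn g
  have h1 : (Cfsg.dStar S).map (MulAut.conj g).toMonoidHom ≤ Cfsg.dStar S := by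
    rw [map_le_iff_le_comap]
    apply sSup_le
    intro A hA
    rw [← map_le_iff_le_comap]
    exact le_sSup (dStarFamily_map (MulAut.conj g) hA)
  exact h1 ⟨n, hn, rfl⟩

theorem dStar_le_maxAb [Finite S] {p : ℕ} [Fact p.Prime] (hS : IsPGroup p S) :
    ∀ (n : ℕ) (B : Subgroup S), B ∈ Cfsg.maxAbelianSubgroups S →
      Nat.card (Cfsg.dStar S) - Nat.card (B ⊓ Cfsg.dStar S : Subgroup S) = n →
      Cfsg.dStar S ≤ B := by
  have hnil : Group.IsNilpotent S := hS.isNilpotent
  set D := Cfsg.dStar S with hD
  have hDn : D.Normal := dStar_normal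
  have hDc : D ≤ centralizer (D : Set S) := dStar_abelian
  have hDm := (mem_dStarFamily_iff D).mp dStar_mem
  intro n
  induction n using Nat.strong_induction_on with
  | _ n ih =>
    intro B hB hn
    have hBc : B ≤ centralizer (B : Set S) := ((maxAb_iff B).mp hB).1
    by_cases hDB : D ≤ normalizer (B : Set S)
    · have h1 : B ≤ centralizer (D : Set S) := by
        intro x hx
        apply hDm.2 x
        apply cl2_of_central_commutators hDc (D ⊓ B) (inf_le_left.trans hDc)
        · intro w hw
          exact ((mem_centralizer_iff.mp (hBc hx)) w hw.2)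
        · intro d hd
          refine ⟨?_, ?_⟩
          · rw [commutatorElement_def]
            have : d * x * d⁻¹ * x⁻¹ = d * (x * d⁻¹ * x⁻¹) := by group
            rw [this]
            exact D.mul_mem hd (hDn.conj_mem _ (D.inv_mem hd) x)
          · rw [commutatorElement_def]
            exact B.mul_mem ((mem_normalizer_iff.mp (hDB hd) x).mp hx) (B.inv_mem hx)
      rw [← maxAb_centralizer hB]
      exact le_centralizer_iff.mp h1
    · exfalso
      have hDD : ⁅D, D⁆ ≤ B := by
        rw [(commutator_eq_bot_iff_le_centralizer).mpr hDc]; exact bot_le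
      have hDc' : IsMulCommutative D := le_centralizer_iff_isMulCommutative.mp hDc
      obtain ⟨b, hb, hbN, hbB⟩ := Cfsg.Agent.S0649.result hS D (fun _ => hDc') B hB.1 hDD hDB
      obtain ⟨h1, h2, -, h4, -, -, h7, -⟩ :=
        Cfsg.Agent.S0650.result hS D (fun _ => hDc') B hB.1 hDD hDB b hb hbN hbB
      set Astar := (B ⊓ B.map (MulAut.conj (b⁻¹)).toMonoidHom) ⊔
        Subgroup.closure {g : S | ∃ a ∈ B, g = a * b⁻¹ * a⁻¹ * b} with hAstar
      have hAm : Astar ∈ Cfsg.maxAbelianSubgroups S := ⟨h2, fun C hC => by rw [h1]; exact hB.2 C hC⟩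
      have hc1 : Nat.card (B ⊓ D : Subgroup S) < Nat.card (Astar ⊓ D : Subgroup S) :=
        Cfsg.H1.card_lt_of_lt h4
      have hc2 : Nat.card (Astar ⊓ D : Subgroup S) ≤ Nat.card D := card_le_of_le inf_le_right
      have := ih (Nat.card D - Nat.card (Astar ⊓ D : Subgroup S)) (by omega) Astar hAm rfl
      exact hDB (this.trans h7)

end Cfsg.Agent.H17
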