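import Cfsg.Agent.H17.DStar

set_option autoImplicit false

/-! `D*(P)` for a `p`-subgroup `P` of an ambient group. -/

namespace Cfsg.Agent.H17

open Subgroup
open scoped commutatorElement

variable {G : Type*} [Group G]

theorem map_subtype_le_centralizer_iff {P : Subgroup G} (X Y : Subgroup ↥P) :
    X.map P.subtype ≤ centralizer ((Y.map P.subtype : Subgroup G) : Set G) ↔
      X ≤ centralizer (Y : Set ↥P) := by
  constructor
  · intro h x hx
    rw [mem_centralizer_iff]
    intro y hy
    exact Subtype.ext ((mem_centralizer_iff.mp (h ⟨x, hx, rfl⟩)) y ⟨y, hy, rfl⟩)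
  · rintro h _ ⟨x, hx, rfl⟩
    rw [mem_centralizer_iff]
    rintro _ ⟨y, hy, rfl⟩
    exact congrArg Subtype.val ((mem_centralizer_iff.mp (h hx)) y hy)

theorem map_subtype_le_normalizer_iff {P : Subgroup G} (X Y : Subgroup ↥P) :
    X.map P.subtype ≤ normalizer ((Y.map P.subtype : Subgroup G) : Set G) ↔
      X ≤ normalizer (Y : Set ↥P) := by
  rw [le_normalizer_iff_commutator_le_left, le_normalizer_iff_commutator_le_left, ← map_commutator,
    map_le_map_iff_of_injective P.subtype_injective]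

theorem cl2_map_subtype_iff {P : Subgroup G} (X : Subgroup ↥P) :
    ⁅⁅X.map P.subtype, X.map P.subtype⁆, X.map P.subtype⁆ = ⊥ ↔ ⁅⁅X, X⁆, X⁆ = ⊥ := by
  rw [← map_commutator, ← map_commutator, map_eq_bot_iff_of_injective _ P.subtype_injective]

theorem map_sup_zpowers {P : Subgroup G} (X : Subgroup ↥P) (x : ↥P) :
    (X ⊔ zpowers x).map P.subtype = X.map P.subtype ⊔ zpowers (x : G) := by
  rw [Subgroup.map_sup, MonoidHom.map_zpowers]; rfl

theorem dStarOf_le (P : Subgroup G) : Cfsg.dStarOf P ≤ P := map_subtype_le _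

variable [Finite G] {p : ℕ} [Fact p.Prime]

theorem dStarOf_abelian {P : Subgroup G} (hP : IsPGroup p P) :
    Cfsg.dStarOf P ≤ centralizer (Cfsg.dStarOf P : Set G) := by
  have := hP.isNilpotent
  exact (map_subtype_le_centralizer_iff _ _).mpr dStar_abelian

omit [Finite G] [Fact p.Prime] in
theorem le_normalizer_dStarOf (P : Subgroup G) : P ≤ normalizer (Cfsg.dStarOf P : Set G) := by
  have h1 : (⊤ : Subgroup ↥P) ≤ normalizer (Cfsg.dStar ↥P : Set ↥P) := by
    have := dStar_normal (S := ↥P)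
    rw [normalizer_eq_top]
  have h2 := (map_subtype_le_normalizer_iff _ _).mpr h1
  rwa [← MonoidHom.range_eq_map, P.range_subtype] at h2

theorem dStarOf_prop {P : Subgroup G} (hP : IsPGroup p P) {x : G} (hx : x ∈ P)
    (h : ⁅⁅Cfsg.dStarOf P ⊔ zpowers x, Cfsg.dStarOf P ⊔ zpowers x⁆,
      Cfsg.dStarOf P ⊔ zpowers x⁆ = ⊥) : x ∈ centralizer (Cfsg.dStarOf P : Set G) := by
  have := hP.isNilpotent
  have h1 := ((mem_dStarFamily_iff _).mp (dStar_mem (S := ↥P))).2 ⟨x, hx⟩ (by
    rw [← cl2_map_subtype_iff, map_sup_zpowers]; exact h)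
  have h2 : zpowers (⟨x, hx⟩ : ↥P) ≤ centralizer (Cfsg.dStar ↥P : Set ↥P) := by
    rwa [zpowers_le]
  have h3 := (map_subtype_le_centralizer_iff _ _).mpr h2
  rw [MonoidHom.map_zpowers, zpowers_le] at h3
  exact h3

omit [Finite G] [Fact p.Prime] in
theorem le_dStarOf {P N : Subgroup G} (hNP : N ≤ P) (hN : N ≤ centralizer (N : Set G))
    (h : ∀ x ∈ P, ⁅⁅N ⊔ zpowers x, N ⊔ zpowers x⁆, N ⊔ zpowers x⁆ = ⊥ →
      x ∈ centralizer (N : Set G)) : N ≤ Cfsg.dStarOf P := by
  have e : (N.subgroupOf P).map P.subtype = N := map_subgroupOf_eq_of_le hNP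
  have h1 : N.subgroupOf P ∈ Cfsg.dStarFamily ↥P := by
    rw [mem_dStarFamily_iff]
    constructor
    · rw [← map_subtype_le_centralizer_iff, e]; exact hN
    · intro x hx
      rw [← cl2_map_subtype_iff, map_sup_zpowers, e] at hx
      have h2 := h x x.2 hx
      have h3 : (zpowers x).map P.subtype ≤
          centralizer (((N.subgroupOf P).map P.subtype : Subgroup G) : Set G) := by
        rw [e, MonoidHom.map_zpowers, zpowers_le]; exact h2
      rw [map_subtype_le_centralizer_iff, zpowers_le] at h3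
      exact h3
  have h2 : N.subgroupOf P ≤ Cfsg.dStar ↥P := le_sSup h1
  rw [← e]
  exact map_mono h2

theorem dStarOf_centralizes {P B : Subgroup G} (hP : IsPGroup p P) (hBP : B ≤ P)
    (hB : B ≤ centralizer (B : Set G)) (hDB : Cfsg.dStarOf P ≤ normalizer (B : Set G)) :
    B ≤ centralizer (Cfsg.dStarOf P : Set G) := by
  have := hP.isNilpotent
  have e : (B.subgroupOf P).map P.subtype = B := map_subgroupOf_eq_of_le hBP
  have h1 := dStarFamily_le_centralizer (dStar_mem (S := ↥P)) (B := B.subgroupOf P)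
    (by rw [← map_subtype_le_centralizer_iff, e]; exact hB)
    (by rw [← map_subtype_le_normalizer_iff, e]; exact hDB)
  rw [← map_subtype_le_centralizer_iff, e] at h1
  exact h1

end Cfsg.Agent.H17
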