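import Mathlib.GroupTheory.OrderOfElement
import Mathlib.GroupTheory.Sylow

/-! Elementary lemmas on orders of elements (helper17). -/

set_option autoImplicit false

namespace Cfsg.Agent.H17

variable {G : Type*} [Group G]

/-- The `p'`-part: some `p`-power power of `x` has order prime to `p`. -/
theorem exists_pow_coprime_order [Finite G] (p : ℕ) [hp : Fact p.Prime] (x : G) :
    ∃ k : ℕ, (orderOf (x ^ p ^ k)).Coprime p := by
  have hpos : orderOf x ≠ 0 := (orderOf_pos x).ne'
  obtain ⟨k, m, hm, hkm⟩ := Nat.exists_eq_pow_mul_and_not_dvd hpos p hp.out.ne_one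
  refine ⟨k, ?_⟩
  have h2 : orderOf (x ^ p ^ k) = m := by
    rw [orderOf_pow' _ (pow_ne_zero k hp.out.ne_zero), hkm, Nat.gcd_eq_right (Dvd.intro _ rfl),
      Nat.mul_div_cancel_left _ (pow_pos hp.out.pos k)]
  rw [h2]
  exact ((Nat.Prime.coprime_iff_not_dvd hp.out).mpr hm).symm

theorem odd_iff_coprime_two (n : ℕ) : Odd n ↔ n.Coprime 2 := by
  rw [Nat.coprime_comm, Nat.coprime_two_left]

/-- If `w` commutes with `h ^ n` and `n` is prime to the order of `h`, then `w` commutes with `h`. -/
theorem commute_of_commute_pow {w h : G} {n : ℕ} (hn : n.Coprime (orderOf h))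
    (hw : Commute w (h ^ n)) : Commute w h := by
  obtain ⟨m, hm⟩ := exists_pow_eq_self_of_coprime hn
  have := hw.pow_right m
  rwa [hm] at this

end Cfsg.Agent.H17
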