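import Cfsg.Agent.H17.TransferTI
import Cfsg.Agent.H17.SylIn

/-! Extremely closed subgroups: `⟨H, H^g⟩ ∩ M = H` (helper17). -/

set_option autoImplicit false

namespace Cfsg.Agent.H17

open Subgroup

variable {G : Type*} [Group G]

theorem coatom_subgroupOf_iff {H M : Subgroup G} (hHM : H ≤ M)
    (hmaxH : IsCoatom (H.subgroupOf M)) :
    ¬ M ≤ H ∧ ∀ K : Subgroup G, H ≤ K → K ≤ M → K = H ∨ K = M := by
  refine ⟨fun h => hmaxH.1 (subgroupOf_eq_top.mpr h), ?_⟩
  intro K h1 h2
  have h3 : H.subgroupOf M ≤ K.subgroupOf M := fun x hx => h1 hx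
  rcases hmaxH.le_iff.mp h3 with h | h
  · right; exact le_antisymm h2 (subgroupOf_eq_top.mp h)
  · left
    rw [subgroupOf_inj] at h
    rwa [inf_eq_left.mpr h2, inf_eq_left.mpr hHM] at h

theorem quotient_comm_of_coatom {M : Type*} [Group M] (H : Subgroup M) [H.Normal]
    (hmax : IsCoatom H) : ∀ a b : M ⧸ H, a * b = b * a := by
  obtain ⟨x, -, hx⟩ := SetLike.not_le_iff_exists.mp (fun h : (⊤ : Subgroup M) ≤ H => hmax.1 (top_le_iff.mp h))
  have hK : (zpowers (QuotientGroup.mk' H x)).comap (QuotientGroup.mk' H) = ⊤ := by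
    have h1 : H ≤ (zpowers (QuotientGroup.mk' H x)).comap (QuotientGroup.mk' H) := by
      intro y hy
      rw [mem_comap]
      have : (QuotientGroup.mk' H) y = 1 := (QuotientGroup.eq_one_iff y).mpr hy
      rw [this]
      exact one_mem _
    rcases hmax.le_iff.mp h1 with h | h
    · exact h
    · exfalso
      apply hx
      rw [← h, mem_comap]
      exact mem_zpowers _
  have hall : ∀ a : M ⧸ H, a ∈ zpowers (QuotientGroup.mk' H x) := by
    intro a
    obtain ⟨m, rfl⟩ := QuotientGroup.mk'_surjective H a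
    have : m ∈ (zpowers (QuotientGroup.mk' H x)).comap (QuotientGroup.mk' H) := by
      rw [hK]; trivial
    exact this
  intro a b
  obtain ⟨i, rfl⟩ := hall a
  obtain ⟨j, rfl⟩ := hall b
  exact ((Commute.refl _).zpow_zpow i j).eq

theorem normalClosure_inf_of_extClosed [Finite G] (H M : Subgroup G) (hHM : H ≤ M)
    (hcl : ∀ g : G, (H ⊔ H.map (MulAut.conj g).toMonoidHom) ⊓ M = H)
    (hmaxH : IsCoatom (H.subgroupOf M)) (hmaxM : IsCoatom M) :
    normalClosure (H : Set G) ⊓ M = H := by
  obtain ⟨hHne, hmax⟩ := coatom_subgroupOf_iff hHM hmaxH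
  have hge : H ≤ normalClosure (H : Set G) ⊓ M := le_inf le_normalClosure hHM
  have hconjM : ∀ m ∈ M, H.map (MulAut.conj m).toMonoidHom ≤ H := by
    intro m hm
    have h1 : H ⊔ H.map (MulAut.conj m).toMonoidHom ≤ M := by
      apply sup_le hHM
      intro y hy
      rw [mem_map_conj_iff] at hy
      have := M.mul_mem (M.mul_mem hm (hHM hy)) (M.inv_mem hm)
      simpa [mul_assoc] using this
    have h2 := hcl m
    rw [inf_eq_left.mpr h1] at h2
    exact le_sup_right.trans h2.le
  have hn : (H.subgroupOf M).Normal := by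
    constructor
    intro n hn g
    rw [mem_subgroupOf] at hn ⊢
    apply hconjM g g.2
    rw [mem_map_conj_iff]
    simpa [mul_assoc] using hn
  have hMN : M ≤ normalizer (H : Set G) := fun m hm => mem_normalizer_of_map_conj_le (hconjM m hm)
  rcases hmaxM.le_iff.mp hMN with hN | hN
  · have : H.Normal := normalizer_eq_top_iff.mp hN
    rw [normalClosure_eq_self]
    exact inf_eq_left.mpr hHM
  by_cases hex : ∃ g : G, g ∉ M ∧ ∃ y ∈ M, g * y * g⁻¹ ∈ M ∧ y ∉ H
  · obtain ⟨g, hg, y, hy, hgy, hyH⟩ := hex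
    set L := H ⊔ H.map (MulAut.conj g⁻¹).toMonoidHom with hL
    have hyL : y ∈ normalizer (L : Set G) := by
      apply mem_normalizer_of_map_conj_le
      rw [hL, Subgroup.map_sup]
      apply sup_le_sup (hconjM y hy)
      intro z hz
      rw [mem_map_conj_iff, mem_map_conj_iff] at hz
      rw [mem_map_conj_iff]
      have h1 : (g * y * g⁻¹) * (g⁻¹⁻¹ * (y⁻¹ * z * y) * g⁻¹) * (g * y * g⁻¹)⁻¹ ∈ H := by
        apply hconjM _ hgy
        rw [mem_map_conj_iff]
        simpa [mul_assoc] using hz
      have e : (g * y * g⁻¹) * (g⁻¹⁻¹ * (y⁻¹ * z * y) * g⁻¹) * (g * y * g⁻¹)⁻¹ = g⁻¹⁻¹ * z * g⁻¹ := by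
        group
      rwa [e] at h1
    have hHT : H ≤ normalizer (L : Set G) := (le_sup_left (a := H)).trans le_normalizer
    have hMT : M ≤ normalizer (L : Set G) := by
      have h1 : H ⊔ zpowers y ≤ M := sup_le hHM (zpowers_le.mpr hy)
      rcases hmax _ le_sup_left h1 with h | h
      · exfalso
        apply hyH
        rw [← h]
        exact le_sup_right (a := H) (mem_zpowers y)
      · rw [← h]
        exact sup_le hHT (zpowers_le.mpr hyL)
    rcases hmaxM.le_iff.mp hMT with hT | hT
    · have : L.Normal := normalizer_eq_top_iff.mp hT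
      apply le_antisymm _ hge
      have h1 : normalClosure (H : Set G) ≤ L := normalClosure_le_normal (le_sup_left (a := H))
      calc normalClosure (H : Set G) ⊓ M ≤ L ⊓ M := inf_le_inf_right _ h1
        _ = H := hcl g⁻¹
    · exfalso
      have h1 : L ≤ M := by rw [← hT]; exact le_normalizer
      have h2 := hcl g⁻¹
      rw [← hL, inf_eq_left.mpr h1] at h2
      have h3 : H.map (MulAut.conj g⁻¹).toMonoidHom ≤ H := by
        calc H.map (MulAut.conj g⁻¹).toMonoidHom ≤ L := le_sup_right
          _ = H := h2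
      have h4 : g⁻¹ ∈ M := by
        rw [← hN]
        exact mem_normalizer_of_map_conj_le h3
      exact hg (by simpa using M.inv_mem h4)
  · push Not at hex
    obtain ⟨N, hN1, hN2⟩ := exists_normal_of_TI H M hHM (quotient_comm_of_coatom _ hmaxH)
      (fun g hg y hy h => hex g hg y hy h)
    apply le_antisymm _ hge
    have h1 : normalClosure (H : Set G) ≤ N := by
      apply normalClosure_le_normal
      intro x hx
      have : x ∈ N ⊓ M := by rw [hN2]; exact hx
      exact this.1
    calc normalClosure (H : Set G) ⊓ M ≤ N ⊓ M := inf_le_inf_right _ h1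
      _ = H := hN2

end Cfsg.Agent.H17
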