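import Cfsg.Agent.H17.ExtClosed
import Cfsg.Agent.H17.Elem
import Cfsg.Agent.H17.CD

/-! Generation of simple groups by two conjugates of a normal subgroup of prime index in a maximal
subgroup (helper17). -/

set_option autoImplicit false

namespace Cfsg.Agent.H17

open Subgroup

variable {G : Type*} [Group G]

theorem eq_or_eq_of_card_prime [Finite G] {H K M : Subgroup G} {p : ℕ} (hp : p.Prime)
    (hHK : H ≤ K) (hKM : K ≤ M) (hc : Nat.card ↥M = p * Nat.card ↥H) : K = H ∨ K = M := by
  obtain ⟨a, ha⟩ := card_dvd_of_le hHK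
  obtain ⟨b, hb⟩ := card_dvd_of_le hKM
  have hpos : 0 < Nat.card ↥H := Nat.card_pos
  have h1 : a * b = p := by
    have : Nat.card ↥H * (a * b) = Nat.card ↥H * p := by
      rw [← mul_assoc, ← ha, ← hb, hc, mul_comm]
    exact Nat.eq_of_mul_eq_mul_left hpos this
  have h2 : a ∣ p := ⟨b, h1.symm⟩
  rcases (Nat.dvd_prime hp).mp h2 with h | h
  · left
    symm
    apply eq_of_le_of_card_le' hHK
    rw [ha, h, mul_one]
  · right
    apply eq_of_le_of_card_le' hKM
    rw [hc, ha, h, mul_comm]

theorem isCoatom_of_index_prime {M : Type*} [Group M] {H : Subgroup M} (h : H.index.Prime) :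
    IsCoatom H := by
  constructor
  · intro ht
    rw [← index_eq_one] at ht
    exact h.ne_one ht
  · intro K hK
    have h1 := relIndex_mul_index hK.le
    have h2 : K.index ∣ H.index := index_dvd_of_le hK.le
    rcases (Nat.dvd_prime h).mp h2 with h3 | h3
    · exact index_eq_one.mp h3
    · exfalso
      rw [h3] at h1
      have h4 : H.relIndex K = 1 := by
        have := Nat.eq_of_mul_eq_mul_right h.pos (h1.trans (one_mul _).symm)
        exact this
      exact absurd (relIndex_eq_one.mp h4) (not_le_of_gt hK)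

theorem card_eq_relIndex_mul {H M : Subgroup G} (h : H ≤ M) :
    Nat.card ↥M = H.relIndex M * Nat.card ↥H := by
  rw [← relIndex_bot_left, ← relIndex_bot_left, mul_comm]
  exact (relIndex_mul_relIndex _ _ _ bot_le h).symm

theorem no_prime_order_coatom [Finite G] [IsSimpleGroup G] (hG : ¬ IsMulCommutative G)
    (M : Subgroup G) (hmaxM : IsCoatom M) {p : ℕ} [hp : Fact p.Prime] (hM : Nat.card ↥M = p) :
    False := by
  have hMp : IsPGroup p ↥M := IsPGroup.of_card (n := 1) (by rw [hM, pow_one])
  obtain ⟨P, hP⟩ := hMp.exists_le_sylow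
  rcases hmaxM.le_iff.mp hP with h | h
  · have hGp : IsPGroup p G := by
      have h1 := P.2
      rw [h] at h1
      exact h1.of_equiv topEquiv
    have h2 := hGp.center_nontrivial
    rcases IsSimpleGroup.eq_bot_or_eq_top_of_normal (center G) inferInstance with h3 | h3
    · rw [h3] at h2
      exact not_nontrivial _ h2
    · exact hG (center_eq_top_iff.mp h3)
  · have hPne : (P : Subgroup G) ≠ ⊤ := h ▸ hmaxM.1
    have hPb : (P : Subgroup G) ≠ ⊥ := by
      intro hb
      rw [h] at hb
      rw [hb, card_bot] at hM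
      exact hp.out.ne_one hM.symm
    have hN : normalizer ((P : Subgroup G) : Set G) = P := by
      have h1 : M ≤ normalizer ((P : Subgroup G) : Set G) := h ▸ le_normalizer
      rcases hmaxM.le_iff.mp h1 with h2 | h2
      · exfalso
        have : (P : Subgroup G).Normal := normalizer_eq_top_iff.mp h2
        rcases IsSimpleGroup.eq_bot_or_eq_top_of_normal (P : Subgroup G) this with h3 | h3
        · exact hPb h3
        · exact hPne h3
      · rw [h2, h]
    have hcyc : IsCyclic ↥(P : Subgroup G) := by
      apply isCyclic_of_prime_card (p := p)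
      rw [h, hM]
    have hcomm : (P : Subgroup G) ≤ centralizer ((P : Subgroup G) : Set G) := by
      rw [le_centralizer_iff_isMulCommutative]
      exact ⟨⟨fun a b => hcyc.commGroup.mul_comm a b⟩⟩
    have hNC : normalizer ((P : Subgroup G) : Set G) ≤ centralizer ((P : Subgroup G) : Set G) := by
      rw [hN]; exact hcomm
    have hcompl := MonoidHom.ker_transferSylow_isComplement' P hNC
    have hcard := hcompl.card_mul_card
    rcases IsSimpleGroup.eq_bot_or_eq_top_of_normal (MonoidHom.transferSylow P hNC).ker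
      inferInstance with h3 | h3
    · rw [h3, card_bot, one_mul] at hcard
      exact hPne (card_eq_iff_eq_top _ |>.mp hcard)
    · rw [h3, card_top] at hcard
      have h4 : Nat.card ↥(P : Subgroup G) = 1 := by
        have hpos : 0 < Nat.card G := Nat.card_pos
        exact Nat.eq_of_mul_eq_mul_left hpos (hcard.trans (mul_one _).symm)
      exact hPb (card_eq_one.mp h4)

theorem exists_conj_sup_eq_top [Finite G] [IsSimpleGroup G] (hG : ¬ IsMulCommutative G)
    (M H : Subgroup G) (hmaxM : IsCoatom M) (hHM : H ≤ M) (hHn : (H.subgroupOf M).Normal)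
    (hidx : (H.relIndex M).Prime) : ∃ g : G, H ⊔ H.map (MulAut.conj g).toMonoidHom = ⊤ := by
  by_contra hcon
  push Not at hcon
  set p := H.relIndex M with hp
  have hpf : Fact p.Prime := ⟨hidx⟩
  have hmaxH : IsCoatom (H.subgroupOf M) := isCoatom_of_index_prime hidx
  obtain ⟨hHne, hmax⟩ := coatom_subgroupOf_iff hHM hmaxH
  have hconjM : ∀ m ∈ M, H.map (MulAut.conj m).toMonoidHom ≤ H := by
    intro m hm y hy
    rw [mem_map_conj_iff] at hy
    have h1 := hHn.conj_mem ⟨m⁻¹ * y * m, M.mul_mem (M.mul_mem (M.inv_mem hm) (by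
      have := M.mul_mem (M.mul_mem hm (hHM hy)) (M.inv_mem hm)
      simpa [mul_assoc] using this)) hm⟩ (mem_subgroupOf.mpr hy) ⟨m, hm⟩
    rw [mem_subgroupOf] at h1
    simpa [mul_assoc] using h1
  have hsimple : ∀ K : Subgroup G, normalizer (K : Set G) = ⊤ → K ≠ ⊤ → K = ⊥ := by
    intro K hK hne
    have : K.Normal := normalizer_eq_top_iff.mp hK
    exact (IsSimpleGroup.eq_bot_or_eq_top_of_normal K this).resolve_right hne
  have hMb : M ≠ ⊥ := by
    intro h
    apply hHne
    rw [h]; exact bot_le
  have hNM : normalizer (M : Set G) = M := by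
    rcases hmaxM.le_iff.mp (le_normalizer (H := M)) with h | h
    · exact absurd (hsimple M h hmaxM.1) hMb
    · exact h
  have hcop : ∀ x ∈ M, (orderOf x).Coprime p → x ∈ H := by
    intro x hx hc
    have h1 : (QuotientGroup.mk' (H.subgroupOf M) ⟨x, hx⟩) ^ p = 1 := by
      have : Nat.card (↥M ⧸ H.subgroupOf M) = p := rfl
      rw [← this]
      exact pow_card_eq_one'
    have h2 : (QuotientGroup.mk' (H.subgroupOf M) ⟨x, hx⟩) ^ (orderOf x) = 1 := by
      rw [← map_pow]
      have : (⟨x, hx⟩ : ↥M) ^ orderOf x = 1 := Subtype.ext (by simp [pow_orderOf_eq_one])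
      rw [this, map_one]
    have h3 : (QuotientGroup.mk' (H.subgroupOf M) ⟨x, hx⟩) = 1 := by
      have h4 := orderOf_dvd_of_pow_eq_one h1
      have h5 := orderOf_dvd_of_pow_eq_one h2
      have h6 := Nat.dvd_gcd h5 h4
      rw [Nat.Coprime.gcd_eq_one hc, Nat.dvd_one] at h6
      exact orderOf_eq_one_iff.mp h6
    have h7 := (QuotientGroup.eq_one_iff (N := H.subgroupOf M) (⟨x, hx⟩ : ↥M)).mp h3
    exact mem_subgroupOf.mp h7
  have hcl : ∀ g : G, (H ⊔ H.map (MulAut.conj g).toMonoidHom) ⊓ M = H := by
    intro g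
    rcases hmax _ (le_inf le_sup_left hHM) inf_le_right with h | h
    · exact h
    exfalso
    have h1 : M ≤ H ⊔ H.map (MulAut.conj g).toMonoidHom := inf_eq_right.mp h
    have h2 : H ⊔ H.map (MulAut.conj g).toMonoidHom = M :=
      (hmaxM.le_iff.mp h1).resolve_left (hcon g)
    have h3 : H.map (MulAut.conj g).toMonoidHom ≤ M := le_sup_right.trans h2.le
    have h4 : ¬ H.map (MulAut.conj g).toMonoidHom ≤ H := fun h' =>
      hHne (by rw [← h2]; exact sup_le le_rfl h')
    have hgM : g ∉ M := fun hg => h4 (hconjM g hg)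
    set X := closure {x | x ∈ H ∧ (orderOf x).Coprime p} with hX
    have hXH : X ≤ H := (closure_le _).mpr (fun x hx => hx.1)
    have hXconj : ∀ a : G, H.map (MulAut.conj a).toMonoidHom ≤ M →
        X.map (MulAut.conj a).toMonoidHom ≤ X := by
      intro a ha
      rw [hX, MonoidHom.map_closure, closure_le]
      rintro _ ⟨x, ⟨hx1, hx2⟩, rfl⟩
      apply Subgroup.subset_closure
      have e : orderOf ((MulAut.conj a).toMonoidHom x) = orderOf x :=
        orderOf_injective _ (MulAut.conj a).injective x
      have hx3 : (orderOf ((MulAut.conj a).toMonoidHom x)).Coprime p := by rw [e]; exact hx2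
      exact ⟨hcop _ (ha (mem_map_of_mem _ hx1)) hx3, hx3⟩
    have hNX : normalizer (X : Set G) = ⊤ := by
      have h5 : M ≤ normalizer (X : Set G) := fun m hm =>
        mem_normalizer_of_map_conj_le (hXconj m ((hconjM m hm).trans hHM))
      rcases hmaxM.le_iff.mp h5 with h | h
      · exact h
      · exfalso
        apply hgM
        rw [← h]
        exact mem_normalizer_of_map_conj_le (hXconj g h3)
    have hXb : X = ⊥ := hsimple X hNX (ne_top_of_le_ne_top hmaxM.1 (hXH.trans hHM))
    have hMp : IsPGroup p ↥M := by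
      intro m
      obtain ⟨k, hk⟩ := exists_pow_coprime_order p (m : G)
      refine ⟨k, ?_⟩
      have h6 : (m : G) ^ p ^ k ∈ X := Subgroup.subset_closure ⟨hcop _ (pow_mem m.2 _) hk, hk⟩
      rw [hXb, mem_bot] at h6
      exact Subtype.ext h6
    have hcard : Nat.card ↥M = p * Nat.card ↥(H.map (MulAut.conj g).toMonoidHom) := by
      rw [card_map_of_injective (MulAut.conj g).injective]
      exact card_eq_relIndex_mul hHM
    have h7 : H.map (MulAut.conj g).toMonoidHom < M := by
      apply lt_of_le_of_ne h3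
      intro h'
      rw [← h'] at hcard
      have hpos : 0 < Nat.card ↥(H.map (MulAut.conj g).toMonoidHom) := Nat.card_pos
      have : 1 * Nat.card ↥(H.map (MulAut.conj g).toMonoidHom)
          = p * Nat.card ↥(H.map (MulAut.conj g).toMonoidHom) := by rw [one_mul]; exact hcard
      exact hidx.ne_one (Nat.eq_of_mul_eq_mul_right hpos this).symm
    obtain ⟨n, hnM, hnH, hnN⟩ := exists_normalizer_not_mem hMp h7
    have h8 : M ≤ normalizer ((H.map (MulAut.conj g).toMonoidHom : Subgroup G) : Set G) := by
      rcases eq_or_eq_of_card_prime hidx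
        (le_inf le_normalizer h3 : H.map (MulAut.conj g).toMonoidHom ≤
          normalizer ((H.map (MulAut.conj g).toMonoidHom : Subgroup G) : Set G) ⊓ M)
        inf_le_right hcard with h | h
      · exfalso
        apply hnH
        rw [← h]
        exact mem_inf.mpr ⟨hnN, hnM⟩
      · exact inf_eq_right.mp h
    rcases hmaxM.le_iff.mp h8 with h | h
    · apply h4
      rw [hsimple _ h (ne_top_of_le_ne_top hmaxM.1 h3)]
      exact bot_le
    · apply hgM
      rw [← hNM]
      apply mem_normalizer_of_map_conj_le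
      intro z hz
      rw [mem_map_conj_iff] at hz
      rw [← h]
      apply mem_normalizer_of_map_conj_le
      intro w hw
      rw [mem_map_conj_iff, mem_map_conj_iff] at hw
      rw [mem_map_conj_iff]
      have h9 : (g⁻¹ * z * g) * (g⁻¹ * (z⁻¹ * w * z) * g) * (g⁻¹ * z * g)⁻¹ ∈ H := by
        apply hconjM _ hz
        rw [mem_map_conj_iff]
        simpa [mul_assoc] using hw
      have e : (g⁻¹ * z * g) * (g⁻¹ * (z⁻¹ * w * z) * g) * (g⁻¹ * z * g)⁻¹ = g⁻¹ * w * g := by
        group
      rwa [e] at h9
  have h9 := normalClosure_inf_of_extClosed H M hHM hcl hmaxH hmaxM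
  rcases IsSimpleGroup.eq_bot_or_eq_top_of_normal (normalClosure (H : Set G)) inferInstance with h | h
  · have hHb : H = ⊥ := by
      rw [eq_bot_iff, ← h]
      exact le_normalClosure
    have hcard := card_eq_relIndex_mul hHM
    rw [hHb, card_bot, mul_one, ← hHb] at hcard
    exact no_prime_order_coatom hG M hmaxM hcard
  · rw [h, top_inf_eq] at h9
    exact hHne h9.le

end Cfsg.Agent.H17
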