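import Cfsg.Agent.H20.Extra4

set_option autoImplicit false
open Cfsg

/-! Centralizers in extraspecial groups and counting elements of order four. -/

namespace Cfsg.Agent.H17

open Subgroup Cfsg.Agent.H20

variable {P : Type*} [Group P]

/-- `|B| |C_P(B)| ≤ |B ∩ Z(P)| |P|` when `[P,P] ≤ Z ≤ Z(P)`, `|Z| = p`. -/
theorem card_mul_card_centralizer_le [Finite P] {p : ℕ} [Fact p.Prime] (hP : IsPGroup p P)
    (Z : Subgroup P) (hZ : Nat.card Z = p) (hZc : Z ≤ center P)
    (hcomm : ∀ a b : P, a * b * a⁻¹ * b⁻¹ ∈ Z) (B : Subgroup P) :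
    Nat.card B * Nat.card (centralizer (B : Set P)) ≤ Nat.card ↥(B ⊓ center P) * Nat.card P := by
  classical
  set C := centralizer (B : Set P) with hC
  have key : ∀ s : Finset P, Nat.card B * Nat.card C ≤
      Nat.card ↥(B ⊓ centralizer ((C ⊔ closure (s : Set P) : Subgroup P) : Set P)) *
        Nat.card ↥(C ⊔ closure (s : Set P)) := by
    intro s
    induction s using Finset.induction_on with
    | empty =>
      have h1 : B ⊓ centralizer (C : Set P) = B := inf_eq_left.mpr (le_centralizer_iff.mp le_rfl)
      rw [Finset.coe_empty, Subgroup.closure_empty, sup_bot_eq, h1]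
    | insert g s _ ih =>
      set H := C ⊔ closure (s : Set P) with hH
      have hH' : C ⊔ closure ((insert g s : Finset P) : Set P) = H ⊔ zpowers g := by
        rw [Finset.coe_insert, Set.insert_eq, Subgroup.closure_union, ← zpowers_eq_closure, hH, sup_assoc,
          sup_comm (zpowers g)]
      rw [hH']
      by_cases hg : g ∈ H
      · have : H ⊔ zpowers g = H := sup_eq_left.mpr (zpowers_le.mpr hg)
        rw [this]
        exact ih
      · have hlt : H < H ⊔ zpowers g :=
          lt_of_le_of_ne le_sup_left (fun h => hg (h ▸ (le_sup_right : zpowers g ≤ H ⊔ zpowers g) (mem_zpowers g)))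
        have h1 := mul_card_le_of_lt hP hlt
        set B' := B ⊓ centralizer (H : Set P) with hB'
        have h2 : B ⊓ centralizer ((H ⊔ zpowers g : Subgroup P) : Set P) = B' ⊓ centralizer {g} := by
          rw [hB', inf_assoc]
          congr 1
          ext x
          rw [mem_inf, mem_centralizer_singleton_iff]
          constructor
          · intro hx
            refine ⟨centralizer_le (le_sup_left : H ≤ H ⊔ zpowers g) hx, ?_⟩
            exact (mem_centralizer_iff.mp hx g ((le_sup_right : zpowers g ≤ H ⊔ zpowers g) (mem_zpowers g))).symm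
          · rintro ⟨hx1, hx2⟩
            have h3 : H ⊔ zpowers g ≤ centralizer {x} := by
              apply sup_le
              · intro h hh
                rw [mem_centralizer_singleton_iff]
                exact (mem_centralizer_iff.mp hx1 h hh)
              · rw [zpowers_le, mem_centralizer_singleton_iff]
                exact hx2.symm
            rw [mem_centralizer_iff]
            intro h hh
            exact (mem_centralizer_singleton_iff.mp (h3 hh))
        rw [h2]
        by_cases hgc : g ∈ centralizer (B' : Set P)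
        · have h3 : B' ⊓ centralizer {g} = B' := by
            rw [inf_eq_left]
            intro b hb
            rw [mem_centralizer_singleton_iff]
            exact (mem_centralizer_iff.mp hgc b hb)
          rw [h3]
          refine ih.trans (Nat.mul_le_mul_left _ ?_)
          exact Subgroup.card_le_of_le hlt.le
        · have h3 := card_inf_centralizer Z hZ hZc hcomm B' g hgc
          calc Nat.card B * Nat.card C ≤ Nat.card B' * Nat.card H := ih
            _ = Nat.card ↥(B' ⊓ centralizer {g}) * (p * Nat.card H) := by rw [← h3]; ring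
            _ ≤ _ := Nat.mul_le_mul_left _ h1
  haveI := Fintype.ofFinite P
  have h := key Finset.univ
  have h1 : C ⊔ closure ((Finset.univ : Finset P) : Set P) = ⊤ := by
    rw [Finset.coe_univ, Subgroup.closure_univ, sup_top_eq]
  rw [h1, coe_top, centralizer_univ, card_top] at h
  exact h

/-- In an extraspecial group of order `p ^ (2 m + 1)` an abelian subgroup of order `p ^ (m + 1)` is
self-centralizing. -/
theorem IsExtraspecial.centralizer_eq_of_card [Finite P] {p : ℕ} [hp : Fact p.Prime]
    (h : IsExtraspecial p P) {m : ℕ} (hcard : Nat.card P = p ^ (2 * m + 1)) (A : Subgroup P)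
    (hA : A ≤ centralizer (A : Set P)) (hAc : Nat.card A = p ^ (m + 1)) :
    centralizer (A : Set P) = A := by
  have h1 := card_mul_card_centralizer_le h.1.1 (center P) h.2 le_rfl
    (IsExtraspecial.comm_mem_center h) A
  have h2 : Nat.card ↥(A ⊓ center P) ≤ p := h.2 ▸ Subgroup.card_le_of_le inf_le_right
  have h3 : Nat.card A * Nat.card (centralizer (A : Set P)) ≤ p * p ^ (2 * m + 1) := by
    rw [← hcard]
    exact h1.trans (Nat.mul_le_mul_right _ h2)
  rw [hAc] at h3
  have h4 : p * p ^ (2 * m + 1) = p ^ (m + 1) * p ^ (m + 1) := by ring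
  rw [h4] at h3
  have h5 : Nat.card (centralizer (A : Set P)) ≤ p ^ (m + 1) :=
    Nat.le_of_mul_le_mul_left h3 (pow_pos hp.out.pos _)
  exact (Subgroup.eq_of_le_of_card_ge hA (hAc ▸ h5)).symm

end Cfsg.Agent.H17

namespace Cfsg.Agent.H17

open Subgroup Cfsg.Agent.H20

variable {E : Type*} [Group E]

theorem eq_of_ne_one_of_card_two {Z : Type*} [Group Z] (hZ : Nat.card Z = 2) {u v : Z} (hu : u ≠ 1)
    (hv : v ≠ 1) : u = v := by
  classical
  haveI : Finite Z := Nat.finite_of_card_ne_zero (by omega)
  haveI := Fintype.ofFinite Z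
  by_contra huv
  have h1 : ({1, u, v} : Finset Z).card = 3 := by
    rw [Finset.card_insert_of_notMem, Finset.card_insert_of_notMem, Finset.card_singleton]
    · simpa using huv
    · simp only [Finset.mem_insert, Finset.mem_singleton, not_or]
      exact ⟨hu.symm, hv.symm⟩
  have h2 := Finset.card_le_univ ({1, u, v} : Finset Z)
  rw [h1, ← Nat.card_eq_fintype_card, hZ] at h2
  omega

/-- the number of solutions of `x ^ 2 = 1` in an extraspecial 2-group of plus type. -/
theorem IsExtraspecial.card_sq_eq_one [Finite E] (m : ℕ) (hE : IsExtraspecial 2 E)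
    (hcard : Nat.card E = 2 ^ (2 * m + 1)) (A : Subgroup E) (hA : IsElementaryAbelian 2 A)
    (hAc : Nat.card A = 2 ^ (m + 1)) :
    Nat.card {x : E // x ^ 2 = 1} = 2 ^ (2 * m) + 2 ^ m := by
  classical
  haveI := Fintype.ofFinite E
  have hAcomm : ∀ a ∈ A, ∀ b ∈ A, a * b = b * a := by
    intro a ha b hb
    exact congrArg Subtype.val (hA.1.is_comm.comm ⟨a, ha⟩ ⟨b, hb⟩)
  have hAle : A ≤ centralizer (A : Set E) := by
    intro a ha
    rw [mem_centralizer_iff]
    intro b hb
    exact hAcomm b hb a ha
  have hCA := IsExtraspecial.centralizer_eq_of_card hE hcard A hAle hAc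
  let g : E → ℕ := fun x => (Finset.univ.filter (fun a : A => (x * (a : E)) ^ 2 = 1)).card
  have hg1 : ∀ x ∈ A, g x = Nat.card A := by
    intro x hx
    have : Finset.univ.filter (fun a : A => (x * (a : E)) ^ 2 = 1) = Finset.univ := by
      apply Finset.filter_true_of_mem
      intro a _
      exact hA.2 _ (A.mul_mem hx a.2)
    change (Finset.univ.filter (fun a : A => (x * (a : E)) ^ 2 = 1)).card = _
    rw [this, Finset.card_univ, Nat.card_eq_fintype_card]
  have hsq : ∀ x : E, ∀ a ∈ A, (x * a) ^ 2 = (x * a * x⁻¹ * a⁻¹) * x ^ 2 := by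
    intro x a ha
    have hx2 : x ^ 2 ∈ center E := IsExtraspecial.pow_mem_center hE x
    have ha2 : a * a = 1 := by rw [← sq]; exact hA.2 a ha
    have h1 : x * a = (x * a * x⁻¹ * a⁻¹) * (a * x) := by group
    calc (x * a) ^ 2 = (x * a) * (x * a) := sq _
      _ = ((x * a * x⁻¹ * a⁻¹) * (a * x)) * (x * a) := by rw [← h1]
      _ = (x * a * x⁻¹ * a⁻¹) * (a * (x ^ 2 * a)) := by rw [sq]; group
      _ = (x * a * x⁻¹ * a⁻¹) * (a * (a * x ^ 2)) := by rw [(mem_center_iff.mp hx2 a)]
      _ = (x * a * x⁻¹ * a⁻¹) * x ^ 2 := by rw [← mul_assoc a a, ha2, one_mul]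
  have hcomm1 : ∀ x a : E, x * a * x⁻¹ * a⁻¹ = 1 ↔ a ∈ centralizer {x} := by
    intro x a
    rw [mem_centralizer_singleton_iff]
    constructor
    · intro h
      calc a * x = (x * a * x⁻¹ * a⁻¹) * (a * x) := by rw [h, one_mul]
        _ = x * a := by group
    · intro h
      rw [← h]; group
  have hg2 : ∀ x, x ∉ A → 2 * g x = Nat.card A := by
    intro x hx
    have hx' : x ∉ centralizer (A : Set E) := by rwa [hCA]
    have h1 := card_inf_centralizer (center E) hE.2 le_rfl (IsExtraspecial.comm_mem_center hE) A x hx'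
    have h2 : Nat.card ↥(A ⊓ centralizer {x}) =
        (Finset.univ.filter (fun a : A => (a : E) ∈ centralizer {x})).card := by
      rw [← Fintype.card_subtype, ← Nat.card_eq_fintype_card]
      apply Nat.card_congr
      exact
        { toFun := fun y => ⟨⟨y.1, (mem_inf.mp y.2).1⟩, (mem_inf.mp y.2).2⟩
          invFun := fun y => ⟨y.1.1, mem_inf.mpr ⟨y.1.2, y.2⟩⟩
          left_inv := fun _ => rfl
          right_inv := fun _ => rfl }
    by_cases hx2 : x ^ 2 = 1
    · have h3 : Finset.univ.filter (fun a : A => (x * (a : E)) ^ 2 = 1) =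
          Finset.univ.filter (fun a : A => (a : E) ∈ centralizer {x}) := by
        apply Finset.filter_congr
        intro a _
        rw [hsq x a a.2, hx2, mul_one, hcomm1]
      change 2 * (Finset.univ.filter (fun a : A => (x * (a : E)) ^ 2 = 1)).card = _
      rw [h3, ← h2, h1]
    · have h3 : Finset.univ.filter (fun a : A => (x * (a : E)) ^ 2 = 1) =
          Finset.univ.filter (fun a : A => ¬ (a : E) ∈ centralizer {x}) := by
        apply Finset.filter_congr
        intro a _
        rw [hsq x a a.2, ← hcomm1]
        constructor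
        · intro h h'
          rw [h', one_mul] at h
          exact hx2 h
        · intro h
          have hz1 : x * a * x⁻¹ * (a : E)⁻¹ ∈ center E := IsExtraspecial.comm_mem_center hE x a
          have hz2 : x ^ 2 ∈ center E := IsExtraspecial.pow_mem_center hE x
          have h4 : (⟨_, hz1⟩ : center E) = ⟨_, hz2⟩ := by
            apply eq_of_ne_one_of_card_two hE.2
            · intro h5; exact h (congrArg Subtype.val h5)
            · intro h5; exact hx2 (congrArg Subtype.val h5)
          have h5 : x * a * x⁻¹ * (a : E)⁻¹ = x ^ 2 := congrArg Subtype.val h4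
          rw [h5, ← pow_add]
          exact IsExtraspecial.pow_sq_eq_one hE x
      change 2 * (Finset.univ.filter (fun a : A => (x * (a : E)) ^ 2 = 1)).card = _
      have h4 := Finset.card_filter_add_card_filter_not (s := (Finset.univ : Finset A))
        (fun a : A => (a : E) ∈ centralizer {x})
      rw [Finset.card_univ, ← Nat.card_eq_fintype_card, ← h2] at h4
      rw [h3]
      omega
  -- the double count
  set N := Nat.card {x : E // x ^ 2 = 1} with hN
  have hN' : N = (Finset.univ.filter (fun x : E => x ^ 2 = 1)).card := by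
    rw [hN, Nat.card_eq_fintype_card, Fintype.card_subtype]
  have hsum1 : ∑ x : E, g x = Nat.card A * N := by
    have h1 : ∀ x : E, g x = ∑ a : A, if (x * (a : E)) ^ 2 = 1 then 1 else 0 := by
      intro x
      exact Finset.card_filter _ _
    simp_rw [h1]
    rw [Finset.sum_comm]
    have h2 : ∀ a : A, (∑ x : E, if (x * (a : E)) ^ 2 = 1 then 1 else 0) = N := by
      intro a
      rw [hN', Finset.card_filter]
      exact Equiv.sum_comp (Equiv.mulRight (a : E)) (fun x => if x ^ 2 = 1 then 1 else 0)
    simp_rw [h2]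
    rw [Finset.sum_const, Finset.card_univ, ← Nat.card_eq_fintype_card, smul_eq_mul]
  have hsum2 : ∑ x : E, 2 * g x = Nat.card E * Nat.card A + Nat.card A * Nat.card A := by
    have h1 : ∀ x : E, 2 * g x = Nat.card A + if x ∈ A then Nat.card A else 0 := by
      intro x
      by_cases hx : x ∈ A
      · rw [if_pos hx, hg1 x hx]; ring
      · rw [if_neg hx, hg2 x hx]; ring
    simp_rw [h1]
    rw [Finset.sum_add_distrib, Finset.sum_const, Finset.card_univ, ← Nat.card_eq_fintype_card,
      smul_eq_mul, ← Finset.sum_filter, Finset.sum_const, smul_eq_mul]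
    congr 2
    rw [← Fintype.card_subtype, ← Nat.card_eq_fintype_card]
  rw [← Finset.mul_sum, hsum1, hcard, hAc] at hsum2
  have h3 : 2 ^ (m + 1) * (2 * N) = 2 ^ (m + 1) * (2 * (2 ^ (2 * m) + 2 ^ m)) := by
    calc 2 ^ (m + 1) * (2 * N) = 2 * (2 ^ (m + 1) * N) := by ring
      _ = 2 ^ (2 * m + 1) * 2 ^ (m + 1) + 2 ^ (m + 1) * 2 ^ (m + 1) := hsum2
      _ = _ := by ring
  have h4 := Nat.eq_of_mul_eq_mul_left (pow_pos (by norm_num) _) h3
  omega

theorem IsExtraspecial.orderOf_eq_four_iff (hE : IsExtraspecial 2 E) (x : E) :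
    orderOf x = 4 ↔ ¬ x ^ 2 = 1 := by
  constructor
  · intro h h2
    have := orderOf_dvd_of_pow_eq_one h2
    rw [h] at this
    omega
  · intro h
    have h4 : x ^ 2 ^ (1 + 1) = 1 := IsExtraspecial.pow_sq_eq_one hE x
    have := orderOf_eq_prime_pow (p := 2) (n := 1) (by simpa using h) h4
    simpa using this

/-- the number of elements of order four in an extraspecial 2-group of plus type. -/
theorem IsExtraspecial.card_orderOf_eq_four [Finite E] (m : ℕ) (hE : IsExtraspecial 2 E)
    (hcard : Nat.card E = 2 ^ (2 * m + 1)) (A : Subgroup E) (hA : IsElementaryAbelian 2 A)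
    (hAc : Nat.card A = 2 ^ (m + 1)) :
    Nat.card {x : E // orderOf x = 4} = 2 ^ (2 * m) - 2 ^ m := by
  classical
  haveI := Fintype.ofFinite E
  have h1 := IsExtraspecial.card_sq_eq_one m hE hcard A hA hAc
  have h2 : Nat.card {x : E // orderOf x = 4} = Nat.card {x : E // ¬ x ^ 2 = 1} :=
    Nat.card_congr (Equiv.subtypeEquivRight (IsExtraspecial.orderOf_eq_four_iff hE))
  rw [h2, Nat.card_eq_fintype_card, Fintype.card_subtype_compl, ← Nat.card_eq_fintype_card,
    ← Nat.card_eq_fintype_card, h1, hcard]
  have : 2 ^ (2 * m + 1) = 2 * 2 ^ (2 * m) := by ring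
  omega

end Cfsg.Agent.H17
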