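import Cfsg.Agent.H17.Friendship
import Cfsg.Agent.H17.SylIn
import Cfsg.Agent.H17.Basic
import Cfsg.Agent.H17.SylowLemmas
import Cfsg.Agent.S0111

set_option autoImplicit false

/-! A configuration with an abelian Sylow 3-subgroup whose centralizer is a TI-subgroup:
the commuting graph of involutions is a friendship graph. -/

namespace Cfsg.Agent.H17.Fr

open Subgroup
open scoped Pointwise

theorem exists_politician {V : Type*} [Finite V] [Nonempty V] (adj : V → V → Prop)
    (hsymm : ∀ a b, adj a b → adj b a) (hirr : ∀ a, ¬ adj a a)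
    (h : ∀ v w, v ≠ w → ∃ x, (adj v x ∧ adj w x) ∧ ∀ y, adj v y ∧ adj w y → y = x) :
    ∃ v, ∀ w, v ≠ w → adj v w := by
  classical
  haveI := Fintype.ofFinite V
  let Γ : SimpleGraph V := SimpleGraph.mk adj ⟨fun a b hab => hsymm a b hab⟩ ⟨fun a => hirr a⟩
  have hF : Friendship Γ := by
    intro v w hvw
    rw [Fintype.card_eq_one_iff]
    obtain ⟨x, hx, hu⟩ := h v w hvw
    exact ⟨⟨x, hx⟩, fun y => Subtype.ext (hu y.1 y.2)⟩
  exact friendship_theorem hF

variable {G : Type*} [Group G] [Finite G]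

local instance : Fact (Nat.Prime 3) := ⟨by norm_num⟩
local instance : Fact (Nat.Prime 2) := ⟨by norm_num⟩

/-- The configuration. -/
structure Cfg (P : Sylow 3 G) (m : ℕ) : Prop where
  simple : IsSimpleGroup G
  card : Nat.card P = m
  comm : ∀ a ∈ P, ∀ b ∈ P, a * b = b * a
  cardN : Nat.card (normalizer (P : Set G)) = 4 * m
  cardC : Nat.card (centralizer (P : Set G)) = 2 * m
  ti : ∀ g : G, ∀ x ∈ centralizer (P : Set G), x ≠ 1 → g * x * g⁻¹ ∈ centralizer (P : Set G) →
    g ∈ normalizer ((centralizer (P : Set G) : Subgroup G) : Set G)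
  even : ∀ H : Subgroup G, H ≠ ⊤ → 2 ∣ Nat.card H → Nat.card H ∣ 4 * m

variable {P : Sylow 3 G} {m : ℕ}

theorem Cfg.exists_pow (c : Cfg P m) : ∃ a : ℕ, m = 3 ^ a := by
  obtain ⟨a, ha⟩ := IsPGroup.iff_card.mp P.2
  exact ⟨a, c.card.symm.trans ha⟩

theorem Cfg.pos (c : Cfg P m) : 0 < m := by
  obtain ⟨a, rfl⟩ := c.exists_pow
  positivity

theorem Cfg.coprime (c : Cfg P m) : Nat.Coprime 2 m := by
  obtain ⟨a, rfl⟩ := c.exists_pow
  exact Nat.Coprime.pow_right a (by norm_num)

theorem Cfg.pow_eq_one (c : Cfg P m) {y : G} (hy : y ∈ P) : y ^ m = 1 := by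
  have h : (⟨y, hy⟩ : P) ^ Nat.card P = 1 := pow_card_eq_one'
  rw [c.card] at h
  exact congrArg Subtype.val h

theorem Cfg.eq_one_of_pow (c : Cfg P m) {y : G} (h1 : y ^ m = 1) (h2 : y ^ 2 = 1) : y = 1 := by
  have h3 := orderOf_dvd_of_pow_eq_one h1
  have h4 := orderOf_dvd_of_pow_eq_one h2
  have h5 : orderOf y ∣ 1 := by
    have := Nat.dvd_gcd h4 h3
    rwa [c.coprime] at this
  exact orderOf_eq_one_iff.mp (Nat.dvd_one.mp h5)

theorem Cfg.le_centralizer (c : Cfg P m) : (P : Subgroup G) ≤ centralizer (P : Set G) := by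
  intro y hy
  rw [mem_centralizer_iff]
  intro b hb
  exact c.comm b hb y hy

theorem Cfg.index_two (c : Cfg P m) :
    ((P : Subgroup G).subgroupOf (centralizer (P : Set G))).index = 2 := by
  have h1 := Subgroup.card_mul_index ((P : Subgroup G).subgroupOf (centralizer (P : Set G)))
  rw [Nat.card_congr (Subgroup.subgroupOfEquivOfLe c.le_centralizer).toEquiv, c.cardC] at h1
  have h2 : Nat.card (P : Subgroup G) = m := c.card
  rw [h2, mul_comm 2 m] at h1
  exact Nat.eq_of_mul_eq_mul_left c.pos h1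

/-- `IsT t`: `t` is an involution centralizing `P`. -/
def IsT (P : Sylow 3 G) (t : G) : Prop := t ∈ centralizer (P : Set G) ∧ orderOf t = 2

theorem Cfg.exists_t (c : Cfg P m) : ∃ t, IsT P t := by
  obtain ⟨x, hx⟩ := exists_prime_orderOf_dvd_card' (G := centralizer (P : Set G)) 2
    (by rw [c.cardC]; exact Dvd.intro _ rfl)
  exact ⟨x, x.2, by rw [Subgroup.orderOf_coe, hx]⟩

theorem sq_eq_one_of_orderOf {t : G} (h : orderOf t = 2) : t ^ 2 = 1 := by
  rw [← h]; exact pow_orderOf_eq_one t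

theorem ne_one_of_orderOf {t : G} (h : orderOf t = 2) : t ≠ 1 := by
  rintro rfl
  rw [orderOf_one] at h
  norm_num at h

theorem inv_eq_of_orderOf {t : G} (h : orderOf t = 2) : t⁻¹ = t := by
  have := sq_eq_one_of_orderOf h
  rw [sq] at this
  exact inv_eq_of_mul_eq_one_left this

theorem Cfg.not_mem_of_orderOf (c : Cfg P m) {t : G} (h : orderOf t = 2) : t ∉ P := by
  intro ht
  exact ne_one_of_orderOf h (c.eq_one_of_pow (c.pow_eq_one ht) (sq_eq_one_of_orderOf h))

theorem Cfg.mem_or (c : Cfg P m) {t : G} (ht : IsT P t) {x : G} (hx : x ∈ centralizer (P : Set G)) :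
    x ∈ P ∨ t * x ∈ P := by
  by_cases hxP : x ∈ P
  · exact Or.inl hxP
  · right
    have h := Subgroup.mul_mem_iff_of_index_two c.index_two
      (a := (⟨t, ht.1⟩ : centralizer (P : Set G))) (b := ⟨x, hx⟩)
    simp only [mem_subgroupOf] at h
    exact h.mpr ⟨fun h' => absurd h' (c.not_mem_of_orderOf ht.2), fun h' => absurd h' hxP⟩

theorem IsT.comm {t : G} (ht : IsT P t) {y : G} (hy : y ∈ P) : y * t = t * y :=
  mem_centralizer_iff.mp ht.1 y hy

theorem Cfg.t_unique (c : Cfg P m) {t : G} (ht : IsT P t) {x : G} (hx : IsT P x) : x = t := by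
  rcases c.mem_or ht hx.1 with h | h
  · exact absurd h (c.not_mem_of_orderOf hx.2)
  · have h1 : (t * x) ^ 2 = 1 := by
      have e1 : (t * x) * t = t * (t * x) := ht.comm h
      have e2 : x * t = t * x := by
        have : t * (x * t) = t * (t * x) := by rw [← mul_assoc]; exact e1
        exact mul_left_cancel this
      rw [sq]
      calc t * x * (t * x) = t * (x * t) * x := by group
        _ = t * (t * x) * x := by rw [e2]
        _ = t ^ 2 * x ^ 2 := by rw [sq, sq]; group
        _ = 1 := by rw [sq_eq_one_of_orderOf ht.2, sq_eq_one_of_orderOf hx.2, one_mul]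
    have h2 := c.eq_one_of_pow (c.pow_eq_one h) h1
    have h3 : x = t⁻¹ := (inv_eq_of_mul_eq_one_right h2).symm
    rw [h3, inv_eq_of_orderOf ht.2]

theorem Cfg.normalizer_centralizer_le (c : Cfg P m) :
    normalizer ((centralizer (P : Set G) : Subgroup G) : Set G) ≤ normalizer (P : Set G) := by
  obtain ⟨t, ht⟩ := c.exists_t
  intro g hg
  apply mem_normalizer_of_map_conj_le
  rintro _ ⟨y, hy, rfl⟩
  change g * y * g⁻¹ ∈ P
  have h1 : g * y * g⁻¹ ∈ centralizer (P : Set G) :=
    (mem_normalizer_iff.mp hg y).mp (c.le_centralizer hy)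
  rcases c.mem_or ht h1 with h | h
  · exact h
  · exfalso
    have e1 : (g * y * g⁻¹) ^ m = 1 := by
      rw [conj_pow, c.pow_eq_one hy]; group
    have e2 : (t * (g * y * g⁻¹)) ^ m = 1 := c.pow_eq_one h
    have e3 : Commute t (g * y * g⁻¹) := by
      have e4 : (t * (g * y * g⁻¹)) * t = t * (t * (g * y * g⁻¹)) := ht.comm h
      have : t * ((g * y * g⁻¹) * t) = t * (t * (g * y * g⁻¹)) := by rw [← mul_assoc]; exact e4
      exact (mul_left_cancel this).symm
    rw [e3.mul_pow, e1, mul_one] at e2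
    exact ne_one_of_orderOf ht.2 (c.eq_one_of_pow e2 (sq_eq_one_of_orderOf ht.2))

/-- the TI property in the form used below. -/
theorem Cfg.mem_normalizer (c : Cfg P m) {g x : G} (hx : x ∈ centralizer (P : Set G)) (hx1 : x ≠ 1)
    (h : g * x * g⁻¹ ∈ centralizer (P : Set G)) : g ∈ normalizer (P : Set G) :=
  c.normalizer_centralizer_le (c.ti g x hx hx1 h)

theorem Cfg.comm_t_iff (c : Cfg P m) {t : G} (ht : IsT P t) {g : G} :
    g * t = t * g ↔ g ∈ normalizer (P : Set G) := by
  constructor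
  · intro h
    apply c.mem_normalizer ht.1 (ne_one_of_orderOf ht.2)
    rw [h, mul_inv_cancel_right]
    exact ht.1
  · intro h
    have h1 : g * t * g⁻¹ ∈ centralizer (P : Set G) :=
      (mem_normalizer_iff.mp (normalizer_le_normalizer_centralizer (P : Subgroup G) h) t).mp ht.1
    have h2 : orderOf (g * t * g⁻¹) = 2 := by
      rw [← ht.2]
      exact (MulAut.conj g).orderOf_eq t
    have h3 := c.t_unique ht ⟨h1, h2⟩
    rw [mul_inv_eq_iff_eq_mul] at h3
    exact h3

end Cfsg.Agent.H17.Fr
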