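import Cfsg.Agent.H17.Fr2

set_option autoImplicit false

/-! Sylow 2-subgroups, fusion of involutions and inversion in the configuration `Cfg`. -/

namespace Cfsg.Agent.H17.Fr

open Subgroup
open scoped Pointwise

variable {G : Type*} [Group G] [Finite G]

local instance : Fact (Nat.Prime 3) := ⟨by norm_num⟩
local instance : Fact (Nat.Prime 2) := ⟨by norm_num⟩

variable {P : Sylow 3 G} {m : ℕ}

theorem Cfg.centralizer_ne_top (c : Cfg P m) : centralizer (P : Set G) ≠ ⊤ := by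
  intro h
  have h1 : normalizer (P : Set G) = ⊤ := by
    rw [eq_top_iff, ← h]
    exact centralizer_le_normalizer (P : Set G)
  have h2 := c.cardN
  have h3 := c.cardC
  rw [h1] at h2
  rw [h] at h3
  have := c.pos
  omega

theorem Cfg.ne_one (c : Cfg P m) : m ≠ 1 := by
  intro h
  apply c.centralizer_ne_top
  have h1 : (P : Subgroup G) = ⊥ := Subgroup.eq_bot_of_card_eq _ (c.card.trans h)
  rw [eq_top_iff]
  intro g _
  rw [mem_centralizer_iff]
  intro y hy
  have hy' : y ∈ (P : Subgroup G) := hy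
  rw [h1, mem_bot] at hy'
  rw [hy', one_mul, mul_one]

theorem Cfg.four_dvd (c : Cfg P m) : 4 ∣ Nat.card G := by
  have h := Subgroup.card_subgroup_dvd_card (normalizer (P : Set G))
  rw [c.cardN] at h
  exact (Dvd.intro _ rfl).trans h

theorem Cfg.dvd_four (c : Cfg P m) {H : Subgroup G} (hH : H ≠ ⊤) (hp : IsPGroup 2 H)
    (h2 : 2 ∣ Nat.card H) : Nat.card H ∣ 4 := by
  have h1 := c.even H hH h2
  obtain ⟨k, hk⟩ := IsPGroup.iff_card.mp hp
  rw [hk] at h1 ⊢
  exact Nat.Coprime.dvd_of_dvd_mul_right (Nat.Coprime.pow_left k c.coprime) h1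

theorem Cfg.not_isPGroup (c : Cfg P m) : ¬ IsPGroup 2 G := by
  intro h
  obtain ⟨k, hk⟩ := IsPGroup.iff_card.mp h
  have h1 : m ∣ 2 ^ k := by
    rw [← hk, ← c.card]
    exact Subgroup.card_subgroup_dvd_card _
  have h2 : Nat.Coprime m (2 ^ k) := (Nat.Coprime.pow_left k c.coprime).symm
  exact c.ne_one (Nat.Coprime.eq_one_of_dvd h2 h1)

theorem Cfg.ne_top_of_isPGroup (c : Cfg P m) {H : Subgroup G} (hp : IsPGroup 2 H) : H ≠ ⊤ := by
  rintro rfl
  apply c.not_isPGroup
  exact hp.of_equiv Subgroup.topEquiv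

theorem Cfg.exists_sylow_two (c : Cfg P m) {t : G} (ht : orderOf t = 2) :
    ∃ S : Sylow 2 G, t ∈ S ∧ Nat.card S = 4 := by
  have hpg : IsPGroup 2 (zpowers t) :=
    IsPGroup.of_card (n := 1) (by rw [Nat.card_zpowers, ht, pow_one])
  obtain ⟨S, hS⟩ := hpg.exists_le_sylow
  have htS : t ∈ S := hS (mem_zpowers t)
  refine ⟨S, htS, ?_⟩
  have h2 : 2 ∣ Nat.card S := by
    have := Subgroup.orderOf_dvd_natCard (S : Subgroup G) htS
    rwa [ht] at this
  have h3 : Nat.card S ∣ 4 := c.dvd_four (c.ne_top_of_isPGroup S.2) S.2 h2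
  have h4 : 2 ^ 2 ∣ Nat.card S := S.pow_dvd_card_of_pow_dvd_card (by norm_num; exact c.four_dvd)
  exact Nat.dvd_antisymm h3 (by norm_num at h4; exact h4)

theorem conj_mem_smul {p : ℕ} {Q : Sylow p G} {x : G} (g : G) (hx : x ∈ Q) :
    g * x * g⁻¹ ∈ (g • Q : Sylow p G) := by
  have : g * x * g⁻¹ ∈ ((g • Q : Sylow p G) : Subgroup G) := by
    rw [sylow_smul_coe, mem_map_conj_iff]
    have e : g⁻¹ * (g * x * g⁻¹) * g = x := by group
    rw [e]
    exact hx
  exact this

theorem orderOf_conj' (g x : G) : orderOf (g * x * g⁻¹) = orderOf x :=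
  (MulAut.conj g).orderOf_eq x

/-- All involutions are conjugate. -/
theorem Cfg.fusion (c : Cfg P m) {t : G} (ht : IsT P t) {u : G} (hu : orderOf u = 2) :
    ∃ g : G, g * u * g⁻¹ = t := by
  obtain ⟨S, htS, hS4⟩ := c.exists_sylow_two ht.2
  have hpg : IsPGroup 2 (zpowers u) :=
    IsPGroup.of_card (n := 1) (by rw [Nat.card_zpowers, hu, pow_one])
  obtain ⟨S', hS'⟩ := hpg.exists_le_sylow
  obtain ⟨g, hg⟩ := MulAction.exists_smul_eq G S' S
  have hu'S : g * u * g⁻¹ ∈ S := by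
    rw [← hg]
    exact conj_mem_smul g (hS' (mem_zpowers u))
  have hu' : orderOf (g * u * g⁻¹) = 2 := by rw [orderOf_conj', hu]
  by_cases hut : g * u * g⁻¹ = t
  · exact ⟨g, hut⟩
  have hQC : zpowers t ≤ centralizer (P : Set G) := zpowers_le.mpr ht.1
  have hQS : zpowers t ≤ (S : Subgroup G) := zpowers_le.mpr htS
  have hrel : (zpowers t).relIndex (S : Subgroup G) = 2 := by
    have h1 := Subgroup.relIndex_mul_relIndex ⊥ (zpowers t) (S : Subgroup G) bot_le hQS
    rw [Subgroup.relIndex_bot_left, Subgroup.relIndex_bot_left, Nat.card_zpowers, ht.2] at h1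
    have h2 : Nat.card (S : Subgroup G) = 4 := hS4
    omega
  have hnot : g * u * g⁻¹ ∉ zpowers t := fun h => hut (c.t_unique ht ⟨hQC h, hu'⟩)
  rcases Cfsg.Agent.S0111.result S (zpowers t) hQS hrel _ hu' hu'S hnot with ⟨M, hM, hMi, hMu⟩ | ⟨g', hg'⟩
  · exfalso
    haveI := c.simple
    rcases hM.eq_bot_or_eq_top with rfl | rfl
    · rw [Subgroup.index_bot] at hMi
      have := c.four_dvd
      rw [hMi] at this
      norm_num at this
    · exact hMu (mem_top _)
  · refine ⟨g' * g, ?_⟩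
    have h1 : orderOf (g' * (g * u * g⁻¹) * g'⁻¹) = 2 := by rw [orderOf_conj', hu']
    have h2 := c.t_unique ht ⟨hQC hg', h1⟩
    rw [← h2]
    group

/-- An involution of `N(P)` other than `t` has no fixed points on `P`. -/
theorem Cfg.fixed_eq_one (c : Cfg P m) {t : G} (ht : IsT P t) {u : G} (hu : orderOf u = 2)
    (hut : u ≠ t) {y : G} (hy : y ∈ P) (hc : u * y = y * u) : y = 1 := by
  by_contra hy1
  obtain ⟨g, hg⟩ := c.fusion ht hu
  have h1 : (g * y * g⁻¹) * t = t * (g * y * g⁻¹) := by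
    rw [← hg]
    calc g * y * g⁻¹ * (g * u * g⁻¹) = g * (y * u) * g⁻¹ := by group
      _ = g * (u * y) * g⁻¹ := by rw [hc]
      _ = g * u * g⁻¹ * (g * y * g⁻¹) := by group
  have h2 : g * y * g⁻¹ ∈ normalizer (P : Set G) := (c.comm_t_iff ht).mp h1
  have h3 : g * y * g⁻¹ ∈ ((g • P : Sylow 3 G) : Subgroup G) ⊓ P := by
    rw [← (g • P : Sylow 3 G).2.inf_normalizer_sylow P]
    exact ⟨conj_mem_smul g hy, h2⟩
  have h4 : g ∈ normalizer (P : Set G) :=
    c.mem_normalizer (c.le_centralizer hy) hy1 (c.le_centralizer h3.2)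
  have h5 := (c.comm_t_iff ht).mpr h4
  apply hut
  rw [← hg] at h5
  have h6 : g * (g * u * g⁻¹) = g * u := by rw [h5]; group
  rw [← hg]
  exact (mul_left_cancel h6).symm

/-- An involution of `N(P)` other than `t` inverts `P`. -/
theorem Cfg.inverts (c : Cfg P m) {t : G} (ht : IsT P t) {u : G} (hu : orderOf u = 2)
    (hut : u ≠ t) (huN : u ∈ normalizer (P : Set G)) {y : G} (hy : y ∈ P) : u * y * u⁻¹ = y⁻¹ := by
  have h1 : u * y * u⁻¹ ∈ P := (mem_normalizer_iff.mp huN y).mp hy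
  have h2 : y * (u * y * u⁻¹) ∈ P := mul_mem hy h1
  have hinv := inv_eq_of_orderOf hu
  have huu : u * u = 1 := by rw [← sq]; exact sq_eq_one_of_orderOf hu
  have e1 : u * (u * y * u⁻¹) * u⁻¹ = y := by
    rw [hinv]
    calc u * (u * y * u) * u = (u * u) * y * (u * u) := by group
      _ = y := by rw [huu, one_mul, mul_one]
  have e2 : u * (y * (u * y * u⁻¹)) * u⁻¹ = (u * y * u⁻¹) * y := by
    calc u * (y * (u * y * u⁻¹)) * u⁻¹ = (u * y * u⁻¹) * (u * (u * y * u⁻¹) * u⁻¹) := by group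
      _ = (u * y * u⁻¹) * y := by rw [e1]
  have h3 : u * (y * (u * y * u⁻¹)) = (y * (u * y * u⁻¹)) * u := by
    rw [mul_inv_eq_iff_eq_mul] at e2
    rw [e2, c.comm y hy _ h1]
  have h4 := c.fixed_eq_one ht hu hut h2 h3
  exact (inv_eq_of_mul_eq_one_right h4).symm

end Cfsg.Agent.H17.Fr
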