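import Cfsg.Agent.H17.Fr3

set_option autoImplicit false

/-! The commuting graph of involutions in the configuration `Cfg` is a friendship graph. -/

namespace Cfsg.Agent.H17.Fr

open Subgroup
open scoped Pointwise

variable {G : Type*} [Group G] [Finite G]

local instance : Fact (Nat.Prime 3) := ⟨by norm_num⟩
local instance : Fact (Nat.Prime 2) := ⟨by norm_num⟩

variable {P : Sylow 3 G} {m : ℕ}

/-- `w` is an involution different from `u`, `v` commuting with both. -/
def Nb (u v w : G) : Prop := orderOf w = 2 ∧ w ≠ u ∧ w ≠ v ∧ w * u = u * w ∧ w * v = v * w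

def FrP (u v : G) : Prop := ∃ w, Nb u v w ∧ ∀ w', Nb u v w' → w' = w

theorem Nb.map (φ : G ≃* G) {u v w : G} (h : Nb u v w) : Nb (φ u) (φ v) (φ w) := by
  obtain ⟨h1, h2, h3, h4, h5⟩ := h
  refine ⟨by rw [φ.orderOf_eq, h1], fun e => h2 (φ.injective e), fun e => h3 (φ.injective e), ?_, ?_⟩
  · rw [← map_mul, ← map_mul, h4]
  · rw [← map_mul, ← map_mul, h5]

theorem FrP.map (φ : G ≃* G) {u v : G} (h : FrP u v) : FrP (φ u) (φ v) := by
  obtain ⟨w, hw, huniq⟩ := h
  refine ⟨φ w, hw.map φ, ?_⟩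
  intro w' hw'
  have h1 := hw'.map φ.symm
  rw [φ.symm_apply_apply, φ.symm_apply_apply] at h1
  rw [← huniq _ h1, φ.apply_symm_apply]

theorem FrP.of_conj (g : G) {u v : G} (h : FrP (g * u * g⁻¹) (g * v * g⁻¹)) : FrP u v := by
  have h1 := h.map (MulAut.conj g).symm
  have e : ∀ x : G, (MulAut.conj g).symm (g * x * g⁻¹) = x := by
    intro x
    rw [MulAut.conj_symm_apply]
    group
  rwa [e, e] at h1

theorem orderOf_mul_of_comm {a b : G} (ha : orderOf a = 2) (hb : orderOf b = 2) (hab : a * b = b * a)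
    (hne : a ≠ b) : orderOf (a * b) = 2 := by
  apply orderOf_eq_prime
  · rw [(show Commute a b from hab).mul_pow, sq_eq_one_of_orderOf ha, sq_eq_one_of_orderOf hb, one_mul]
  · intro h
    apply hne
    rw [← inv_eq_of_orderOf hb]
    exact eq_inv_of_mul_eq_one_left h

theorem Cfg.frP_comm (c : Cfg P m) {t : G} (ht : IsT P t) {u : G} (hu : orderOf u = 2)
    (hut : u ≠ t) (hc : u * t = t * u) : FrP t u := by
  have huN : u ∈ normalizer (P : Set G) := (c.comm_t_iff ht).mp hc
  refine ⟨t * u, ⟨orderOf_mul_of_comm ht.2 hu hc.symm (Ne.symm hut), ?_, ?_, ?_, ?_⟩, ?_⟩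
  · intro h
    exact ne_one_of_orderOf hu (mul_eq_left.mp h)
  · intro h
    exact ne_one_of_orderOf ht.2 (mul_eq_right.mp h)
  · rw [mul_assoc, hc]
  · rw [mul_assoc, ← mul_assoc u t u, hc, mul_assoc]
  · rintro w ⟨hw2, hwt, hwu, hwct, hwcu⟩
    have hwN : w ∈ normalizer (P : Set G) := (c.comm_t_iff ht).mp hwct
    have h1 : w * u ∈ centralizer (P : Set G) := by
      rw [mem_centralizer_iff]
      intro y hy
      have e1 := c.inverts ht hu hut huN hy
      have e2 := c.inverts ht hw2 hwt hwN (inv_mem hy)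
      rw [inv_inv] at e2
      have e3 : (w * u) * y * (w * u)⁻¹ = y := by
        calc (w * u) * y * (w * u)⁻¹ = w * (u * y * u⁻¹) * w⁻¹ := by group
          _ = y := by rw [e1, e2]
      rw [mul_inv_eq_iff_eq_mul] at e3
      exact e3.symm
    have h2 := c.t_unique ht ⟨h1, orderOf_mul_of_comm hw2 hu hwcu hwu⟩
    rw [← h2, mul_assoc, ← sq, sq_eq_one_of_orderOf hu, mul_one]

theorem Cfg.frP_noncomm (c : Cfg P m) {u v y : G} (hy : y ∈ P) (hy3 : orderOf y = 3)
    (huy : u * y * u⁻¹ = y⁻¹) (hvy : v * y * v⁻¹ = y⁻¹)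
    (hcent : ∀ w : G, w * u = u * w → w * v = v * w → w * y = y * w) : FrP u v := by
  obtain ⟨t, ht⟩ := c.exists_t
  have hy1 : y ≠ 1 := by
    rintro rfl
    rw [orderOf_one] at hy3
    norm_num at hy3
  have hyinv : y⁻¹ ≠ y := by
    intro h
    have h1 : y ^ 2 = 1 := by
      rw [sq]
      nth_rewrite 1 [← h]
      exact inv_mul_cancel y
    have := orderOf_dvd_of_pow_eq_one h1
    rw [hy3] at this
    norm_num at this
  have hyC := c.le_centralizer hy
  have hyC' := c.le_centralizer (inv_mem hy)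
  have huN : u ∈ normalizer (P : Set G) := c.mem_normalizer hyC hy1 (by rw [huy]; exact hyC')
  have hvN : v ∈ normalizer (P : Set G) := c.mem_normalizer hyC hy1 (by rw [hvy]; exact hyC')
  have key : ∀ x : G, x * y * x⁻¹ = y⁻¹ → t ≠ x := by
    rintro x hx rfl
    apply hyinv
    rw [← hx, ← ht.comm hy, mul_inv_cancel_right]
  refine ⟨t, ⟨ht.2, key u huy, key v hvy, ((c.comm_t_iff ht).mpr huN).symm,
    ((c.comm_t_iff ht).mpr hvN).symm⟩, ?_⟩
  rintro w ⟨hw2, -, -, hwu, hwv⟩
  by_contra hwt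
  have h1 := hcent w hwu hwv
  have hwN : w ∈ normalizer (P : Set G) :=
    c.mem_normalizer hyC hy1 (by rw [h1, mul_inv_cancel_right]; exact hyC)
  have h2 := c.inverts ht hw2 hwt hwN hy
  rw [h1, mul_inv_cancel_right] at h2
  exact hyinv h2.symm

end Cfsg.Agent.H17.Fr
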