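import Cfsg.Agent.H17.Fr4

set_option autoImplicit false

/-! The final contradiction for the configuration `Cfg`. -/

namespace Cfsg.Agent.H17.Fr

open Subgroup
open scoped Pointwise

variable {G : Type*} [Group G] [Finite G]

local instance : Fact (Nat.Prime 3) := ⟨by norm_num⟩
local instance : Fact (Nat.Prime 2) := ⟨by norm_num⟩

variable {P : Sylow 3 G} {m : ℕ}

theorem conj_mul_left {u v : G} (hu : orderOf u = 2) (hv : orderOf v = 2) :
    u * (u * v) * u⁻¹ = (u * v)⁻¹ := by
  rw [mul_inv_rev, inv_eq_of_orderOf hu, inv_eq_of_orderOf hv]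
  have huu : u * u = 1 := by rw [← sq]; exact sq_eq_one_of_orderOf hu
  calc u * (u * v) * u = (u * u) * v * u := by group
    _ = v * u := by rw [huu, one_mul]

theorem conj_mul_right {u v : G} (hu : orderOf u = 2) (hv : orderOf v = 2) :
    v * (u * v) * v⁻¹ = (u * v)⁻¹ := by
  rw [mul_inv_rev, inv_eq_of_orderOf hu, inv_eq_of_orderOf hv]
  have hvv : v * v = 1 := by rw [← sq]; exact sq_eq_one_of_orderOf hv
  calc v * (u * v) * v = v * u * (v * v) := by group
    _ = v * u := by rw [hvv, mul_one]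

theorem mem_normalizer_zpowers {g x : G} (h : g * x * g⁻¹ = x⁻¹) :
    g ∈ normalizer (zpowers x : Set G) := by
  apply mem_normalizer_of_map_conj_le
  rw [MonoidHom.map_zpowers]
  apply zpowers_le.mpr
  change g * x * g⁻¹ ∈ zpowers x
  rw [h]
  exact inv_mem (mem_zpowers x)

theorem Cfg.closure_ne_top (c : Cfg P m) {u v : G} (hu : orderOf u = 2) (hv : orderOf v = 2)
    (hne : u * v ≠ v * u) : closure {u, v} ≠ ⊤ := by
  intro htop
  have h1 : normalizer (zpowers (u * v) : Set G) = ⊤ := by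
    rw [eq_top_iff, ← htop, closure_le]
    rintro x (rfl | rfl)
    · exact mem_normalizer_zpowers (conj_mul_left hu hv)
    · exact mem_normalizer_zpowers (conj_mul_right hu hv)
  have h2 : (zpowers (u * v)).Normal := normalizer_eq_top_iff.mp h1
  have := c.simple
  rcases h2.eq_bot_or_eq_top with h | h
  · rw [zpowers_eq_bot] at h
    apply hne
    have e : u = v := by
      rw [← inv_eq_of_orderOf hv]
      exact eq_inv_of_mul_eq_one_left h
    rw [e]
  · apply hne
    have hu' : u ∈ zpowers (u * v) := by rw [h]; exact mem_top u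
    have hv' : v ∈ zpowers (u * v) := by rw [h]; exact mem_top v
    obtain ⟨i, hi⟩ := mem_zpowers_iff.mp hu'
    obtain ⟨j, hj⟩ := mem_zpowers_iff.mp hv'
    have : Commute ((u * v) ^ i) ((u * v) ^ j) := (Commute.refl (u * v)).zpow_zpow i j
    rw [hi, hj] at this
    exact this

theorem Cfg.three_dvd (c : Cfg P m) {u v : G} (hu : orderOf u = 2) (hv : orderOf v = 2)
    (hne : u * v ≠ v * u) : 3 ∣ orderOf (u * v) := by
  by_contra h3
  have hH := c.closure_ne_top hu hv hne
  have huH : u ∈ closure {u, v} := subset_closure (Or.inl rfl)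
  have hvH : v ∈ closure {u, v} := subset_closure (Or.inr rfl)
  have h2 : 2 ∣ Nat.card (closure {u, v}) := by
    have := Subgroup.orderOf_dvd_natCard _ huH
    rwa [hu] at this
  have h4m := c.even _ hH h2
  have hx : orderOf (u * v) ∣ 4 * m := (Subgroup.orderOf_dvd_natCard _ (mul_mem huH hvH)).trans h4m
  obtain ⟨a, ha⟩ := c.exists_pow
  have hcop : Nat.Coprime (orderOf (u * v)) m := by
    rw [ha]
    exact (Nat.Coprime.pow_left a ((Nat.Prime.coprime_iff_not_dvd (by norm_num)).mpr h3)).symm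
  have hx4 : orderOf (u * v) ∣ 2 ^ 2 := by
    have := Nat.Coprime.dvd_of_dvd_mul_right hcop hx
    norm_num
    exact this
  obtain ⟨k, hk, hk'⟩ := (Nat.dvd_prime_pow Nat.prime_two).mp hx4
  have hsq : (u * v) ^ 2 ≠ 1 := by
    intro h
    apply hne
    have e : u * v = (u * v)⁻¹ := by
      rw [sq] at h
      exact eq_inv_of_mul_eq_one_left h
    rw [mul_inv_rev, inv_eq_of_orderOf hu, inv_eq_of_orderOf hv] at e
    exact e
  have hk2 : k = 2 := by
    by_contra hcon
    apply hsq
    have hk1 : k ≤ 1 := by omega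
    have : orderOf (u * v) ∣ 2 := by
      rw [hk']
      exact (pow_dvd_pow 2 hk1).trans (by norm_num)
    exact orderOf_dvd_iff_pow_eq_one.mp this
  subst hk2
  -- order four: a 2-group of order at least 8
  have hp1 : IsPGroup 2 (zpowers u) :=
    IsPGroup.of_card (n := 1) (by rw [Nat.card_zpowers, hu, pow_one])
  have hp2 : IsPGroup 2 (zpowers (u * v)) :=
    IsPGroup.of_card (n := 2) (by rw [Nat.card_zpowers, hk'])
  have hnorm : zpowers u ≤ normalizer (zpowers (u * v) : Set G) :=
    zpowers_le.mpr (mem_normalizer_zpowers (conj_mul_left hu hv))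
  have hp3 : IsPGroup 2 (zpowers u ⊔ zpowers (u * v) : Subgroup G) :=
    hp1.to_sup_of_normal_right' hp2 hnorm
  have h5 : 2 ∣ Nat.card (zpowers u ⊔ zpowers (u * v) : Subgroup G) := by
    have := Subgroup.orderOf_dvd_natCard _
      ((le_sup_left : zpowers u ≤ zpowers u ⊔ zpowers (u * v)) (mem_zpowers u))
    rwa [hu] at this
  have h6 := c.dvd_four (c.ne_top_of_isPGroup hp3) hp3 h5
  have h7 : zpowers (u * v) = zpowers u ⊔ zpowers (u * v) := by
    apply Subgroup.eq_of_le_of_card_ge le_sup_right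
    rw [Nat.card_zpowers, hk']
    exact Nat.le_of_dvd (by norm_num) h6
  have h8 : u ∈ zpowers (u * v) := by
    rw [h7]
    exact (le_sup_left : zpowers u ≤ zpowers u ⊔ zpowers (u * v)) (mem_zpowers u)
  obtain ⟨i, hi⟩ := mem_zpowers_iff.mp h8
  have h9 : Commute u (u * v) := by
    have e := (Commute.refl (u * v)).zpow_left i
    rwa [hi] at e
  apply hne
  have h10 : u * (u * v) = u * (v * u) := by rw [h9.eq, mul_assoc]
  exact mul_left_cancel h10

theorem Cfg.frP (c : Cfg P m) {u v : G} (hu : orderOf u = 2) (hv : orderOf v = 2) (huv : u ≠ v) :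
    FrP u v := by
  by_cases hc : u * v = v * u
  · obtain ⟨t, ht⟩ := c.exists_t
    obtain ⟨g, hg⟩ := c.fusion ht hu
    apply FrP.of_conj g
    rw [hg]
    apply c.frP_comm ht (by rw [orderOf_conj', hv])
    · intro h
      apply huv
      rw [← hg] at h
      have := mul_right_cancel h
      exact (mul_left_cancel this).symm
    · rw [← hg]
      calc g * v * g⁻¹ * (g * u * g⁻¹) = g * (v * u) * g⁻¹ := by group
        _ = g * (u * v) * g⁻¹ := by rw [hc]
        _ = g * u * g⁻¹ * (g * v * g⁻¹) := by group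
  · have h3 := c.three_dvd hu hv hc
    obtain ⟨j, hj⟩ : ∃ j : ℕ, orderOf ((u * v) ^ j) = 3 :=
      ⟨orderOf (u * v) / 3, orderOf_pow_orderOf_div (orderOf_pos _).ne' h3⟩
    have hpg : IsPGroup 3 (zpowers ((u * v) ^ j)) :=
      IsPGroup.of_card (n := 1) (by rw [Nat.card_zpowers, hj, pow_one])
    obtain ⟨Q, hQ⟩ := hpg.exists_le_sylow
    obtain ⟨g, hg⟩ := MulAction.exists_smul_eq G Q P
    apply FrP.of_conj g
    have hy : g * (u * v) ^ j * g⁻¹ ∈ P := by
      rw [← hg]
      exact conj_mem_smul g (hQ (mem_zpowers _))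
    apply c.frP_noncomm hy (by rw [orderOf_conj', hj])
    · calc g * u * g⁻¹ * (g * (u * v) ^ j * g⁻¹) * (g * u * g⁻¹)⁻¹
          = g * (u * (u * v) ^ j * u⁻¹) * g⁻¹ := by group
        _ = g * ((u * v)⁻¹) ^ j * g⁻¹ := by rw [← conj_pow, conj_mul_left hu hv]
        _ = (g * (u * v) ^ j * g⁻¹)⁻¹ := by rw [inv_pow]; group
    · calc g * v * g⁻¹ * (g * (u * v) ^ j * g⁻¹) * (g * v * g⁻¹)⁻¹
          = g * (v * (u * v) ^ j * v⁻¹) * g⁻¹ := by group
        _ = g * ((u * v)⁻¹) ^ j * g⁻¹ := by rw [← conj_pow, conj_mul_right hu hv]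
        _ = (g * (u * v) ^ j * g⁻¹)⁻¹ := by rw [inv_pow]; group
    · intro w hwu hwv
      have e1 : Commute w (g * u * g⁻¹) := hwu
      have e2 : Commute w (g * v * g⁻¹) := hwv
      have e3 : g * (u * v) ^ j * g⁻¹ = ((g * u * g⁻¹) * (g * v * g⁻¹)) ^ j := by
        rw [← conj_pow]
        congr 1
        group
      rw [e3]
      exact ((e1.mul_right e2).pow_right j).eq

theorem Cfg.false (c : Cfg P m) : False := by
  obtain ⟨t, ht⟩ := c.exists_t
  haveI : Nonempty {u : G // orderOf u = 2} := ⟨⟨t, ht.2⟩⟩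
  obtain ⟨z, hz⟩ := exists_politician (V := {u : G // orderOf u = 2})
    (fun a b => a ≠ b ∧ a.1 * b.1 = b.1 * a.1) (fun a b h => ⟨h.1.symm, h.2.symm⟩)
    (fun a h => h.1 rfl) (by
      intro v w hvw
      obtain ⟨x, ⟨hx2, hxv, hxw, hxcv, hxcw⟩, huniq⟩ :=
        c.frP v.2 w.2 (fun h => hvw (Subtype.ext h))
      refine ⟨⟨x, hx2⟩, ⟨⟨fun h => hxv (congrArg Subtype.val h).symm, hxcv.symm⟩,
        ⟨fun h => hxw (congrArg Subtype.val h).symm, hxcw.symm⟩⟩, ?_⟩
      rintro y ⟨⟨hy1, hy2⟩, ⟨hy3, hy4⟩⟩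
      apply Subtype.ext
      exact huniq y.1 ⟨y.2, fun h => hy1 (Subtype.ext h).symm, fun h => hy3 (Subtype.ext h).symm,
        hy2.symm, hy4.symm⟩)
  have hcomm : ∀ w : G, orderOf w = 2 → z.1 * w = w * z.1 := by
    intro w hw
    by_cases h : z = ⟨w, hw⟩
    · rw [h]
    · exact (hz ⟨w, hw⟩ h).2
  have := c.simple
  have hnc : normalClosure {z.1} = ⊤ := by
    rcases (normalClosure_normal (s := {z.1})).eq_bot_or_eq_top with h | h
    · exfalso
      have : z.1 ∈ normalClosure {z.1} := subset_normalClosure rfl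
      rw [h, mem_bot] at this
      exact ne_one_of_orderOf z.2 this
    · exact h
  have hcen : ∀ g : G, g * z.1 = z.1 * g := by
    have h1 : normalClosure {z.1} ≤ centralizer {z.1} := by
      unfold normalClosure
      rw [closure_le]
      intro x hx
      obtain ⟨a, ha, hax⟩ := Group.mem_conjugatesOfSet_iff.mp hx
      rw [Set.mem_singleton_iff] at ha
      subst ha
      obtain ⟨b, hb⟩ := isConj_iff.mp hax
      have hx2 : orderOf x = 2 := by rw [← hb, orderOf_conj', z.2]
      change x ∈ centralizer {z.1}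
      rw [mem_centralizer_singleton_iff]
      exact (hcomm x hx2).symm
    intro g
    have : g ∈ centralizer {z.1} := h1 (by rw [hnc]; exact mem_top g)
    rw [mem_centralizer_singleton_iff] at this
    exact this
  obtain ⟨g, hg⟩ := c.fusion ht z.2
  have hzt : z.1 = t := by
    rw [← hg, hcen g, mul_inv_cancel_right]
  have hN : normalizer (P : Set G) = ⊤ := by
    rw [eq_top_iff]
    intro x _
    apply (c.comm_t_iff ht).mp
    rw [← hzt]
    exact hcen x
  have hPn : (P : Subgroup G).Normal := normalizer_eq_top_iff.mp hN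
  have h4 := c.cardN
  rw [hN, Subgroup.card_top] at h4
  rcases hPn.eq_bot_or_eq_top with h | h
  · apply c.ne_one
    rw [← c.card]
    change Nat.card (P : Subgroup G) = 1
    rw [h, Subgroup.card_bot]
  · have h5 : Nat.card (P : Subgroup G) = m := c.card
    rw [h, Subgroup.card_top, h4] at h5
    have := c.pos
    omega

end Cfsg.Agent.H17.Fr
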