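import Mathlib
import Cfsg.Agent.Tr.MC13

/-! # Metacyclic 2-groups with an automorphism of odd order, part 1: characteristic subgroups of
index two -/

namespace Cfsg.Agent.H17.Meta

open Subgroup

universe u

variable {X : Type u} [Group X]

/-- an automorphism of odd prime order fixes a point in every invariant coset -/
theorem exists_fixed [Finite X] (hX : IsPGroup 2 X) (α : MulAut X) {r : ℕ} [Fact r.Prime]
    (hr : r ≠ 2) (hα : α ^ r = 1) (H : Subgroup X) (hH : ∀ h ∈ H, α h ∈ H) (x : X)
    (hx : x⁻¹ * α x ∈ H) : ∃ c, α c = c ∧ x⁻¹ * c ∈ H := by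
  classical
  let T := {y : X // x⁻¹ * y ∈ H}
  have hmap : ∀ y : X, x⁻¹ * y ∈ H → x⁻¹ * α y ∈ H := by
    intro y hy
    have h1 : x⁻¹ * α y = (x⁻¹ * α x) * α (x⁻¹ * y) := by
      rw [map_mul, map_inv]; group
    rw [h1]
    exact H.mul_mem hx (hH _ hy)
  let f : Function.End T := fun y => ⟨α y.1, hmap y.1 y.2⟩
  have hf : ∀ (k : ℕ) (y : T), ((f ^ k) y).1 = (α ^ k) y.1 := by
    intro k
    induction k with
    | zero => intro y; rfl
    | succ k ih =>
      intro y
      rw [pow_succ, pow_succ]
      change ((f ^ k) (f y)).1 = (α ^ k) (α y.1)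
      rw [ih]
  have hfr : f ^ r ^ 1 = 1 := by
    funext y
    apply Subtype.ext
    rw [pow_one, hf, hα]
    rfl
  have : Fintype T := Fintype.ofFinite T
  have hmod := Equiv.Perm.card_fixedPoints_modEq (p := r) (n := 1) hfr
  have hcard : Fintype.card T = Nat.card H := by
    rw [← Nat.card_eq_fintype_card]
    apply Nat.card_congr
    exact
      { toFun := fun y => ⟨x⁻¹ * y.1, y.2⟩
        invFun := fun h => ⟨x * h.1, by simp⟩
        left_inv := fun y => by simp
        right_inv := fun h => by simp }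
  obtain ⟨k, hk⟩ := IsPGroup.iff_card.1 (hX.to_subgroup H)
  by_cases hne : Fintype.card (Function.fixedPoints f) = 0
  · exfalso
    rw [hne, hcard, hk] at hmod
    have h1 : r ∣ 2 ^ k := (Nat.modEq_zero_iff_dvd).1 hmod
    have h2 : r ∣ 2 := (Fact.out : r.Prime).dvd_of_dvd_pow h1
    exact hr ((Nat.prime_dvd_prime_iff_eq Fact.out Nat.prime_two).1 h2)
  · obtain ⟨⟨c, hc⟩⟩ := Fintype.card_pos_iff.1 (Nat.pos_of_ne_zero hne)
    refine ⟨c.1, ?_, c.2⟩
    have := congrArg Subtype.val hc
    exact this

theorem idx2_ext {a b : X} (hgen : closure {a, b} = (⊤ : Subgroup X)) {K₁ K₂ : Subgroup X}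
    (h₁ : K₁.index = 2) (h₂ : K₂.index = 2) (ha : a ∈ K₁ ↔ a ∈ K₂) (hb : b ∈ K₁ ↔ b ∈ K₂) :
    K₁ = K₂ := by
  ext x
  have hx : x ∈ closure {a, b} := by rw [hgen]; trivial
  induction hx using closure_induction with
  | mem y hy =>
    rcases hy with rfl | rfl
    · exact ha
    · exact hb
  | one => simp [one_mem]
  | mul y z _ _ hy hz =>
    exact (mul_mem_iff_of_index_two h₁).trans
      ((iff_congr hy hz).trans (mul_mem_iff_of_index_two h₂).symm)
  | inv y _ hy => exact inv_mem_iff.trans (hy.trans inv_mem_iff.symm)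

theorem idx2_not_both {a b : X} (hgen : closure {a, b} = (⊤ : Subgroup X)) {K : Subgroup X}
    (h : K.index = 2) : ¬ (a ∈ K ∧ b ∈ K) := by
  rintro ⟨ha, hb⟩
  have h1 : closure {a, b} ≤ K := by
    rw [closure_le]
    rintro y (rfl | rfl)
    · exact ha
    · exact hb
  rw [hgen, top_le_iff] at h1
  rw [h1, index_top] at h
  omega

open Classical in
/-- the membership code of a subgroup with respect to two generators -/
noncomputable def code (a b : X) (K : Subgroup X) : Bool × Bool := (decide (a ∈ K), decide (b ∈ K))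

theorem code_inj {a b : X} (hgen : closure {a, b} = (⊤ : Subgroup X)) {K₁ K₂ : Subgroup X}
    (h₁ : K₁.index = 2) (h₂ : K₂.index = 2) (h : code a b K₁ = code a b K₂) : K₁ = K₂ := by
  unfold code at h
  rw [Prod.mk.injEq, decide_eq_decide, decide_eq_decide] at h
  exact idx2_ext hgen h₁ h₂ h.1 h.2

theorem code_ne {a b : X} (hgen : closure {a, b} = (⊤ : Subgroup X)) {K : Subgroup X}
    (h : K.index = 2) : code a b K ≠ (true, true) := by
  intro hc
  simp only [code, Prod.mk.injEq, decide_eq_true_eq] at hc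
  exact idx2_not_both hgen h hc

theorem pigeon : ∀ x y z w : Bool × Bool, x ≠ (true, true) → y ≠ (true, true) →
    z ≠ (true, true) → w ≠ (true, true) → x ≠ y → y ≠ z → x ≠ z → x ≠ w → y ≠ w → z ≠ w →
    False := by
  rintro ⟨_ | _, _ | _⟩ ⟨_ | _, _ | _⟩ ⟨_ | _, _ | _⟩ ⟨_ | _, _ | _⟩ <;> simp

theorem exists_index_two [Finite X] (hX : IsPGroup 2 X) {C : Subgroup X} (hC : C ≠ ⊤) :
    ∃ K : Subgroup X, K.index = 2 ∧ C ≤ K := by
  obtain ⟨N, hN⟩ := IsPGroup.iff_card.1 hX
  obtain ⟨n, hn⟩ := IsPGroup.iff_card.1 (hX.to_subgroup C)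
  have hle : n ≤ N := by
    have := C.card_subgroup_dvd_card
    rw [hn, hN] at this
    exact (Nat.pow_dvd_pow_iff_le_right (by norm_num)).1 this
  have hlt : n < N := by
    rcases hle.lt_or_eq with h | h
    · exact h
    · exfalso
      apply hC
      apply eq_top_of_card_eq
      rw [hn, hN, h]
  obtain ⟨K, hK, hCK⟩ := Sylow.exists_subgroup_card_pow_prime_le 2 (m := N - 1)
    (by rw [hN]; exact pow_dvd_pow 2 (by omega)) C hn (by omega)
  refine ⟨K, ?_, hCK⟩
  have h1 := K.card_mul_index
  rw [hK, hN] at h1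
  have h2 : (2 : ℕ) ^ N = 2 ^ (N - 1) * 2 := by
    rw [← pow_succ]; congr 1; omega
  rw [h2] at h1
  exact Nat.eq_of_mul_eq_mul_left (by positivity) h1

/-- a two-generated 2-group with an invariant subgroup of index two: automorphisms of odd prime
order are trivial -/
theorem aut_trivial [Finite X] (hX : IsPGroup 2 X) {a b : X}
    (hgen : closure {a, b} = (⊤ : Subgroup X)) {M : Subgroup X} (hM : M.index = 2)
    (α : MulAut X) {r : ℕ} [Fact r.Prime] (hr : r ≠ 2) (hα : α ^ r = 1)
    (hMα : M.comap α.toMonoidHom = M) : α = 1 := by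
  have hsurj : Function.Surjective α.toMonoidHom := α.surjective
  have hidx : ∀ K : Subgroup X, K.index = 2 → (K.comap α.toMonoidHom).index = 2 := by
    intro K hK
    rw [index_comap_of_surjective K hsurj, hK]
  have hinj := comap_injective hsurj
  have hinv : ∀ K : Subgroup X, K.index = 2 → K.comap α.toMonoidHom = K := by
    intro K hK
    by_cases hKM : K = M
    · rw [hKM]; exact hMα
    have hK1 := hidx K hK
    have hK2 := hidx _ hK1
    have hK1M : K.comap α.toMonoidHom ≠ M := by
      intro h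
      rw [← hMα] at h
      exact hKM (hinj h)
    have hK2M : (K.comap α.toMonoidHom).comap α.toMonoidHom ≠ M := by
      intro h
      rw [← hMα] at h
      exact hK1M (hinj h)
    have key : K = K.comap α.toMonoidHom ∨
        K.comap α.toMonoidHom = (K.comap α.toMonoidHom).comap α.toMonoidHom ∨
        K = (K.comap α.toMonoidHom).comap α.toMonoidHom := by
      by_contra hcon
      push Not at hcon
      obtain ⟨c1, c2, c3⟩ := hcon
      exact pigeon _ _ _ _ (code_ne hgen hK) (code_ne hgen hK1) (code_ne hgen hK2)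
        (code_ne hgen hM) (fun h => c1 (code_inj hgen hK hK1 h))
        (fun h => c2 (code_inj hgen hK1 hK2 h)) (fun h => c3 (code_inj hgen hK hK2 h))
        (fun h => hKM (code_inj hgen hK hM h)) (fun h => hK1M (code_inj hgen hK1 hM h))
        (fun h => hK2M (code_inj hgen hK2 hM h))
    rcases key with h | h | h
    · exact h.symm
    · exact (hinj h).symm
    · -- `α ^ 2` fixes `K`
      have h2 : ∀ x, α (α x) ∈ K ↔ x ∈ K := by
        intro x
        conv_rhs => rw [h]
        rfl
      have h3 : ∀ (j : ℕ) (x : X), (α ^ (2 * j)) x ∈ K ↔ x ∈ K := by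
        intro j
        induction j with
        | zero => intro x; simp
        | succ j ih =>
          intro x
          have : α ^ (2 * (j + 1)) = α ^ (2 * j) * (α * α) := by
            rw [mul_add, pow_add, mul_one, pow_two]
          rw [this]
          change (α ^ (2 * j)) (α (α x)) ∈ K ↔ x ∈ K
          rw [ih, h2]
      obtain ⟨j, hj⟩ := (Fact.out : r.Prime).odd_of_ne_two hr
      have h4 : α ^ (2 * (j + 1)) = α := by
        have : 2 * (j + 1) = r + 1 := by omega
        rw [this, pow_succ, hα, one_mul]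
      ext x
      have := h3 (j + 1) x
      rw [h4] at this
      exact this
  let D : Subgroup X := ⨅ K : {K : Subgroup X // K.index = 2}, K.1
  have hD : ∀ d ∈ D, α d ∈ D := by
    intro d hd
    rw [mem_iInf] at hd ⊢
    intro K
    have h1 := hd K
    rw [← hinv K.1 K.2] at h1
    exact h1
  have hxD : ∀ x, x⁻¹ * α x ∈ D := by
    intro x
    rw [mem_iInf]
    intro K
    rw [mul_mem_iff_of_index_two K.2, inv_mem_iff]
    conv_lhs => rw [← hinv K.1 K.2]
    rfl
  let C : Subgroup X :=
    { carrier := {c | α c = c}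
      mul_mem' := by
        intro x y hx hy
        simp only [Set.mem_ofPred_eq] at *
        rw [map_mul, hx, hy]
      one_mem' := map_one α
      inv_mem' := by
        intro x hx
        simp only [Set.mem_ofPred_eq] at *
        rw [map_inv, hx] }
  by_contra hne
  have hC : C ≠ ⊤ := by
    intro h
    apply hne
    ext x
    have : x ∈ C := by rw [h]; trivial
    exact this
  obtain ⟨K, hK, hCK⟩ := exists_index_two hX hC
  have hKtop : K = ⊤ := by
    rw [eq_top_iff]
    intro x _
    obtain ⟨c, hc, hxc⟩ := exists_fixed hX α hr hα D hD x (hxD x)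
    have h1 : x⁻¹ * c ∈ K := (mem_iInf.1 hxc) ⟨K, hK⟩
    have h2 : c ∈ K := hCK hc
    have h3 : x = c * (x⁻¹ * c)⁻¹ := by group
    rw [h3]
    exact K.mul_mem h2 (K.inv_mem h1)
  rw [hKtop, index_top] at hK
  omega

/-- a two-generated 2-group whose automorphism group is not a 2-group has no characteristic
subgroup of index two -/
theorem no_char [Finite X] (hX : IsPGroup 2 X) {a b : X}
    (hgen : closure {a, b} = (⊤ : Subgroup X)) (hA : ¬ IsPGroup 2 (MulAut X))
    (M : Subgroup X) (hMc : M.Characteristic) : M.index ≠ 2 := by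
  intro hM
  apply hA
  rcases Nat.eq_two_pow_or_exists_odd_prime_and_dvd (Nat.card (MulAut X)) with ⟨k, hk⟩ | ⟨r, hr, hdvd, hodd⟩
  · exact IsPGroup.of_card hk
  · exfalso
    have : Fact r.Prime := ⟨hr⟩
    obtain ⟨α, hα⟩ := exists_prime_orderOf_dvd_card' r hdvd
    have hr2 : r ≠ 2 := by
      rintro rfl
      exact absurd hodd (by decide)
    have h1 : α = 1 := aut_trivial hX hgen hM α hr2 (by rw [← hα]; exact pow_orderOf_eq_one α)
      (characteristic_iff_comap_eq.1 hMc α)
    rw [h1, orderOf_one] at hα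
    exact hr.one_lt.ne hα

end Cfsg.Agent.H17.Meta
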