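import Mathlib
import Cfsg.Agent.Tr.MC13

/-! # Suzuki's lemma for `p = 2` and 2-groups whose non-cyclic subgroups are self-centralizing -/

namespace Cfsg.Agent.H17.SelfCent

open Subgroup Cfsg.Agent.Tr.MC

universe u

theorem class_one_of_card_four {X : Type u} [Group X] [Finite X] (hX : Nat.card X = 4) :
    Group.nilpotencyClass X = 1 := by
  have : Fact (Nat.Prime 2) := ⟨Nat.prime_two⟩
  have hP : IsPGroup 2 X := IsPGroup.of_card (n := 2) (by rw [hX]; norm_num)
  have : Group.IsNilpotent X := hP.isNilpotent
  have hcomm : ∀ x y : X, x * y = y * x := by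
    intro x y
    exact IsPGroup.commutative_of_card_eq_prime_sq (p := 2) (by rw [hX]; norm_num) x y
  apply le_antisymm
  · rw [← Subgroup.upperCentralSeries_eq_top_iff_nilpotencyClass_le, Subgroup.upperCentralSeries_one,
      eq_top_iff]
    intro g _
    rw [Subgroup.mem_center_iff]
    intro y
    exact hcomm y g
  · rw [Nat.one_le_iff_ne_zero, Ne, Group.nilpotencyClass_zero_iff_subsingleton]
    intro hs
    have := Nat.card_of_subsingleton (1 : X)
    rw [hX] at this
    norm_num at this

/-- Suzuki's lemma for `p = 2`: a self-centralizing subgroup of order 4 forces maximal class. -/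
theorem suzuki : ∀ (k : ℕ) {X : Type u} [Group X] [Finite X], Nat.card X = 2 ^ (k + 2) →
    ∀ V : Subgroup X, Nat.card V = 4 → centralizer (V : Set X) ≤ V →
      Group.nilpotencyClass X = k + 1 := by
  intro k
  have : Fact (Nat.Prime 2) := ⟨Nat.prime_two⟩
  induction k with
  | zero =>
    intro X _ _ hX V _ _
    exact class_one_of_card_four (by rw [hX]; norm_num)
  | succ k ih =>
    intro X _ _ hX V hV hCV
    have hP : IsPGroup 2 X := IsPGroup.of_card hX
    have hnil : Group.IsNilpotent X := hP.isNilpotent
    have hnt : Nontrivial X := by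
      rw [← Finite.one_lt_card_iff_nontrivial, hX]
      exact Nat.one_lt_two_pow (by omega)
    have hXgt : 4 < Nat.card X := by
      rw [hX]
      calc 4 < 2 ^ 3 := by norm_num
        _ ≤ 2 ^ (k + 1 + 2) := Nat.pow_le_pow_right (by norm_num) (by omega)
    set Z := center X with hZ
    have hZV : Z ≤ V := (center_le_centralizer _).trans hCV
    have hVab : ∀ u ∈ V, ∀ v ∈ V, u * v = v * u := by
      intro u hu v hv
      have := IsPGroup.commutative_of_card_eq_prime_sq (p := 2) (G := V) (by rw [hV]; norm_num)
        ⟨u, hu⟩ ⟨v, hv⟩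
      exact congrArg Subtype.val this
    have hVne : V ≠ ⊤ := by
      intro h
      rw [h, Subgroup.card_top] at hV
      omega
    have hcZ : Nat.card Z = 2 := by
      have hdvd : Nat.card Z ∣ 4 := hV ▸ Subgroup.card_dvd_of_le hZV
      have hne1 : Nat.card Z ≠ 1 := by
        have := hP.center_nontrivial
        rw [← Finite.one_lt_card_iff_nontrivial] at this
        exact this.ne'
      have hne4 : Nat.card Z ≠ 4 := by
        intro h4
        have hZeq : Z = V := Subgroup.eq_of_le_of_card_ge hZV (by rw [h4, hV])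
        apply hVne
        rw [eq_top_iff]
        refine le_trans ?_ hCV
        intro g _
        rw [Subgroup.mem_centralizer_iff]
        intro v hv
        have : v ∈ center X := by rw [← hZ, hZeq]; exact hv
        exact (Subgroup.mem_center_iff.1 this g).symm
      have : Nat.card Z ∈ Nat.divisors 4 := Nat.mem_divisors.mpr ⟨hdvd, by norm_num⟩
      have h4 : Nat.divisors 4 = {1, 2, 4} := by decide
      rw [h4] at this
      simp only [Finset.mem_insert, Finset.mem_singleton] at this
      rcases this with h | h | h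
      · exact absurd h hne1
      · exact h
      · exact absurd h hne4
    -- elements
    obtain ⟨t, htV, htZ⟩ : ∃ t ∈ V, t ∉ Z := by
      by_contra hcon
      push Not at hcon
      have : V ≤ Z := hcon
      have := Subgroup.card_le_of_le this
      omega
    have hidxZ : (Z.subgroupOf V).index = 2 := by
      have h1 := (Z.subgroupOf V).card_mul_index
      rw [Nat.card_congr (subgroupOfEquivOfLe hZV).toEquiv, hcZ, hV] at h1
      omega
    have hdich : ∀ v ∈ V, v ∉ Z → v * t⁻¹ ∈ Z := by
      intro v hv hvZ
      have := (Subgroup.mul_mem_iff_of_index_two hidxZ (a := ⟨v, hv⟩) (b := ⟨t⁻¹, V.inv_mem htV⟩)).2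
        (by
          simp only [Subgroup.mem_subgroupOf]
          constructor
          · intro h; exact absurd h hvZ
          · intro h; exact absurd (by simpa using Z.inv_mem h) htZ)
      exact this
    have hZc : ∀ c ∈ Z, ∀ g : X, g * c = c * g := fun c hc g => Subgroup.mem_center_iff.1 hc g
    have hZtwo : ∀ c ∈ Z, ∀ d ∈ Z, c ≠ 1 → d ≠ 1 → c = d := by
      intro c hc d hd hc1 hd1
      by_contra hne
      have h3 : ({1, ⟨c, hc⟩, ⟨d, hd⟩} : Set Z).ncard = 3 := by
        rw [Set.ncard_eq_three]
        refine ⟨1, ⟨c, hc⟩, ⟨d, hd⟩, ?_, ?_, ?_, rfl⟩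
        · intro h; exact hc1 (congrArg Subtype.val h).symm
        · intro h; exact hd1 (congrArg Subtype.val h).symm
        · intro h; exact hne (congrArg Subtype.val h)
      have h4 := Set.ncard_le_card ({1, ⟨c, hc⟩, ⟨d, hd⟩} : Set Z)
      rw [h3, hcZ] at h4
      omega
    have hZsq : ∀ c ∈ Z, c * c = 1 := by
      intro c hc
      have := pow_card_eq_one' (G := Z) (x := ⟨c, hc⟩)
      rw [hcZ, sq] at this
      exact congrArg Subtype.val this
    set N := normalizer (V : Set X) with hN
    have hVN : V ≤ N := le_normalizer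
    have hlt : V < N := Group.normalizerCondition_of_isNilpotent V (lt_top_iff_ne_top.2 hVne)
    have hconjV : ∀ g ∈ N, ∀ v ∈ V, g * v * g⁻¹ ∈ V := fun g hg v hv =>
      (Subgroup.mem_normalizer_iff.1 hg v).1 hv
    have hmemV : ∀ g : X, g * t * g⁻¹ = t → g ∈ V := by
      intro g hg
      apply hCV
      rw [Subgroup.mem_centralizer_iff]
      intro v hv
      have hgt : g * t = t * g := by rwa [mul_inv_eq_iff_eq_mul] at hg
      by_cases hvZ : v ∈ Z
      · exact (hZc v hvZ g).symm
      · have h1 := hdich v hv hvZ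
        have hv' : v = (v * t⁻¹) * t := by group
        rw [hv', mul_assoc, ← hgt, ← mul_assoc, ← mul_assoc, hZc _ h1 g]
    have hout : ∀ g ∈ N, g ∉ V → g * t * g⁻¹ * t⁻¹ ∈ Z ∧ g * t * g⁻¹ * t⁻¹ ≠ 1 := by
      intro g hg hgV
      refine ⟨hdich _ (hconjV g hg t htV) ?_, ?_⟩
      · intro h
        apply htZ
        have := (inferInstance : Z.Normal).conj_mem _ h g⁻¹
        simpa [mul_assoc] using this
      · intro h
        apply hgV
        apply hmemV
        rwa [mul_inv_eq_one] at h
    obtain ⟨a, haN, haV⟩ := SetLike.exists_of_lt hlt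
    have hidxV : (V.subgroupOf N).index = 2 := by
      rw [Subgroup.index_eq_two_iff]
      refine ⟨⟨a, haN⟩, fun b => ?_⟩
      simp only [Subgroup.mem_subgroupOf, Subgroup.coe_mul]
      by_cases hb : (b : X) ∈ V
      · right
        refine ⟨hb, fun h => haV ?_⟩
        have := V.mul_mem (V.inv_mem hb) h
        simpa using this
      · left
        refine ⟨?_, hb⟩
        apply hmemV
        obtain ⟨h1, h1'⟩ := hout a haN haV
        obtain ⟨h2, h2'⟩ := hout b b.2 hb
        have heq := hZtwo _ h1 _ h2 h1' h2'
        set c := a * t * a⁻¹ * t⁻¹ with hc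
        have e1 : a * t * a⁻¹ = c * t := by rw [hc]; group
        have e2 : (b : X) * t * (b : X)⁻¹ = c * t := by rw [heq]; group
        calc (b : X) * a * t * ((b : X) * a)⁻¹ = (b : X) * (a * t * a⁻¹) * (b : X)⁻¹ := by group
          _ = (b : X) * (c * t) * (b : X)⁻¹ := by rw [e1]
          _ = c * ((b : X) * t * (b : X)⁻¹) := by
              rw [← mul_assoc, hZc c h1 b]; group
          _ = c * (c * t) := by rw [e2]
          _ = t := by rw [← mul_assoc, hZsq c h1, one_mul]
    have hcN : Nat.card N = 8 := by
      have h1 := (V.subgroupOf N).card_mul_index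
      rw [Nat.card_congr (subgroupOfEquivOfLe hVN).toEquiv, hV, hidxV] at h1
      omega
    -- the quotient
    have hcQ : Nat.card (X ⧸ Z) = 2 ^ (k + 2) := by
      have h1 := Subgroup.card_eq_card_quotient_mul_card_subgroup Z
      rw [hX, hcZ, pow_succ] at h1
      omega
    set π := QuotientGroup.mk' Z with hπ
    have hker : π.ker ≤ N := by rw [hπ, QuotientGroup.ker_mk']; exact hZV.trans hVN
    have hcNbar : Nat.card (N.map π) = 4 := by
      have h1 := Subgroup.index_map_eq (H := N) (QuotientGroup.mk'_surjective Z) hker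
      have h2 := N.card_mul_index
      have h3 := (N.map π).card_mul_index
      rw [h1, hcQ] at h3
      rw [hcN, hX] at h2
      have e1 : (2 : ℕ) ^ (k + 1 + 2) = 8 * 2 ^ k := by ring
      have e2 : (2 : ℕ) ^ (k + 2) = 4 * 2 ^ k := by ring
      rw [e1] at h2
      have h4 : N.index = 2 ^ k := by omega
      rw [h4, e2] at h3
      exact Nat.eq_of_mul_eq_mul_right (by positivity) h3
    have hcent : centralizer ((N.map π : Subgroup (X ⧸ Z)) : Set (X ⧸ Z)) ≤ N.map π := by
      have claim : ∀ y : X, π y ∈ centralizer ((N.map π : Subgroup (X ⧸ Z)) : Set (X ⧸ Z)) →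
          ∀ v ∈ V, y * v * y⁻¹ ∈ V := by
        intro y hy v hv
        have h1 : π v ∈ N.map π := Subgroup.mem_map_of_mem π (hVN hv)
        have h2 := Subgroup.mem_centralizer_iff.1 hy (π v) h1
        have h3 : π (y * v * y⁻¹ * v⁻¹) = 1 := by
          rw [map_mul, map_mul, map_mul, map_inv, map_inv, ← h2]
          group
        have h4 : y * v * y⁻¹ * v⁻¹ ∈ Z := by
          rw [← QuotientGroup.eq_one_iff]; exact h3
        have := V.mul_mem (hZV h4) hv
        simpa using this
      intro x hx
      obtain ⟨y, rfl⟩ := QuotientGroup.mk'_surjective Z x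
      apply Subgroup.mem_map_of_mem
      rw [hN, Subgroup.mem_normalizer_iff]
      intro v
      refine ⟨claim y hx v, fun h => ?_⟩
      have hx' : π y⁻¹ ∈ centralizer ((N.map π : Subgroup (X ⧸ Z)) : Set (X ⧸ Z)) := by
        rw [map_inv]; exact Subgroup.inv_mem _ hx
      have := claim y⁻¹ hx' _ h
      simpa [mul_assoc] using this
    have h5 := ih (X := X ⧸ Z) hcQ (N.map π) hcNbar hcent
    rw [Group.nilpotencyClass_eq_quotient_center_plus_one, h5]

end Cfsg.Agent.H17.SelfCent
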