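import Mathlib
import Cfsg.Agent.H17.SelfCent

/-! # 2-groups whose non-cyclic subgroups are self-centralizing -/

namespace Cfsg.Agent.H17.SelfCent

open Subgroup Cfsg.Agent.Tr.MC
open scoped Pointwise

universe u

theorem z_mem_zpowers {X : Type u} [Group X] {m : ℕ} {a c : X} (hm : 1 ≤ m)
    (ha : orderOf a = 2 ^ m) (hc : c ∈ zpowers a) (hc1 : c ≠ 1) : a ^ 2 ^ (m - 1) ∈ zpowers c := by
  have hdvd : orderOf c ∣ 2 ^ m := by
    rw [← ha]
    exact orderOf_dvd_of_mem_zpowers hc
  obtain ⟨j, -, hj⟩ := (Nat.dvd_prime_pow Nat.prime_two).1 hdvd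
  have hj1 : 1 ≤ j := by
    by_contra hlt
    have : j = 0 := by omega
    rw [this, pow_zero, orderOf_eq_one_iff] at hj
    exact hc1 hj
  have hu2 : (c ^ 2 ^ (j - 1)) ^ 2 = 1 := by
    rw [← pow_mul, ← pow_succ, Nat.sub_add_cancel hj1, ← hj, pow_orderOf_eq_one]
  have hu1 : c ^ 2 ^ (j - 1) ≠ 1 := by
    apply pow_ne_one_of_lt_orderOf (by positivity)
    rw [hj]
    exact Nat.pow_lt_pow_right (by norm_num) (by omega)
  have hu : c ^ 2 ^ (j - 1) ∈ zpowers a := (zpowers a).pow_mem hc _
  rcases eq_one_or_z hm ha hu hu2 with h | h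
  · exact absurd h hu1
  · rw [← h]
    exact (zpowers c).pow_mem (mem_zpowers c) _

theorem selfcent_of_dat {X : Type u} [Group X] {m : ℕ} {a b : X} (h : Dat X m a b) (hm : 2 ≤ m)
    (H : Subgroup X) (hH : ¬ IsCyclic H) : centralizer (H : Set X) ≤ H := by
  have := h.finite
  have hle : ¬ H ≤ zpowers a := fun hle => hH (Subgroup.isCyclic_of_le hle)
  obtain ⟨g, hgH, hga⟩ := SetLike.not_le_iff_exists.mp hle
  have h' := h.of_not_mem hga
  have hzH : a ^ 2 ^ (m - 1) ∈ H := by
    rcases h'.sq_eq hm with h2 | h2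
    · have hle2 : ¬ H ≤ zpowers g := fun hle => hH (Subgroup.isCyclic_of_le hle)
      obtain ⟨x, hxH, hxg⟩ := SetLike.not_le_iff_exists.mp hle2
      obtain ⟨c, hcH, hca, hc1⟩ : ∃ c ∈ H, c ∈ zpowers a ∧ c ≠ 1 := by
        by_cases hxa : x ∈ zpowers a
        · refine ⟨x, hxH, hxa, ?_⟩
          rintro rfl
          exact hxg (one_mem _)
        · refine ⟨g * x, H.mul_mem hgH hxH,
            (Subgroup.mul_mem_iff_of_index_two h.index).2 (by simp [hga, hxa]), ?_⟩
          intro h1
          apply hxg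
          have : x = g⁻¹ := by rw [eq_inv_iff_mul_eq_one, ← h1]; 
                               have := mul_eq_one_iff_eq_inv.1 h1
                               rw [this]; group
          rw [this]
          exact (zpowers g).inv_mem (mem_zpowers g)
      exact (zpowers_le.2 hcH) (z_mem_zpowers (by omega) h.ord hca hc1)
    · rw [← h2]; exact H.pow_mem hgH 2
  have key : ∀ w ∈ zpowers a, w * g = g * w → w ∈ H := by
    intro w hw hwg
    have htop : centralizer ({w} : Set X) = ⊤ := by
      apply eq_top_of_index_two h.index _ hga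
      · rw [Subgroup.mem_centralizer_singleton_iff]; exact hwg.symm
      · rw [zpowers_le, Subgroup.mem_centralizer_singleton_iff]
        obtain ⟨i, rfl⟩ := mem_zpowers_iff.1 hw
        rw [← zpow_one_add, ← zpow_add_one, add_comm]
    have hcen : w ∈ center X := by
      rw [Subgroup.mem_center_iff]
      intro y
      have : y ∈ centralizer ({w} : Set X) := by rw [htop]; trivial
      rw [Subgroup.mem_centralizer_singleton_iff] at this
      exact this
    rw [h.center_eq hm] at hcen
    exact (zpowers_le.2 hzH) hcen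
  intro c hc
  have hcg : g * c = c * g := Subgroup.mem_centralizer_iff.1 hc g hgH
  by_cases hca : c ∈ zpowers a
  · exact key c hca hcg.symm
  · have h1 : g⁻¹ * c ∈ zpowers a :=
      (Subgroup.mul_mem_iff_of_index_two h.index).2 (by simp [hga, hca])
    have h2 : g⁻¹ * c * g = g * (g⁻¹ * c) := by
      rw [mul_assoc, ← hcg]; group
    have := H.mul_mem hgH (key _ h1 h2)
    simpa using this

end Cfsg.Agent.H17.SelfCent
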