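import Mathlib
import Cfsg.Prelude.Def_OddOrderLocal
import Cfsg.Agent.H17.Meta1
import Cfsg.Agent.H17.SelfCent2

/-! # Metacyclic 2-groups with an automorphism of odd order, part 2: the abelian case -/

namespace Cfsg.Agent.H17.Meta

open Subgroup Cfsg.Agent.Tr.MC

universe u

variable {X : Type u} [Group X]

/-- no characteristic subgroup of index two -/
def NoChar (X : Type u) [Group X] : Prop := ∀ M : Subgroup X, M.Characteristic → M.index ≠ 2

theorem pow_contra (hH : NoChar X) (k : ℕ) (hmul : ∀ x y : X, (x * y) ^ k = x ^ k * y ^ k) (z : X)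
    (hz : z ≠ 1) (hval : ∀ x : X, x ^ k = 1 ∨ x ^ k = z) (y : X) (hy : y ^ k = z) : False := by
  let φ : X →* X := { toFun := fun x => x ^ k, map_one' := one_pow k, map_mul' := hmul }
  apply hH φ.ker
  · rw [characteristic_iff_le_comap]
    intro σ x hx
    rw [mem_comap, MonoidHom.mem_ker]
    rw [MonoidHom.mem_ker] at hx
    change (σ x) ^ k = 1
    change x ^ k = 1 at hx
    rw [← map_pow, hx, map_one]
  · rw [index_eq_two_iff]
    refine ⟨y, fun b => ?_⟩
    have hzz : z * z = 1 := by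
      have := hval (y * y)
      rw [hmul, hy] at this
      rcases this with h | h
      · exact h
      · exfalso
        apply hz
        exact mul_left_cancel (a := z) (by rw [h, mul_one])
    rw [MonoidHom.mem_ker, MonoidHom.mem_ker]
    change Xor' ((b * y) ^ k = 1) (b ^ k = 1)
    rw [hmul, hy]
    rcases hval b with h | h
    · rw [h, one_mul]; right; exact ⟨rfl, hz⟩
    · rw [h, hzz]; left; exact ⟨rfl, hz⟩

theorem exists_gens (hm : Cfsg.IsMetacyclic X) : ∃ a b : X, ∃ _ : (zpowers a).Normal,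
    IsCyclic (X ⧸ zpowers a) ∧ ∀ x : X, ∃ i j : ℤ, x = b ^ j * a ^ i := by
  obtain ⟨N, hN, hc, hq⟩ := hm
  obtain ⟨⟨a, haN⟩, hg⟩ := IsCyclic.exists_generator (α := N)
  have hNeq : N = zpowers a := by
    apply le_antisymm
    · intro x hx
      obtain ⟨i, hi⟩ := mem_zpowers_iff.1 (hg ⟨x, hx⟩)
      rw [mem_zpowers_iff]
      refine ⟨i, ?_⟩
      have := congrArg Subtype.val hi
      simpa using this
    · rw [zpowers_le]; exact haN
  subst hNeq
  obtain ⟨q, hq'⟩ := IsCyclic.exists_generator (α := X ⧸ zpowers a)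
  obtain ⟨b, rfl⟩ := QuotientGroup.mk_surjective q
  refine ⟨a, b, hN, hq, fun x => ?_⟩
  obtain ⟨j, hj⟩ := mem_zpowers_iff.1 (hq' (x : X ⧸ zpowers a))
  rw [← QuotientGroup.mk_zpow, QuotientGroup.eq] at hj
  obtain ⟨i, hi⟩ := mem_zpowers_iff.1 hj
  refine ⟨i, j, ?_⟩
  rw [hi]; group

theorem closure_of_gens {a b : X} (h : ∀ x : X, ∃ i j : ℤ, x = b ^ j * a ^ i) :
    closure {a, b} = (⊤ : Subgroup X) := by
  rw [eq_top_iff]
  intro x _
  obtain ⟨i, j, rfl⟩ := h x
  apply mul_mem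
  · exact zpow_mem (subset_closure (by simp)) j
  · exact zpow_mem (subset_closure (by simp)) i

/-- the abelian case -/
theorem homocyclic [Finite X] (hX : IsPGroup 2 X) (hm : Cfsg.IsMetacyclic X) (hH : NoChar X)
    (hcomm : ∀ x y : X, x * y = y * x) :
    ∃ n : ℕ, Nonempty (X ≃* Multiplicative (ZMod (2 ^ n)) × Multiplicative (ZMod (2 ^ n))) := by
  obtain ⟨a, b, hN, -, hgen⟩ := exists_gens hm
  obtain ⟨s, hs⟩ := IsPGroup.iff_orderOf.1 hX a
  obtain ⟨t, ht⟩ := IsPGroup.iff_orderOf.1 hX b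
  obtain ⟨n, hn⟩ : ∃ n, n = max s t := ⟨_, rfl⟩
  have key : orderOf a = 2 ^ n ∧ orderOf b = 2 ^ n ∧ zpowers a ⊓ zpowers b = ⊥ := by
    by_cases hn0 : n = 0
    · have hs0 : s = 0 := by omega
      have ht0 : t = 0 := by omega
      rw [hs0] at hs
      rw [ht0] at ht
      refine ⟨by rw [hs, hn0], by rw [ht, hn0], ?_⟩
      rw [pow_zero, orderOf_eq_one_iff] at hs
      rw [hs, zpowers_one_eq_bot, bot_inf_eq]
    have hn1 : 1 ≤ n := by omega
    obtain ⟨k, hk⟩ : ∃ k, k = 2 ^ (n - 1) := ⟨_, rfl⟩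
    have hk2 : k * 2 = 2 ^ n := by
      rw [hk, ← pow_succ]; congr 1; omega
    have hmul : ∀ x y : X, (x * y) ^ k = x ^ k * y ^ k := fun x y =>
      (show Commute x y from hcomm x y).mul_pow k
    have ha2 : a ^ 2 ^ n = 1 := by
      apply orderOf_dvd_iff_pow_eq_one.1
      rw [hs]; exact pow_dvd_pow 2 (by omega)
    have hb2 : b ^ 2 ^ n = 1 := by
      apply orderOf_dvd_iff_pow_eq_one.1
      rw [ht]; exact pow_dvd_pow 2 (by omega)
    have hu2 : (a ^ k) ^ 2 = 1 := by rw [← pow_mul, hk2, ha2]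
    have hv2 : (b ^ k) ^ 2 = 1 := by rw [← pow_mul, hk2, hb2]
    have hpk : ∀ (g : X) (j : ℤ), (g ^ j) ^ k = (g ^ k) ^ j := by
      intro g j
      rw [← zpow_natCast, ← zpow_natCast, ← zpow_mul, ← zpow_mul, mul_comm]
    have hval : ∀ x : X, ∃ e₁ e₂ : X, (e₁ = 1 ∨ e₁ = b ^ k) ∧ (e₂ = 1 ∨ e₂ = a ^ k) ∧
        x ^ k = e₁ * e₂ := by
      intro x
      obtain ⟨i, j, rfl⟩ := hgen x
      refine ⟨(b ^ k) ^ j, (a ^ k) ^ i, mem_zpowers_two hv2 (zpow_mem_zpowers _ _),
        mem_zpowers_two hu2 (zpow_mem_zpowers _ _), ?_⟩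
      rw [hmul, hpk, hpk]
    have hnot : ¬ (a ^ k = 1 ∧ b ^ k = 1) := by
      rintro ⟨h1, h2⟩
      have h3 := orderOf_dvd_of_pow_eq_one h1
      have h4 := orderOf_dvd_of_pow_eq_one h2
      rw [hs, hk] at h3
      rw [ht, hk] at h4
      have h5 := (Nat.pow_dvd_pow_iff_le_right (by norm_num)).1 h3
      have h6 := (Nat.pow_dvd_pow_iff_le_right (by norm_num)).1 h4
      omega
    have hu : a ^ k ≠ 1 := by
      intro hu
      have hv : b ^ k ≠ 1 := fun hv => hnot ⟨hu, hv⟩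
      apply pow_contra hH k hmul (b ^ k) hv ?_ b rfl
      intro x
      obtain ⟨e₁, e₂, h1, h2, h3⟩ := hval x
      rw [hu, or_self] at h2
      rw [h3, h2, mul_one]
      exact h1
    have hv : b ^ k ≠ 1 := by
      intro hv
      apply pow_contra hH k hmul (a ^ k) hu ?_ a rfl
      intro x
      obtain ⟨e₁, e₂, h1, h2, h3⟩ := hval x
      rw [hv, or_self] at h1
      rw [h3, h1, one_mul]
      exact h2
    have huv : a ^ k ≠ b ^ k := by
      intro huv
      apply pow_contra hH k hmul (a ^ k) hu ?_ a rfl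
      intro x
      obtain ⟨e₁, e₂, h1, h2, h3⟩ := hval x
      rw [← huv] at h1
      rw [h3]
      rcases h1 with rfl | rfl <;> rcases h2 with rfl | rfl
      · left; rw [one_mul]
      · right; rw [one_mul]
      · right; rw [mul_one]
      · left; rw [← sq, hu2]
    have hoa : orderOf a = 2 ^ n := by
      have := orderOf_eq_prime_pow (p := 2) (n := n - 1) (x := a) (by rw [← hk]; exact hu)
        (by rw [Nat.sub_add_cancel hn1]; exact ha2)
      rw [this, Nat.sub_add_cancel hn1]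
    have hob : orderOf b = 2 ^ n := by
      have := orderOf_eq_prime_pow (p := 2) (n := n - 1) (x := b) (by rw [← hk]; exact hv)
        (by rw [Nat.sub_add_cancel hn1]; exact hb2)
      rw [this, Nat.sub_add_cancel hn1]
    refine ⟨hoa, hob, ?_⟩
    rw [eq_bot_iff]
    rintro w ⟨hwa, hwb⟩
    rw [mem_bot]
    by_contra hw1
    have h1 := Cfsg.Agent.H17.SelfCent.z_mem_zpowers hn1 hoa hwa hw1
    have h2 := Cfsg.Agent.H17.SelfCent.z_mem_zpowers hn1 hob hwb hw1
    rw [← hk] at h1 h2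
    obtain ⟨e, he⟩ := IsPGroup.iff_orderOf.1 hX w
    have he1 : 1 ≤ e := by
      by_contra hlt
      have : e = 0 := by omega
      rw [this, pow_zero, orderOf_eq_one_iff] at he
      exact hw1 he
    have hw' : w ^ 2 ^ (e - 1) ≠ 1 := by
      apply pow_ne_one_of_lt_orderOf (by positivity)
      rw [he]
      exact Nat.pow_lt_pow_right (by norm_num) (by omega)
    have h3 := mem_zpowers_two hu2 (Cfsg.Agent.H17.SelfCent.z_mem_zpowers he1 he h1 hu)
    have h4 := mem_zpowers_two hv2 (Cfsg.Agent.H17.SelfCent.z_mem_zpowers he1 he h2 hv)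
    rcases h3 with h3 | h3
    · exact hw' h3
    rcases h4 with h4 | h4
    · exact hw' h4
    exact huv (h3.symm.trans h4)
  obtain ⟨hoa, hob, hint⟩ := key
  let f : zpowers a × zpowers b →* X :=
    MonoidHom.noncommCoprod (zpowers a).subtype (zpowers b).subtype (fun m n => hcomm _ _)
  have hfinj : Function.Injective f := by
    rw [injective_iff_map_eq_one]
    rintro ⟨x, y⟩ h
    have h' : x.1 * y.1 = 1 := h
    have hx : x.1 ∈ zpowers a ⊓ zpowers b := by
      refine ⟨x.2, ?_⟩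
      rw [eq_inv_of_mul_eq_one_left h']
      exact (zpowers b).inv_mem y.2
    rw [hint, mem_bot] at hx
    rw [hx, one_mul] at h'
    exact Prod.ext (Subtype.ext hx) (Subtype.ext h')
  have hfsurj : Function.Surjective f := by
    intro x
    obtain ⟨i, j, rfl⟩ := hgen x
    refine ⟨(⟨a ^ i, zpow_mem_zpowers _ _⟩, ⟨b ^ j, zpow_mem_zpowers _ _⟩), ?_⟩
    exact hcomm _ _
  let e0 : zpowers a × zpowers b ≃* X := MulEquiv.ofBijective f ⟨hfinj, hfsurj⟩
  have hcz : Nat.card (Multiplicative (ZMod (2 ^ n))) = 2 ^ n := by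
    rw [Nat.card_congr Multiplicative.toAdd, Nat.card_zmod]
  let e1 : zpowers a ≃* Multiplicative (ZMod (2 ^ n)) :=
    mulEquivOfCyclicCardEq (by rw [Nat.card_zpowers, hoa, hcz])
  let e2 : zpowers b ≃* Multiplicative (ZMod (2 ^ n)) :=
    mulEquivOfCyclicCardEq (by rw [Nat.card_zpowers, hob, hcz])
  exact ⟨n, ⟨e0.symm.trans (MulEquiv.prodCongr e1 e2)⟩⟩

end Cfsg.Agent.H17.Meta
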