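import Mathlib
import Cfsg.Agent.H17.Meta2
import Cfsg.Agent.Fus.MetaGrp

/-! # Metacyclic 2-groups with an automorphism of odd order, part 3: the nonabelian case -/

namespace Cfsg.Agent.H17.Meta

open Subgroup Cfsg.Agent.Tr.MC
open scoped commutatorElement

universe u

variable {X : Type u} [Group X]

theorem NoChar.quotient (hH : NoChar X) (K : Subgroup X) [hK : K.Characteristic] :
    NoChar (X ⧸ K) := by
  intro M hM hidx
  apply hH (M.comap (QuotientGroup.mk' K)) ?_
    (by rw [index_comap_of_surjective _ (QuotientGroup.mk'_surjective K)]; exact hidx)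
  rw [characteristic_iff_le_comap]
  intro σ x hx
  rw [mem_comap] at hx
  rw [mem_comap, mem_comap]
  have h1 := (characteristic_iff_le_comap.1 hM
    (QuotientGroup.congr K K σ (characteristic_iff_map_eq.1 hK σ))) hx
  exact h1

theorem card_mult_zmod (n : ℕ) : Nat.card (Multiplicative (ZMod (2 ^ n))) = 2 ^ n := by
  rw [Nat.card_congr Multiplicative.toAdd, Nat.card_zmod]

theorem commutator_le_of_gens {a : X} [(zpowers a).Normal] (hc : IsCyclic (X ⧸ zpowers a)) :
    commutator X ≤ zpowers a :=
  Normal.quotient_commutative_iff_commutator_le.1 inferInstance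

/-- commutator subgroup of order two -/
theorem index_four_of_card_two [Finite X] (hX : IsPGroup 2 X) (hm : Cfsg.IsMetacyclic X)
    (hH : NoChar X) (z : X) (hz : z ≠ 1) (hzc : z ∈ commutator X)
    (hval : ∀ w ∈ commutator X, w = 1 ∨ w = z) : (commutator X).index = 4 := by
  have hA2 : IsPGroup 2 (X ⧸ commutator X) := hX.to_quotient _
  have hAm : Cfsg.IsMetacyclic (X ⧸ commutator X) :=
    Cfsg.Agent.Fus.isMetacyclic_of_surjective (QuotientGroup.mk' _)
      (QuotientGroup.mk'_surjective _) hm
  have hAH : NoChar (X ⧸ commutator X) := hH.quotient _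
  have hAc : ∀ x y : X ⧸ commutator X, x * y = y * x :=
    fun x y => mul_comm (G := Abelianization X) x y
  obtain ⟨n, ⟨e⟩⟩ := homocyclic hA2 hAm hAH hAc
  have hidx : (commutator X).index = 2 ^ n * 2 ^ n := by
    rw [index_eq_card, Nat.card_congr e.toEquiv, Nat.card_prod, card_mult_zmod]
  have hpz : ∀ g : Multiplicative (ZMod (2 ^ n)), g ^ 2 ^ n = 1 := by
    intro g
    have := pow_card_eq_one' (G := Multiplicative (ZMod (2 ^ n))) (x := g)
    rwa [card_mult_zmod] at this
  have hpow : ∀ y : X, y ^ 2 ^ n ∈ commutator X := by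
    intro y
    rw [← QuotientGroup.eq_one_iff, QuotientGroup.mk_pow]
    apply e.injective
    rw [map_pow, map_one]
    exact Prod.ext (hpz _) (hpz _)
  have hzz : z * z = 1 := by
    rcases hval _ (mul_mem hzc hzc) with h | h
    · exact h
    · exfalso
      apply hz
      exact mul_left_cancel (a := z) (by rw [h, mul_one])
  have hzcen : ∀ g : X, g * z = z * g := by
    intro g
    have h1 : g * z * g⁻¹ ∈ commutator X :=
      (inferInstance : (commutator X).Normal).conj_mem z hzc g
    rcases hval _ h1 with h | h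
    · exfalso
      apply hz
      have : z = g⁻¹ * (g * z * g⁻¹) * g := by group
      rw [this, h]; group
    · calc g * z = (g * z * g⁻¹) * g := by group
        _ = z * g := by rw [h]
  have hcc : ∀ x y : X, ∃ c : X, (∀ g, g * c = c * g) ∧ c * c = 1 ∧ x * y = c * (y * x) := by
    intro x y
    have h1 : ⁅x, y⁆ ∈ commutator X := by
      rw [_root_.commutator_def]
      exact commutator_mem_commutator (mem_top x) (mem_top y)
    have h2 : x * y = ⁅x, y⁆ * (y * x) := by
      rw [commutatorElement_def]; group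
    rcases hval _ h1 with h | h
    · exact ⟨1, fun g => by simp, by simp, by rw [h2, h]⟩
    · exact ⟨z, hzcen, hzz, by rw [h2, h]⟩
  rcases Nat.lt_or_ge n 2 with hn | hn
  · interval_cases n
    · exfalso
      rw [pow_zero, mul_one, index_eq_one] at hidx
      have hall : ∀ x : X, x = 1 ∨ x = z := fun x => hval x (by rw [hidx]; trivial)
      have hb : commutator X = ⊥ := by
        rw [commutator_eq_bot_iff]
        refine ⟨⟨fun x y => ?_⟩⟩
        rcases hall x with rfl | rfl <;> rcases hall y with rfl | rfl <;> simp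
      rw [hb, mem_bot] at hzc
      exact hz hzc
    · rw [hidx]; norm_num
  · exfalso
    have hsq : ∀ x y : X, x ^ 2 * y = y * x ^ 2 := by
      intro x y
      obtain ⟨c, hc, hc2, hxy⟩ := hcc x y
      calc x ^ 2 * y = x * (x * y) := by rw [sq, mul_assoc]
        _ = x * (c * (y * x)) := by rw [hxy]
        _ = c * ((x * y) * x) := by rw [← mul_assoc, hc x, mul_assoc, mul_assoc]
        _ = c * ((c * (y * x)) * x) := by rw [hxy]
        _ = (c * c) * (y * x ^ 2) := by rw [sq]; simp only [mul_assoc]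
        _ = y * x ^ 2 := by rw [hc2, one_mul]
    have h2 : ∀ x y : X, ∃ c : X, (∀ g, g * c = c * g) ∧ c * c = 1 ∧
        (x * y) ^ 2 = c * (x ^ 2 * y ^ 2) := by
      intro x y
      obtain ⟨c, hc, hc2, hxy⟩ := hcc y x
      refine ⟨c, hc, hc2, ?_⟩
      calc (x * y) ^ 2 = x * (y * x) * y := by rw [sq]; simp only [mul_assoc]
        _ = x * (c * (x * y)) * y := by rw [hxy]
        _ = c * (x ^ 2 * y ^ 2) := by
          rw [← mul_assoc x c, hc x, sq, sq]; simp only [mul_assoc]
    have h4 : ∀ x y : X, (x * y) ^ 4 = x ^ 4 * y ^ 4 := by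
      intro x y
      obtain ⟨c, hc, hc2, hxy⟩ := h2 x y
      have e4 : ∀ g : X, g ^ 4 = g ^ 2 * g ^ 2 := fun g => by rw [← pow_add]
      calc (x * y) ^ 4 = (x * y) ^ 2 * (x * y) ^ 2 := e4 _
        _ = (c * (x ^ 2 * y ^ 2)) * (c * (x ^ 2 * y ^ 2)) := by rw [hxy]
        _ = (c * c) * ((x ^ 2 * y ^ 2) * (x ^ 2 * y ^ 2)) := by
          rw [mul_assoc c, ← mul_assoc (x ^ 2 * y ^ 2) c, hc (x ^ 2 * y ^ 2)]
          simp only [mul_assoc]
        _ = x ^ 2 * (y ^ 2 * x ^ 2) * y ^ 2 := by rw [hc2, one_mul]; simp only [mul_assoc]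
        _ = x ^ 2 * (x ^ 2 * y ^ 2) * y ^ 2 := by rw [hsq y (x ^ 2)]
        _ = x ^ 4 * y ^ 4 := by rw [e4, e4]; simp only [mul_assoc]
    have hmul : ∀ x y : X, (x * y) ^ 2 ^ n = x ^ 2 ^ n * y ^ 2 ^ n := by
      intro x y
      have e : 2 ^ n = 4 * 2 ^ (n - 2) := by
        have : n = 2 + (n - 2) := by omega
        conv_lhs => rw [this, pow_add]
        norm_num
      have hcm : Commute (x ^ 4) (y ^ 4) := by
        have : x ^ 4 = (x ^ 2) ^ 2 := by rw [← pow_mul]
        rw [this]
        exact hsq _ _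
      rw [e, pow_mul, pow_mul, pow_mul, h4, hcm.mul_pow]
    obtain ⟨a, b, hN, hcyc, hgen⟩ := exists_gens hm
    have hle : commutator X ≤ zpowers a := commutator_le_of_gens hcyc
    have ha : a ^ 2 ^ n ≠ 1 := by
      intro ha
      have h5 : orderOf a ≤ 2 ^ n := Nat.le_of_dvd (by positivity) (orderOf_dvd_of_pow_eq_one ha)
      have hq : ∀ q : X ⧸ zpowers a, q ∈ zpowers (b : X ⧸ zpowers a) := by
        intro q
        obtain ⟨x, rfl⟩ := QuotientGroup.mk_surjective q
        obtain ⟨i, j, rfl⟩ := hgen x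
        rw [mem_zpowers_iff]
        refine ⟨j, ?_⟩
        rw [QuotientGroup.mk_mul, (QuotientGroup.eq_one_iff (a ^ i)).2 (zpow_mem_zpowers _ _),
          mul_one, QuotientGroup.mk_zpow]
      have h6 := orderOf_eq_card_of_forall_mem_zpowers hq
      have h7 : orderOf (b : X ⧸ zpowers a) ≤ 2 ^ n := by
        apply Nat.le_of_dvd (by positivity)
        apply orderOf_dvd_of_pow_eq_one
        rw [← QuotientGroup.mk_pow, QuotientGroup.eq_one_iff]
        exact hle (hpow b)
      have h8 := (zpowers a).card_mul_index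
      rw [Nat.card_zpowers, index_eq_card, ← h6] at h8
      have h9 := (commutator X).card_mul_index
      rw [hidx] at h9
      have h10 : 1 < Nat.card (commutator X) := by
        rw [one_lt_card_iff_ne_bot]
        intro hb
        rw [hb, mem_bot] at hzc
        exact hz hzc
      have h11 : Nat.card X ≤ 2 ^ n * 2 ^ n := by
        rw [← h8]; exact Nat.mul_le_mul h5 h7
      have h12 : 2 * (2 ^ n * 2 ^ n) ≤ Nat.card X := by
        rw [← h9]; exact Nat.mul_le_mul_right _ h10
      have : 0 < 2 ^ n * 2 ^ n := by positivity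
      omega
    apply pow_contra hH (2 ^ n) hmul z hz (fun x => hval _ (hpow x)) a
    rcases hval _ (hpow a) with h | h
    · exact absurd h ha
    · exact h

/-- nonabelian metacyclic 2-groups without characteristic subgroups of index two -/
theorem index_four [Finite X] (hX : IsPGroup 2 X) (hm : Cfsg.IsMetacyclic X)
    (hH : NoChar X) (hna : ¬ ∀ x y : X, x * y = y * x) : (commutator X).index = 4 := by
  obtain ⟨a, b, hN, hcyc, hgen⟩ := exists_gens hm
  have hle : commutator X ≤ zpowers a := commutator_le_of_gens hcyc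
  have hcy : IsCyclic (commutator X) := isCyclic_of_le hle
  obtain ⟨c, hc⟩ := (Subgroup.isCyclic_iff_exists_zpowers_eq_top _).1 hcy
  have hc1 : c ≠ 1 := by
    rintro rfl
    rw [zpowers_one_eq_bot] at hc
    apply hna
    have := (commutator_eq_bot_iff X).1 hc.symm
    exact fun x y => this.is_comm.comm x y
  have hcm : c ∈ commutator X := by rw [← hc]; exact mem_zpowers c
  have hK : (zpowers (c ^ 2)).Characteristic := by
    rw [characteristic_iff_le_comap]
    intro σ
    rw [zpowers_le, mem_comap]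
    have h1 : σ c ∈ commutator X :=
      (characteristic_iff_le_comap.1 (inferInstance : (commutator X).Characteristic) σ) hcm
    rw [← hc] at h1
    obtain ⟨i, hi⟩ := mem_zpowers_iff.1 h1
    rw [mem_zpowers_iff]
    refine ⟨i, ?_⟩
    change (c ^ 2) ^ i = σ (c ^ 2)
    rw [map_pow, ← hi, ← zpow_natCast, ← zpow_natCast, ← zpow_mul, ← zpow_mul, mul_comm]
  have hcK : c ∉ zpowers (c ^ 2) := by
    intro h
    obtain ⟨i, hi⟩ := mem_zpowers_iff.1 h
    have h1 : c ^ (2 * i - 1) = 1 := by
      rw [zpow_sub, zpow_one, zpow_mul, zpow_two, ← sq, hi, mul_inv_cancel]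
    obtain ⟨e, he⟩ := IsPGroup.iff_orderOf.1 hX c
    have he1 : 1 ≤ e := by
      by_contra hlt
      have : e = 0 := by omega
      rw [this, pow_zero, orderOf_eq_one_iff] at he
      exact hc1 he
    have h2 := orderOf_dvd_iff_zpow_eq_one.2 h1
    rw [he] at h2
    have h3 : (2 : ℤ) ∣ 2 * i - 1 := by
      refine dvd_trans ?_ h2
      push_cast
      exact dvd_pow_self 2 (by omega)
    omega
  have hmapc : commutator (X ⧸ zpowers (c ^ 2)) =
      (commutator X).map (QuotientGroup.mk' (zpowers (c ^ 2))) := by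
    rw [_root_.commutator_def, _root_.commutator_def, map_commutator,
      map_top_of_surjective _ (QuotientGroup.mk'_surjective _)]
  have hz2 : ((c : X ⧸ zpowers (c ^ 2))) ^ 2 = 1 := by
    rw [← QuotientGroup.mk_pow, QuotientGroup.eq_one_iff]
    exact mem_zpowers _
  have h4 := index_four_of_card_two (hX.to_quotient (zpowers (c ^ 2)))
    (Cfsg.Agent.Fus.isMetacyclic_of_surjective (QuotientGroup.mk' _)
      (QuotientGroup.mk'_surjective _) hm) (hH.quotient _) (c : X ⧸ zpowers (c ^ 2))
    (by rw [Ne, QuotientGroup.eq_one_iff]; exact hcK)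
    (by rw [hmapc]; exact mem_map_of_mem _ hcm)
    (by
      intro w hw
      rw [hmapc] at hw
      obtain ⟨y, hy, rfl⟩ := hw
      rw [← hc] at hy
      obtain ⟨i, rfl⟩ := mem_zpowers_iff.1 hy
      apply mem_zpowers_two hz2
      rw [map_zpow]
      exact zpow_mem_zpowers _ _)
  rw [hmapc, index_map, QuotientGroup.ker_mk', QuotientGroup.range_mk', index_top, mul_one,
    sup_eq_left.2 (by rw [zpowers_le]; exact pow_mem hcm 2)] at h4
  exact h4

theorem main [Finite X] (hX : IsPGroup 2 X) (hm : Cfsg.IsMetacyclic X)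
    (hA : ¬ IsPGroup 2 (MulAut X)) :
    Nonempty (X ≃* QuaternionGroup 2) ∨
      ∃ n : ℕ, Nonempty (X ≃* Multiplicative (ZMod (2 ^ n)) × Multiplicative (ZMod (2 ^ n))) := by
  obtain ⟨a, b, hN, hcyc, hgen⟩ := exists_gens hm
  have hH : NoChar X := fun M hM => no_char hX (closure_of_gens hgen) hA M hM
  by_cases hcomm : ∀ x y : X, x * y = y * x
  · right
    exact homocyclic hX hm hH hcomm
  left
  have hidx := index_four hX hm hH hcomm
  obtain ⟨e, he⟩ := IsPGroup.iff_card.1 (hX.to_subgroup (commutator X))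
  have he1 : 1 ≤ e := by
    by_contra hlt
    have h0 : e = 0 := by omega
    rw [h0, pow_zero, card_eq_one] at he
    apply hcomm
    have := (commutator_eq_bot_iff X).1 he
    exact fun x y => this.is_comm.comm x y
  have hcard : Nat.card X = 2 ^ (e + 1 + 1) := by
    rw [← (commutator X).card_mul_index, he, hidx, pow_succ, pow_succ]; ring
  obtain ⟨a', b', hD⟩ := dat_of_index_four (m := e + 1) (by omega) hcard hidx
  by_cases h3 : 3 ≤ e + 1
  · exact absurd (hD.isPGroup_aut h3) hA
  have e1 : e = 1 := by omega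
  subst e1
  rcases hD.trichotomy (by omega) with ⟨h2, hc⟩ | ⟨h2, hc⟩ | ⟨hm3, -⟩
  · exact absurd (hD.isPGroup_aut_dih h2) hA
  · apply Cfsg.Agent.Lib.Helper18.mulEquiv_quaternion 2 a' b' _ hD.nmem h2 hc
    · rw [hD.card]; norm_num
    · rw [hD.ord]; norm_num
  · omega

end Cfsg.Agent.H17.Meta
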