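import Mathlib
import Cfsg.Agent.Tr.MC13
import Cfsg.Agent.Tr.QuatAut
import Cfsg.Agent.Tr.SL23
import Cfsg.Agent.H1.Fit

/-! # Normal subgroups of 2-groups of maximal class, and a normal `SL(2,3)` -/

namespace Cfsg.Agent.H17.SLN

open Subgroup Cfsg.Agent.Tr.MC

universe u

variable {Y : Type u} [Group Y] {m : ℕ} {a b : Y}

theorem sq_mem_of_normal (h : Dat Y m a b) (R : Subgroup Y) [hR : R.Normal] {g : Y}
    (hgR : g ∈ R) (hga : g ∉ zpowers a) : a ^ 2 ∈ R := by
  have h' := h.of_not_mem hga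
  have h5 : a * g * a⁻¹ ∈ R := hR.conj_mem g hgR a
  have h6 : a * g * a⁻¹ * g⁻¹ ∈ R := R.mul_mem h5 (R.inv_mem hgR)
  have h7 : a * g * a⁻¹ * g⁻¹ = a * (g * a * g⁻¹)⁻¹ := by group
  rw [h7] at h6
  rcases h'.conj with hc | ⟨hm3, hc⟩
  · rw [hc, inv_inv, ← sq] at h6; exact h6
  · obtain ⟨k, rfl⟩ : ∃ k, m = k + 3 := ⟨m - 3, by omega⟩
    have e1 : k + 3 - 1 = k + 2 := by omega
    rw [hc, e1] at h6
    set K : ℤ := 2 ^ k with hK
    have hc1 : a * (a⁻¹ * a ^ 2 ^ (k + 2))⁻¹ = a ^ (2 - 4 * K) := by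
      have : a ^ 2 ^ (k + 2) = a ^ (4 * K) := by
        rw [← zpow_natCast]; congr 1; rw [hK]; push_cast; ring
      rw [this, mul_inv_rev, inv_inv, ← zpow_neg, ← mul_assoc, ← zpow_one_add, ← zpow_add_one]
      congr 1; ring
    rw [hc1] at h6
    have hz : a ^ (4 * K) ∈ R := by
      have h8 := R.zpow_mem h6 (2 * K)
      rw [← zpow_mul] at h8
      have : a ^ ((2 - 4 * K) * (2 * K)) = a ^ (4 * K) := by
        rw [zpow_eq_zpow_iff_modEq, h.ord]
        apply Int.ModEq.symm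
        rw [Int.modEq_iff_dvd]
        refine ⟨-K, ?_⟩
        rw [hK]; push_cast; ring
      rwa [this] at h8
    have := R.mul_mem h6 hz
    rw [← zpow_add] at this
    have e2 : (2 - 4 * K + 4 * K) = 2 := by ring
    rw [e2] at this
    exact_mod_cast this

theorem dat_of_normal (h : Dat Y m a b) (hm : 1 ≤ m) (R : Subgroup Y) [hR : R.Normal] {g : Y}
    (hgR : g ∈ R) (hga : g ∉ zpowers a) (haR : a ∉ R) (ha2 : a ^ 2 ∈ R) :
    Dat R (m - 1) ⟨a ^ 2, ha2⟩ ⟨g, hgR⟩ := by
  have := h.finite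
  haveI : Fact (Nat.Prime 2) := ⟨Nat.prime_two⟩
  have hR2 : IsPGroup 2 R := h.isPGroup.to_subgroup R
  have h' := h.of_not_mem hga
  have hord : orderOf (a ^ 2) = 2 ^ (m - 1) := by
    rw [orderOf_pow, h.ord]
    obtain ⟨k, rfl⟩ : ∃ k, m = k + 1 := ⟨m - 1, by omega⟩
    have : Nat.gcd (2 ^ (k + 1)) 2 = 2 := by
      apply Nat.gcd_eq_right
      exact dvd_pow_self 2 (by omega)
    rw [this, Nat.add_sub_cancel, pow_succ, Nat.mul_div_cancel _ (by norm_num)]
  have hle2 : zpowers (a ^ 2) ≤ zpowers a := zpowers_le.mpr ((zpowers a).pow_mem (mem_zpowers a) 2)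
  refine ⟨?_, ?_, ?_, ?_⟩
  · obtain ⟨j, hj⟩ := IsPGroup.iff_card.mp hR2
    have hle : zpowers (a ^ 2) ≤ R := zpowers_le.mpr ha2
    have h1 : 2 ^ (m - 1) < 2 ^ j := by
      rw [← hj, ← hord, ← Nat.card_zpowers]
      apply lt_of_le_of_ne (Subgroup.card_le_of_le hle)
      intro heq
      have := Subgroup.eq_of_le_of_card_ge hle heq.ge
      apply hga
      apply hle2
      rw [this]; exact hgR
    have h2 : 2 ^ j < 2 ^ (m + 1) := by
      rw [← hj, ← h.card]
      apply lt_of_le_of_ne (Subgroup.card_le_card_group R)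
      intro heq
      have := Subgroup.eq_top_of_card_eq R heq
      apply haR
      rw [this]; trivial
    have h3 := (Nat.pow_lt_pow_iff_right (by norm_num : 1 < 2)).1 h1
    have h4 := (Nat.pow_lt_pow_iff_right (by norm_num : 1 < 2)).1 h2
    rw [hj]; congr 1; omega
  · rw [Subgroup.orderOf_mk, hord]
  · intro hmem
    obtain ⟨k, hk⟩ := mem_zpowers_iff.1 hmem
    apply hga
    apply hle2
    have := congrArg (Subtype.val) hk
    simp only [Subgroup.coe_zpow] at this
    rw [← this]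
    exact zpow_mem_zpowers _ _
  · left
    apply Subtype.ext
    show g * a ^ 2 * g⁻¹ = (a ^ 2)⁻¹
    rw [← conj_pow]
    rcases h'.conj with hc | ⟨hm3, hc⟩
    · rw [hc, inv_pow]
    · rw [hc]
      have hcm : Commute a⁻¹ (a ^ 2 ^ (m - 1)) := (Commute.refl a).inv_left.pow_right _
      rw [hcm.mul_pow, z_sq hm h.ord, mul_one, inv_pow]

theorem normal_cases (h : Dat Y m a b) (hm : 2 ≤ m) (hY : IsPGroup 2 (MulAut Y))
    (R : Subgroup Y) [hR : R.Normal] :
    IsPGroup 2 (MulAut R) ∨ (m = 2 ∧ Nat.card R = 4 ∧ a ^ 2 ∈ R) ∨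
      (m = 3 ∧ Nonempty (R ≃* QuaternionGroup 2)) := by
  have := h.finite
  have hR2 : IsPGroup 2 R := h.isPGroup.to_subgroup R
  by_cases hle : R ≤ zpowers a
  · left
    have : IsCyclic R := Subgroup.isCyclic_of_le hle
    exact isPGroup_aut_cyclic_two hR2 this
  obtain ⟨g, hgR, hga⟩ := SetLike.not_le_iff_exists.mp hle
  have ha2 := sq_mem_of_normal h R hgR hga
  by_cases haR : a ∈ R
  · left
    have htop : R = ⊤ := eq_top_of_index_two h.index (zpowers_le.mpr haR) hga hgR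
    have e : Y ≃* R := (Subgroup.topEquiv.symm).trans (MulEquiv.subgroupCongr htop.symm)
    exact hY.of_equiv (MulAut.congr e)
  have hd := dat_of_normal h (by omega) R hgR hga haR ha2
  rcases (by omega : m = 2 ∨ m = 3 ∨ 4 ≤ m) with rfl | rfl | h4
  · right; left
    exact ⟨rfl, hd.card, ha2⟩
  · have hd' : Dat R 2 ⟨a ^ 2, ha2⟩ ⟨g, hgR⟩ := hd
    rcases hd'.classification le_rfl with ⟨⟨e⟩⟩ | ⟨⟨e⟩⟩ | ⟨h3, -⟩
    · left
      apply (Dat.of_equiv e (dat_dihedral 2)).isPGroup_aut_dih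
      have h0 : (DihedralGroup.sr 0 : DihedralGroup (2 ^ 2)) ^ 2 = 1 := by
        rw [pow_two (DihedralGroup.sr 0), DihedralGroup.sr_mul_self]
      rw [← map_pow, h0, map_one]
    · right; right
      exact ⟨rfl, ⟨e⟩⟩
    · omega
  · left
    exact hd.isPGroup_aut (by omega)

/-- an automorphism of odd order of a group of order 4 fixing a nontrivial element is trivial -/
theorem aut_four {Q : Type*} [Group Q] (hQ : Nat.card Q = 4) (β : MulAut Q) {z : Q} (hz : z ≠ 1)
    (hβz : β z = z) {q : ℕ} (hq : Odd q) (hβ : β ^ q = 1) : β = 1 := by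
  have : Finite Q := Nat.finite_of_card_ne_zero (by rw [hQ]; norm_num)
  let F : Subgroup Q := β.toMonoidHom.eqLocus (MonoidHom.id Q)
  have hF : ∀ y, y ∈ F ↔ β y = y := fun y => Iff.rfl
  have hzF : z ∈ F := hβz
  by_cases htop : F = ⊤
  · ext y
    have : y ∈ F := by rw [htop]; trivial
    exact this
  have hdvd : Nat.card F ∣ 4 := hQ ▸ Subgroup.card_subgroup_dvd_card F
  have hne1 : Nat.card F ≠ 1 := by
    intro h1
    rw [Subgroup.card_eq_one] at h1
    rw [h1, Subgroup.mem_bot] at hzF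
    exact hz hzF
  have hne4 : Nat.card F ≠ 4 := by
    intro h4
    exact htop (Subgroup.eq_top_of_card_eq F (h4.trans hQ.symm))
  have h2 : Nat.card F = 2 := by
    have : Nat.card F ∈ Nat.divisors 4 := Nat.mem_divisors.mpr ⟨hdvd, by norm_num⟩
    have h4 : Nat.divisors 4 = {1, 2, 4} := by decide
    rw [h4] at this
    simp only [Finset.mem_insert, Finset.mem_singleton] at this
    rcases this with h | h | h
    · exact absurd h hne1
    · exact h
    · exact absurd h hne4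
  have hidx : F.index = 2 := by
    have := F.card_mul_index
    rw [h2, hQ] at this
    omega
  have hz2' : z ^ 2 = 1 := by
    have := pow_card_eq_one' (G := F) (x := ⟨z, hzF⟩)
    rw [h2] at this
    exact congrArg Subtype.val this
  have hFeq : zpowers z = F := by
    apply Subgroup.eq_of_le_of_card_ge (zpowers_le.mpr hzF)
    rw [Nat.card_zpowers, orderOf_eq_prime hz2' hz, h2]
  have hFz : ∀ y ∈ F, y = 1 ∨ y = z := by
    intro y hy
    rw [← hFeq] at hy
    exact mem_zpowers_two hz2' hy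
  have hz2 : z * z = 1 := by rw [← sq, hz2']
  have hsq : β ^ 2 = 1 := by
    ext y
    rw [MulAut.one_apply, sq, MulAut.mul_apply]
    by_cases hy : y ∈ F
    · rw [(hF y).1 hy, (hF y).1 hy]
    · have hβy : β y ∉ F := by
        intro h
        apply hy
        rw [hF] at h ⊢
        exact β.injective h
      have h5 : y⁻¹ * β y ∈ F :=
        (Subgroup.mul_mem_iff_of_index_two hidx).2 (by simp [hy, hβy])
      rcases hFz _ h5 with h | h
      · exfalso; apply hy
        rw [hF]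
        rw [inv_mul_eq_one] at h
        exact h.symm
      · have h6 : β y = y * z := by rw [← h, mul_inv_cancel_left]
        rw [h6, map_mul, h6, hβz, mul_assoc, hz2, mul_one]
  have h1 : orderOf β ∣ 2 := orderOf_dvd_of_pow_eq_one hsq
  have h3 : orderOf β ∣ q := orderOf_dvd_of_pow_eq_one hβ
  have h4 : orderOf β ∣ Nat.gcd 2 q := Nat.dvd_gcd h1 h3
  have h5 : Nat.gcd 2 q = 1 := Nat.coprime_two_left.mpr hq
  rw [h5, Nat.dvd_one, orderOf_eq_one_iff] at h4
  exact h4

open Cfsg.Agent.Tr.SL23 in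
theorem card_aut_le : Nat.card (MulAut (QuaternionGroup 2)) ≤ 24 := by
  classical
  let V : Finset (X × X) := Finset.univ.filter (fun p => p.1 ^ 4 = 1 ∧ p.2 ^ 2 = p.1 ^ 2 ∧
    p.2 * p.1 * p.2⁻¹ = p.1⁻¹ ∧ p.1 ^ 2 ≠ 1)
  have hV : V.card = 24 := by decide
  let φ : MulAut X → V := fun β => ⟨(β (QuaternionGroup.a 1), β (QuaternionGroup.xa 0)), by
    simp only [V, Finset.mem_filter, Finset.mem_univ, true_and]
    exact valid β⟩
  have hinj : Function.Injective φ := by
    intro β γ hβγ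
    have h0 := congrArg Subtype.val hβγ
    have h1 : β (QuaternionGroup.a 1) = γ (QuaternionGroup.a 1) := congrArg Prod.fst h0
    have h2 : β (QuaternionGroup.xa 0) = γ (QuaternionGroup.xa 0) := congrArg Prod.snd h0
    ext x
    rw [beta_eq β, beta_eq γ, h1, h2]
  calc Nat.card (MulAut X) ≤ Nat.card V := Nat.card_le_card_of_injective φ hinj
    _ = 24 := by rw [Nat.card_eq_fintype_card, Fintype.card_coe, hV]

end Cfsg.Agent.H17.SLN
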