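import Mathlib
import Cfsg.Agent.H17.SLN

/-! # A normal `SL(2,3)` in solvable groups with dihedral or semidihedral Sylow 2-subgroups -/

namespace Cfsg.Agent.H17.SLN

open Subgroup Cfsg.Agent.Tr.MC
open scoped Pointwise

theorem eq_one_of_two_pow_of_odd {A : Type*} [Group A] {β : A} {k q : ℕ} (h1 : β ^ 2 ^ k = 1)
    (hq : Odd q) (h2 : β ^ q = 1) : β = 1 := by
  have h3 : orderOf β ∣ 2 ^ k := orderOf_dvd_of_pow_eq_one h1
  have h4 : orderOf β ∣ q := orderOf_dvd_of_pow_eq_one h2
  have h5 : Nat.Coprime (2 ^ k) q := Nat.Coprime.pow_left k (Nat.coprime_two_left.mpr hq)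
  have h6 := Nat.dvd_gcd h3 h4
  rw [h5, Nat.dvd_one, orderOf_eq_one_iff] at h6
  exact h6

theorem main {G : Type*} [Group G] [Finite G] (hsol : IsSolvable G) (hO : Cfsg.oddCore G = ⊥)
    (T : Sylow 2 G) {m : ℕ} {a b : (T : Subgroup G)} (hd : Dat (T : Subgroup G) m a b) (hm : 2 ≤ m)
    (hTaut : IsPGroup 2 (MulAut (T : Subgroup G))) (hne : (T : Subgroup G) ≠ ⊤)
    (hZ : ((T : Subgroup G) ⊓ Subgroup.centralizer ((T : Subgroup G) : Set G)).Normal) :
    ∃ U : Subgroup G, U.Normal ∧ Nonempty (↥U ≃* Matrix.SpecialLinearGroup (Fin 2) (ZMod 3)) := by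
  classical
  haveI : Fact (Nat.Prime 2) := ⟨Nat.prime_two⟩
  haveI : Group.IsSolvable G := hsol
  set Q := Cfsg.pCore 2 G with hQdef
  haveI hQn : Q.Normal := Cfsg.H1.pCore_normal 2
  have hQp : IsPGroup 2 Q := Cfsg.H1.pCore_isPGroup 2
  have hQT : Q ≤ (T : Subgroup G) := by
    rw [hQdef, Cfsg.H1.pCore_eq_iInf_sylow]; exact iInf_le _ T
  have hcent : centralizer (Q : Set G) ≤ Q := Cfsg.H1.centralizer_pCore_le 2 hO
  have hidx1 : (T : Subgroup G).index ≠ 1 := by rwa [Ne, Subgroup.index_eq_one]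
  obtain ⟨p, hp, hpd⟩ := Nat.exists_prime_and_dvd hidx1
  have hp2 : p ≠ 2 := by rintro rfl; exact T.not_dvd_index hpd
  haveI : Fact p.Prime := ⟨hp⟩
  obtain ⟨x, hx⟩ := exists_prime_orderOf_dvd_card' (G := G) p
    (hpd.trans (Subgroup.index_dvd_card _))
  have hxodd : Odd (orderOf x) := hx ▸ hp.odd_of_ne_two hp2
  have hxnc : x ∉ centralizer (Q : Set G) := by
    intro hxc
    obtain ⟨k, hk⟩ := hQp ⟨x, hcent hxc⟩
    have hk' : x ^ 2 ^ k = 1 := congrArg Subtype.val hk
    have h1 := orderOf_dvd_of_pow_eq_one hk'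
    rw [hx] at h1
    exact hp2 ((Nat.prime_dvd_prime_iff_eq hp Nat.prime_two).1 (hp.dvd_of_dvd_pow h1))
  have hker : ∀ u : G, (MulAut.conjNormal u : MulAut Q) = 1 → u ∈ centralizer (Q : Set G) := by
    intro u h1
    rw [Subgroup.mem_centralizer_iff]
    intro y hy
    have h2 := congrArg (fun t : MulAut Q => ((t ⟨y, hy⟩ : Q) : G)) h1
    simp only [MulAut.conjNormal_apply, MulAut.one_apply] at h2
    rw [mul_inv_eq_iff_eq_mul] at h2
    exact h2.symm
  set β : MulAut Q := MulAut.conjNormal x with hβ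
  have hβq : β ^ orderOf x = 1 := by rw [hβ, ← map_pow, pow_orderOf_eq_one, map_one]
  have hβne : β ≠ 1 := fun h1 => hxnc (hker x h1)
  set R : Subgroup (T : Subgroup G) := Q.subgroupOf T with hR
  haveI : R.Normal := hQn.subgroupOf T
  let eR : R ≃* Q := subgroupOfEquivOfLe hQT
  rcases normal_cases hd hm hTaut R with h1 | ⟨rfl, hcard, ha2⟩ | ⟨rfl, ⟨e⟩⟩
  · exfalso
    have hA : IsPGroup 2 (MulAut Q) := h1.of_equiv (MulAut.congr eR)
    obtain ⟨k, hk⟩ := hA β
    exact hβne (eq_one_of_two_pow_of_odd hk hxodd hβq)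
  · exfalso
    have hcQ : Nat.card Q = 4 := by rw [← Nat.card_congr eR.toEquiv, hcard]
    have ha2' : ((a ^ 2 : (T : Subgroup G)) : G) ∈ Q := Subgroup.mem_subgroupOf.1 ha2
    have hane : a ^ 2 ≠ 1 := z_ne_one (m := 2) (by norm_num) hd.ord
    have hasq : (a ^ 2) ^ 2 = 1 := z_sq (m := 2) (by norm_num) hd.ord
    have hcen : a ^ 2 ∈ center (T : Subgroup G) := hd.z_mem_center le_rfl
    have hceq : center (T : Subgroup G) = zpowers (a ^ 2) := hd.center_eq le_rfl
    have hmem : ((a ^ 2 : (T : Subgroup G)) : G) ∈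
        (T : Subgroup G) ⊓ Subgroup.centralizer ((T : Subgroup G) : Set G) := by
      refine Subgroup.mem_inf.2 ⟨(a ^ 2).2, ?_⟩
      rw [Subgroup.mem_centralizer_iff]
      intro t ht
      have := Subgroup.mem_center_iff.1 hcen ⟨t, ht⟩
      exact congrArg Subtype.val this
    have hw := Subgroup.mem_inf.1 (hZ.conj_mem _ hmem x)
    have hwc : (⟨_, hw.1⟩ : (T : Subgroup G)) ∈ center (T : Subgroup G) := by
      rw [Subgroup.mem_center_iff]
      intro t
      apply Subtype.ext
      exact Subgroup.mem_centralizer_iff.1 hw.2 t t.2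
    rw [hceq] at hwc
    apply hβne
    apply aut_four hcQ β (z := ⟨_, ha2'⟩) _ _ hxodd hβq
    · intro h
      apply hane
      apply Subtype.ext
      have h' : ((a ^ 2 : (T : Subgroup G)) : G) = 1 := congrArg Subtype.val h
      exact h'
    · apply Subtype.ext
      rw [hβ, MulAut.conjNormal_apply]
      rcases mem_zpowers_two hasq hwc with h | h
      · exfalso
        apply hane
        have h' : x * ((a ^ 2 : (T : Subgroup G)) : G) * x⁻¹ = 1 := congrArg Subtype.val h
        apply Subtype.ext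
        rw [mul_inv_eq_one, mul_eq_left] at h'
        exact h'
      · exact congrArg Subtype.val h
  · let e' : Q ≃* QuaternionGroup 2 := eR.symm.trans e
    have hcardQ : Nat.card Q = 8 := by
      rw [Nat.card_congr e'.toEquiv, Nat.card_eq_fintype_card, QuaternionGroup.card]
    have hcardT : Nat.card (T : Subgroup G) = 16 := hd.card
    have hq0 : Dat (QuaternionGroup 2) 2 (QuaternionGroup.a 1) (QuaternionGroup.xa 0) :=
      dat_quaternion (m := 2) (by norm_num)
    have dq := Dat.of_equiv e' hq0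
    have hcen : Nat.card (center Q) = 2 := dq.card_center le_rfl
    have hC : Nat.card (centralizer (Q : Set G)) ≤ 2 := by
      have hle : centralizer (Q : Set G) ≤ (center Q).map Q.subtype := by
        intro c hc
        refine ⟨⟨c, hcent hc⟩, ?_, rfl⟩
        rw [SetLike.mem_coe, Subgroup.mem_center_iff]
        intro y
        apply Subtype.ext
        exact Subgroup.mem_centralizer_iff.1 hc y y.2
      calc _ ≤ Nat.card ((center Q).map Q.subtype) := Subgroup.card_le_of_le hle
        _ = 2 := by rw [Subgroup.card_map_of_injective Q.subtype_injective, hcen]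
    let c : G →* MulAut Q := MulAut.conjNormal
    have hkerle : c.ker ≤ centralizer (Q : Set G) := fun u hu => hker u hu
    have hG : Nat.card G ≤ 48 := by
      have h1 := c.ker.card_mul_index
      rw [Subgroup.index_ker] at h1
      have h2 : Nat.card c.range ≤ 24 := by
        calc Nat.card c.range ≤ Nat.card (MulAut Q) := Subgroup.card_le_card_group _
          _ = Nat.card (MulAut (QuaternionGroup 2)) := Nat.card_congr (MulAut.congr e').toEquiv
          _ ≤ 24 := card_aut_le
      have h3 : Nat.card c.ker ≤ 2 := (Subgroup.card_le_of_le hkerle).trans hC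
      calc Nat.card G = Nat.card c.ker * Nat.card c.range := h1.symm
        _ ≤ 2 * 24 := Nat.mul_le_mul h3 h2
    have hGT := (T : Subgroup G).card_mul_index
    rw [hcardT] at hGT
    have hnd : ¬ 2 ∣ (T : Subgroup G).index := T.not_dvd_index
    have hidx3 : (T : Subgroup G).index = 3 := by omega
    have hG48 : Nat.card G = 48 := by rw [← hGT, hidx3]
    have hp3 : p = 3 := by
      rw [hidx3] at hpd
      exact (Nat.prime_dvd_prime_iff_eq hp Nat.prime_three).1 hpd
    set H : Subgroup G := Q ⊔ zpowers x with hH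
    have hHmul : ∀ h ∈ H, ∃ y ∈ Q, ∃ k : ℤ, h = y * x ^ k := by
      intro h hh
      have h1 : h ∈ ((Q ⊔ zpowers x : Subgroup G) : Set G) := hh
      rw [Subgroup.normal_mul] at h1
      obtain ⟨y, hy, w, hw, rfl⟩ := Set.mem_mul.1 h1
      obtain ⟨k, rfl⟩ := mem_zpowers_iff.1 hw
      exact ⟨y, hy, k, rfl⟩
    have hHle : Nat.card H ≤ 24 := by
      have h1 : Nat.card H = Nat.card ((Q : Set G) * (zpowers x : Set G) : Set G) := by
        rw [← Subgroup.normal_mul]; rfl
      rw [h1]
      refine Set.natCard_mul_le.trans ?_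
      have h2 : Nat.card (Q : Set G) = 8 := hcardQ
      have h3 : Nat.card (zpowers x : Set G) = 3 := by
        have := Nat.card_zpowers x
        rw [hx, hp3] at this
        exact this
      rw [h2, h3]
    have hQH : Q ≤ H := le_sup_left
    have hxH : x ∈ H := (le_sup_right : zpowers x ≤ H) (mem_zpowers x)
    haveI : (Q.subgroupOf H).Normal := hQn.subgroupOf H
    obtain ⟨ψ, hψ⟩ := Cfsg.Agent.Tr.SL23.exists_surj (H := H) (Q.subgroupOf H)
      ((subgroupOfEquivOfLe hQH).trans e') ⟨x, hxH⟩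
      (by rw [Subgroup.orderOf_mk]; exact hxodd)
      (by
        by_contra hcon
        push_neg at hcon
        apply hxnc
        rw [Subgroup.mem_centralizer_iff]
        intro y hy
        have h1 := hcon ⟨y, hQH hy⟩ (Subgroup.mem_subgroupOf.2 hy)
        have h2 : x * y * x⁻¹ = y := congrArg Subtype.val h1
        rw [mul_inv_eq_iff_eq_mul] at h2
        exact h2.symm)
      (by
        intro h
        obtain ⟨y, hy, k, hk⟩ := hHmul h h.2
        refine ⟨⟨y, hQH hy⟩, Subgroup.mem_subgroupOf.2 hy, k, ?_⟩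
        apply Subtype.ext
        rw [hk]
        simp)
    have hS := Cfsg.Agent.Tr.SL23.cardS
    have hge : 24 ≤ Nat.card H := by
      rw [← hS]
      exact Nat.card_le_card_of_surjective ψ hψ
    have hH24 : Nat.card H = 24 := le_antisymm hHle hge
    have hbij : Function.Bijective ψ :=
      (Nat.bijective_iff_surjective_and_card ψ).2 ⟨hψ, by rw [hH24, hS]⟩
    refine ⟨H, ?_, ⟨MulEquiv.ofBijective ψ hbij⟩⟩
    apply Subgroup.normal_of_index_eq_two
    have := H.card_mul_index
    rw [hH24, hG48] at this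
    omega

end Cfsg.Agent.H17.SLN
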