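import Mathlib

/-! A transfer lemma for "TI-like" pairs `H ⊴ M ≤ G` (helper17). -/

set_option autoImplicit false

namespace Cfsg.Agent.H17

open Subgroup MulAction

variable {G : Type*} [Group G]

/-- Let `H ⊴ M ≤ G` with `M/H` abelian, such that `M ∩ g⁻¹Mg ≤ H` for all `g ∉ M`.
Then `G` has a normal subgroup `N` with `N ∩ M = H`. -/
theorem exists_normal_of_TI [Finite G] (H M : Subgroup G) (hHM : H ≤ M)
    [hn : (H.subgroupOf M).Normal] (hc : ∀ a b : ↥M ⧸ H.subgroupOf M, a * b = b * a)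
    (hTI : ∀ g : G, g ∉ M → ∀ y ∈ M, g * y * g⁻¹ ∈ M → y ∈ H) :
    ∃ N : Subgroup G, N.Normal ∧ N ⊓ M = H := by
  let _ : CommGroup (↥M ⧸ H.subgroupOf M) :=
    { (inferInstance : Group (↥M ⧸ H.subgroupOf M)) with mul_comm := hc }
  let ϕ : ↥M →* (↥M ⧸ H.subgroupOf M) := QuotientGroup.mk' (H.subgroupOf M)
  have hϕ : ∀ y : ↥M, ϕ y = 1 ↔ (y : G) ∈ H := by
    intro y
    rw [QuotientGroup.mk'_apply, QuotientGroup.eq_one_iff, mem_subgroupOf]
  have key : ∀ (x : G) (hx : x ∈ M), MonoidHom.transfer ϕ x = ϕ ⟨x, hx⟩ := by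
    intro x hx
    classical
    have : Fintype (Quotient (orbitRel (zpowers x) (G ⧸ M))) := Fintype.ofFinite _
    rw [MonoidHom.transfer_eq_prod_quotient_orbitRel_zpowers_quot ϕ x]
    have ha : ∀ (k : ℕ) (g : G) (hmem : g⁻¹ * x ^ k * g ∈ M), g ∉ M →
        ϕ ⟨g⁻¹ * x ^ k * g, hmem⟩ = 1 := by
      intro k g hmem hg
      rw [hϕ]
      apply hTI g hg _ hmem
      have : g * (g⁻¹ * x ^ k * g) * g⁻¹ = x ^ k := by group
      rw [this]
      exact pow_mem hx k
    have hb : ∀ (k : ℕ) (g : G) (hmem : g⁻¹ * x ^ k * g ∈ M), g ∈ M → k = 1 →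
        ϕ ⟨g⁻¹ * x ^ k * g, hmem⟩ = ϕ ⟨x, hx⟩ := by
      intro k g hmem hg hk
      subst hk
      have e : (⟨g⁻¹ * x ^ 1 * g, hmem⟩ : ↥M) = (⟨g, hg⟩ : ↥M)⁻¹ * ⟨x, hx⟩ * ⟨g, hg⟩ := by
        apply Subtype.ext
        simp
      rw [e, map_mul, map_mul, map_inv, mul_comm, mul_inv_cancel_left]
    have hfix : ∀ z ∈ zpowers x, z • ((1 : G) : G ⧸ M) = ((1 : G) : G ⧸ M) := by
      intro z hz
      have hzM : z ∈ M := (zpowers_le.mpr hx) hz
      change ((z * 1 : G) : G ⧸ M) = _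
      rw [mul_one, QuotientGroup.eq]
      simpa using hzM
    let q0 : Quotient (orbitRel (zpowers x) (G ⧸ M)) := Quotient.mk'' ((1 : G) : G ⧸ M)
    have hq0 : q0.out = ((1 : G) : G ⧸ M) := by
      have h1 : (orbitRel (zpowers x) (G ⧸ M)) q0.out ((1 : G) : G ⧸ M) :=
        Quotient.exact (Quotient.out_eq q0)
      rw [orbitRel_apply] at h1
      obtain ⟨z, hz⟩ := h1
      rw [← hz]
      exact hfix z.1 z.2
    rw [Finset.prod_eq_single q0]
    · apply hb
      · have h1 : ((q0.out.out : G) : G ⧸ M) = ((1 : G) : G ⧸ M) := by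
          rw [QuotientGroup.out_eq', hq0]
        rw [QuotientGroup.eq] at h1
        have := M.inv_mem h1
        simpa using this
      · rw [hq0, Function.minimalPeriod_eq_one_iff_isFixedPt]
        exact hfix x (mem_zpowers x)
    · intro q _ hq
      apply ha
      intro hmem
      apply hq
      have h1 : q.out = ((1 : G) : G ⧸ M) := by
        rw [← QuotientGroup.out_eq' q.out, QuotientGroup.eq]
        simpa using hmem
      rw [← Quotient.out_eq q, h1]
    · intro h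
      exact absurd (Finset.mem_univ _) h
  refine ⟨(MonoidHom.transfer ϕ).ker, inferInstance, ?_⟩
  ext x
  rw [mem_inf, MonoidHom.mem_ker]
  constructor
  · rintro ⟨h1, h2⟩
    rw [key x h2, hϕ] at h1
    exact h1
  · intro hx
    refine ⟨?_, hHM hx⟩
    rw [key x (hHM hx), hϕ]
    exact hx

end Cfsg.Agent.H17
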