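import Cfsg.Agent.Lib.Helper13.Glaub5
import Cfsg.Agent.Lib.Helper16.Cores
import Cfsg.Agent.H17.SylIn
import Cfsg.Prelude.Def_LocalEven
import Cfsg.Prelude.Def_TwoFusion

set_option autoImplicit false
open Cfsg

/-! Glauberman's ZJ theorem for strongly closed subgroups. -/

namespace Cfsg.Agent.H17

open Subgroup Cfsg.Agent.Lib.Helper13
open scoped commutatorElement

universe u

variable {G : Type u} [Group G] {e : ℕ} {p : ℕ}

theorem stronglyClosed_normalizer_le [Finite G] {D S : Subgroup G} (hD : IsStronglyClosed D S)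
    (L : Subgroup G) [L.Normal] :
    normalizer ((S ⊓ L : Subgroup G) : Set G) ≤ normalizer ((D ⊓ L : Subgroup G) : Set G) := by
  intro n hn
  apply mem_normalizer_of_map_conj_le
  rintro _ ⟨x, hx, rfl⟩
  have hx' : x ∈ S ⊓ L := mem_inf.mpr ⟨hD.1 (mem_inf.mp hx).1, (mem_inf.mp hx).2⟩
  have h1 : n * x * n⁻¹ ∈ S ⊓ L := (mem_normalizer_iff.mp hn x).mp hx'
  exact mem_inf.mpr ⟨hD.2 x (mem_inf.mp hx).1 n (mem_inf.mp h1).1, (mem_inf.mp h1).2⟩

theorem stronglyClosed_le_normalizer [Finite G] {D S : Subgroup G} (hD : IsStronglyClosed D S) :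
    S ≤ normalizer (D : Set G) := by
  intro n hn
  apply mem_normalizer_of_map_conj_le
  rintro _ ⟨x, hx, rfl⟩
  exact hD.2 x hx n (S.mul_mem (S.mul_mem hn (hD.1 hx)) (S.inv_mem hn))

theorem normalClosure_le_of_stronglyClosed {D S B Z : Subgroup G} (hD : IsStronglyClosed D S)
    (hZD : Z ≤ D) (hB : normalClosure (Z : Set G) = B) (hBS : B ≤ S) : B ≤ D := by
  rw [← hB, normalClosure, closure_le]
  intro y hy
  obtain ⟨z, hz, hzy⟩ := Group.mem_conjugatesOfSet_iff.mp hy
  obtain ⟨g, rfl⟩ := isConj_iff.mp hzy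
  apply hD.2 z (hZD hz) g
  apply hBS
  rw [← hB]
  exact (normalClosure_normal (s := (Z : Set G))).conj_mem z (le_normalClosure hz) g

/-- the main induction -/
theorem zAb_closed_inf_normal_aux [Finite G] [Fact p.Prime] (hp : p ≠ 2) (he : e = 0 ∨ Odd e)
    (hst : ∀ (P : Subgroup G) [P.Normal], IsPGroup p P → IsPStableOn p P) (S : Sylow p G)
    {D : Subgroup G} (hD : IsStronglyClosed D (S : Subgroup G)) :
    ∀ (n : ℕ) (L B : Subgroup G), L.Normal → B.Normal → IsPGroup p B → Nat.card L + Nat.card B ≤ n →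
      (zAb e (D ⊓ L) ⊓ B).Normal := by
  intro n
  induction n with
  | zero =>
    intro L B _ _ _ h
    have : 0 < Nat.card L := Nat.card_pos
    omega
  | succ n ih =>
    intro L B hL hB hBp hn
    set T := D ⊓ L with hT
    set Z := zAb e T with hZ
    set Z₁ := Z ⊓ B with hZ₁
    have hBS : B ≤ S := hBp.le_sylow_of_normal S
    have hnL : ∀ X : Subgroup G, X ≤ normalizer (L : Set G) := fun X => by
      rw [normalizer_eq_top (H := L)]; exact le_top
    have hnB : ∀ X : Subgroup G, X ≤ normalizer (B : Set G) := fun X => by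
      rw [normalizer_eq_top (H := B)]; exact le_top
    have hST : (S : Subgroup G) ≤ normalizer (T : Set G) :=
      (le_inf (stronglyClosed_le_normalizer hD) (hnL _)).trans inf_normalizer_le_normalizer_inf
    have hNT : normalizer (T : Set G) ≤ normalizer (Z₁ : Set G) :=
      (le_inf (normalizer_le_normalizer_zAb T) (hnB _)).trans inf_normalizer_le_normalizer_inf
    have hSZ₁ : (S : Subgroup G) ≤ normalizer (Z₁ : Set G) := hST.trans hNT
    -- reduction to `B = ⟨Z₁^G⟩`
    by_cases hB₁ : normalClosure (Z₁ : Set G) = B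
    swap
    · have hle : normalClosure (Z₁ : Set G) ≤ B := normalClosure_le_normal (inf_le_right : Z₁ ≤ B)
      have hlt : Nat.card (normalClosure (Z₁ : Set G)) < Nat.card B :=
        Cfsg.Agent.Lib.Helper13.card_lt_of_lt (lt_of_le_of_ne hle hB₁)
      have h1 := ih L (normalClosure (Z₁ : Set G)) hL inferInstance (hBp.to_le hle) (by omega)
      have h2 : Z ⊓ normalClosure (Z₁ : Set G) = Z₁ :=
        le_antisymm (inf_le_inf_left Z hle) (le_inf inf_le_left le_normalClosure)
      rw [← hT, ← hZ, h2] at h1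
      exact h1
    by_cases hB1 : B = ⊥
    · have : Z₁ = ⊥ := by rw [hZ₁, hB1, inf_bot_eq]
      rw [this]
      infer_instance
    -- `B' ≤ Z`
    have hB'lt := commutator_lt_of_isPGroup hBp hB1
    have hN₀ : (Z ⊓ ⁅B, B⁆).Normal :=
      ih L ⁅B, B⁆ hL inferInstance (hBp.to_le hB'lt.le)
        (by have := Cfsg.Agent.Lib.Helper13.card_lt_of_lt hB'lt; omega)
    have hB'Z : ⁅B, B⁆ ≤ Z := by
      have h1 : ⁅Z₁, B⁆ ≤ Z ⊓ ⁅B, B⁆ :=
        le_inf ((le_normalizer_iff_commutator_le_left.mp (hBS.trans hSZ₁)).trans inf_le_left)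
          (commutator_mono inf_le_right le_rfl)
      have h2 : Z₁ ≤ sectionKernel B (Z ⊓ ⁅B, B⁆) := le_sectionKernel_iff.mpr h1
      have h3 := sectionKernel_normal B (Z ⊓ ⁅B, B⁆)
      have h4 : normalClosure (Z₁ : Set G) ≤ sectionKernel B (Z ⊓ ⁅B, B⁆) := normalClosure_le_normal h2
      rw [hB₁] at h4
      exact (le_sectionKernel_iff.mp h4).trans inf_le_left
    have hBL : B ≤ L := by
      rw [← hB₁]
      exact normalClosure_le_normal ((inf_le_left.trans (zAb_le T)).trans inf_le_right : Z₁ ≤ L)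
    have hBD : B ≤ D :=
      normalClosure_le_of_stronglyClosed hD ((inf_le_left.trans (zAb_le T)).trans inf_le_left : Z₁ ≤ D)
        hB₁ hBS
    have hBT : B ≤ T := le_inf hBD hBL
    by_cases hall : ∀ U ∈ maxAb e T, B ≤ U
    · have : Z₁ = B := inf_eq_right.mpr (le_sInf hall)
      rw [this]
      exact hB
    push Not at hall
    obtain ⟨U, hU, hBU⟩ := hall
    obtain ⟨A, hA, -, hBA, hBnA⟩ := replacement_property' hp he S.isPGroup'
      (inf_le_left.trans hD.1 : T ≤ S) hBS hST (hnB _)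
      ⟨U, hU, hB'Z.trans (zAb_le_of_mem hU), hBU⟩
    have hAD : A ≤ stabD p B := by
      intro a ha
      apply hst B hBp a
      have hz : zpowers a ≤ A := zpowers_le.mpr ha
      have h1 : ⁅B, zpowers a⁆ ≤ A := (commutator_mono le_rfl hz).trans (le_normalizer_iff_commutator_le_right.mp hBnA)
      have h2 : ⁅A, A⁆ = ⊥ := by
        rw [commutator_eq_bot_iff_le_centralizer]
        intro u hu
        rw [mem_centralizer_iff]
        exact fun v hv => hA.2.1.1 v hv u hu
      exact le_bot_iff.mp (h2 ▸ commutator_mono h1 hz)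
    have hDn := stabD_normal (p := p) B
    by_cases hLD : L ≤ stabD p B
    · apply normal_of_normalizer_eq
      intro g
      obtain ⟨c, hc, n', hn', rfl⟩ := frattini_inf S L g
      obtain ⟨s, hs, c', hc', rfl⟩ := exists_of_mem_stabD S (hLD hc)
      refine mul_mem (mul_mem (hSZ₁ hs) ?_) (hNT (stronglyClosed_normalizer_le hD L hn'))
      exact centralizer_le_normalizer _ (centralizer_le (inf_le_right : Z₁ ≤ B) hc')
    · exfalso
      have hlt : L ⊓ stabD p B < L := lt_of_le_of_ne inf_le_left (fun h => hLD (inf_eq_left.mp h))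
      have hX := ih (L ⊓ stabD p B) B inferInstance hB hBp
        (by have := Cfsg.Agent.Lib.Helper13.card_lt_of_lt hlt; omega)
      have hAT₁ : A ≤ D ⊓ (L ⊓ stabD p B) :=
        le_inf (hA.1.trans inf_le_left) (le_inf (hA.1.trans inf_le_right) hAD)
      have hT₁T : D ⊓ (L ⊓ stabD p B) ≤ T := inf_le_inf_left _ inf_le_left
      have h1 : Z₁ ≤ zAb e (D ⊓ (L ⊓ stabD p B)) ⊓ B :=
        inf_le_inf_right B (zAb_le_zAb hA hAT₁ hT₁T)
      have h2 : normalClosure (Z₁ : Set G) ≤ zAb e (D ⊓ (L ⊓ stabD p B)) ⊓ B :=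
        normalClosure_le_normal h1
      rw [hB₁] at h2
      exact hBA ((h2.trans inf_le_left).trans (zAb_le_of_mem (maxAb_mono hA hAT₁ hT₁T).1))

theorem zAb_closed_le_pCore [Finite G] [Fact p.Prime]
    (hc : centralizer (pCore p G : Set G) ≤ pCore p G)
    (hst : ∀ (P : Subgroup G) [P.Normal], IsPGroup p P → IsPStableOn p P) (S : Sylow p G)
    {D : Subgroup G} (hD : IsStronglyClosed D (S : Subgroup G)) :
    zAb e D ≤ pCore p G := by
  intro z hz
  have hSZ : (S : Subgroup G) ≤ normalizer (zAb e D : Set G) :=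
    (stronglyClosed_le_normalizer hD).trans (normalizer_le_normalizer_zAb _)
  have hzz : zpowers z ≤ zAb e D := zpowers_le.mpr hz
  have h1 : ⁅pCore p G, zpowers z⁆ ≤ zAb e D :=
    (commutator_mono (Cfsg.Agent.Lib.Helper13.pCore_le_sylow S) hzz).trans
      (le_normalizer_iff_commutator_le_right.mp hSZ)
  have h2 : ⁅zAb e D, zAb e D⁆ = ⊥ := by
    rw [commutator_eq_bot_iff_le_centralizer]
    intro u hu
    rw [mem_centralizer_iff]
    exact fun v hv => (zAb_abExp (e := e) D).1 v hv u hu
  have h3 : z ∈ stabD p (pCore p G) :=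
    hst (pCore p G) (Cfsg.H1.pCore_isPGroup p) z (le_bot_iff.mp (h2 ▸ commutator_mono h1 hzz))
  exact Cfsg.H1.le_pCore (stabD_normal _) (isPGroup_stabD_pCore hc) h3

/-- the ZJ theorem for strongly closed subgroups: normality -/
theorem zAb_closed_normal [Finite G] [Fact p.Prime] (hp : p ≠ 2) (he : e = 0 ∨ Odd e)
    (hc : centralizer (pCore p G : Set G) ≤ pCore p G)
    (hst : ∀ (P : Subgroup G) [P.Normal], IsPGroup p P → IsPStableOn p P) (S : Sylow p G)
    {D : Subgroup G} (hD : IsStronglyClosed D (S : Subgroup G)) :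
    (zAb e D).Normal := by
  have h1 := zAb_closed_inf_normal_aux hp he hst S hD _ ⊤ (pCore p G) inferInstance inferInstance
    (Cfsg.H1.pCore_isPGroup p) le_rfl
  rw [inf_top_eq, inf_eq_left.mpr (zAb_closed_le_pCore hc hst S hD)] at h1
  exact h1

theorem omegaOne_centerThompsonOf_eq [Finite G] (T : Subgroup G) :
    omegaOne p (centerThompsonOf p T) = zAb p T := by
  rw [← omegaCT_map_eq, omegaCT_map _ T.subtype_injective]
  rfl

/-- normalizer `p`-stability gives `p`-stability on normal `p`-subgroups. -/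
theorem isPStableOn_of_normalizerPStable (hst : IsNormalizerPStable p G) (P : Subgroup G) [hP : P.Normal]
    (hPp : IsPGroup p P) : IsPStableOn p P := by
  intro a ha
  have htop : normalizer (P : Set G) = ⊤ := normalizer_eq_top P
  have haN : a ∈ normalizer (P : Set G) := by rw [htop]; exact mem_top a
  have h1 := hst P hPp a haN ha
  -- the isomorphism
  let φ : ↥(normalizer (P : Set G)) ≃* G := (MulEquiv.subgroupCongr htop).trans topEquiv
  have hφ : ((centralizer (P : Set G)).subgroupOf (normalizer (P : Set G))).map φ.toMonoidHom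
      = centralizer (P : Set G) := by
    ext x
    constructor
    · rintro ⟨y, hy, rfl⟩
      exact hy
    · intro hx
      exact ⟨⟨x, by rw [htop]; exact mem_top x⟩, hx, rfl⟩
  let ψ := QuotientGroup.congr _ _ φ hφ
  have h2 := Cfsg.Agent.Lib.Helper16.pCore_map_equiv (p := p) ψ
  rw [← h2]
  exact ⟨_, h1, rfl⟩

end Cfsg.Agent.H17
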