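import Mathlib

/-! # Zsigmondy's theorem (for `a ^ n - 1`) via cyclotomic polynomials -/

namespace Cfsg.Agent.H17.Zsig

open Polynomial

/-- value of the cyclotomic polynomial as a natural number -/
noncomputable def Ph (n a : ℕ) : ℕ := ((cyclotomic n ℤ).eval (a : ℤ)).natAbs

theorem Ph_cast {n a : ℕ} (ha : 1 < a) : ((Ph n a : ℕ) : ℤ) = (cyclotomic n ℤ).eval (a : ℤ) := by
  unfold Ph
  rw [Int.natCast_natAbs, abs_of_pos (cyclotomic_pos' n (by exact_mod_cast ha))]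

theorem isRoot_of_dvd {n a r : ℕ} (ha : 1 < a) (h : r ∣ Ph n a) :
    IsRoot (cyclotomic n (ZMod r)) (a : ZMod r) := by
  have h1 := cyclotomic.eval_apply (a : ℤ) n (Int.castRingHom (ZMod r))
  have h2 : (Int.castRingHom (ZMod r)) (a : ℤ) = (a : ZMod r) := by simp
  rw [h2] at h1
  rw [IsRoot.def, h1, ← Ph_cast ha]
  simp only [eq_intCast, Int.cast_natCast]
  exact (ZMod.natCast_eq_zero_iff _ _).2 h

theorem dvd_iff {a k r : ℕ} (ha : 0 < a) : r ∣ a ^ k - 1 ↔ (a : ZMod r) ^ k = 1 := by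
  have h1 : 1 ≤ a ^ k := Nat.one_le_pow _ _ ha
  rw [← ZMod.natCast_eq_zero_iff, Nat.cast_sub h1, sub_eq_zero]
  push_cast
  rfl

theorem ppd_of_not_dvd {n a r : ℕ} (ha : 1 < a) (hr : r.Prime) (h : r ∣ Ph n a) (hrn : ¬ r ∣ n) :
    r ∣ a ^ n - 1 ∧ ∀ k, 0 < k → k < n → ¬ r ∣ a ^ k - 1 := by
  haveI := Fact.mk hr
  haveI : NeZero (n : ZMod r) := ⟨by rwa [Ne, ZMod.natCast_eq_zero_iff]⟩
  have hp : IsPrimitiveRoot (a : ZMod r) n := isRoot_cyclotomic_iff.1 (isRoot_of_dvd ha h)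
  refine ⟨(dvd_iff (by omega)).2 hp.pow_eq_one, fun k hk hkn hd => ?_⟩
  have := hp.dvd_of_pow_eq_one k ((dvd_iff (by omega)).1 hd)
  exact absurd (Nat.le_of_dvd hk this) (by omega)

theorem prim_of_dvd {a r k m : ℕ} (ha : 1 < a) (hr : r.Prime) (hk : 0 < k) (hm : ¬ r ∣ m)
    (h : r ∣ Ph (r ^ k * m) a) : IsPrimitiveRoot (a : ZMod r) m := by
  haveI := Fact.mk hr
  haveI : NeZero (m : ZMod r) := ⟨by rwa [Ne, ZMod.natCast_eq_zero_iff]⟩
  have h1 := isRoot_of_dvd ha h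
  rw [cyclotomic_mul_prime_pow_eq (ZMod r) hm hk] at h1
  have h2 : IsRoot (cyclotomic m (ZMod r)) (a : ZMod r) := by
    rw [IsRoot.def, eval_pow] at h1
    exact eq_zero_of_pow_eq_zero h1
  exact isRoot_cyclotomic_iff.1 h2

theorem dvd_sub_one {a r m : ℕ} (hr : r.Prime) (hp : IsPrimitiveRoot (a : ZMod r) m) (hm : 0 < m) :
    m ∣ r - 1 := by
  haveI := Fact.mk hr
  have ha0 : (a : ZMod r) ≠ 0 := by
    intro h0
    have := hp.pow_eq_one
    rw [h0, zero_pow hm.ne'] at this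
    exact zero_ne_one this
  exact hp.dvd_of_pow_eq_one _ (ZMod.pow_card_sub_one_eq_one ha0)

theorem le_of_both {n a r s : ℕ} (ha : 1 < a) (hn : 0 < n) (hr : r.Prime) (hs : s.Prime)
    (hrn : r ∣ n) (hsn : s ∣ n) (h1 : r ∣ Ph n a) : s ≤ r := by
  obtain ⟨k, m, hm, rfl⟩ := Nat.exists_eq_pow_mul_and_not_dvd hn.ne' r hr.ne_one
  have hk : 0 < k := by
    rcases Nat.eq_zero_or_pos k with rfl | h
    · rw [pow_zero, one_mul] at hrn; exact absurd hrn hm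
    · exact h
  have hm0 : 0 < m := Nat.pos_of_ne_zero (by rintro rfl; simp at hn)
  have hp := prim_of_dvd ha hr hk hm h1
  have hd := dvd_sub_one hr hp hm0
  rcases (Nat.Prime.dvd_mul hs).1 hsn with h | h
  · exact Nat.le_of_dvd hr.pos (hs.dvd_of_dvd_pow h)
  · have h3 := Nat.le_of_dvd hm0 h
    have h4 := Nat.le_of_dvd (by have := hr.two_le; omega) hd
    omega

theorem mul_dvd {n a d : ℕ} (ha : 1 < a) (hd : d ∈ n.properDivisors) :
    (a ^ d - 1) * Ph n a ∣ a ^ n - 1 := by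
  have h := X_pow_sub_one_mul_cyclotomic_dvd_X_pow_sub_one_of_dvd ℤ hd
  have h1 := eval_dvd (x := (a : ℤ)) h
  simp only [eval_mul, eval_sub, eval_pow, eval_X, eval_one] at h1
  rw [← Ph_cast ha] at h1
  have e1 : ∀ k : ℕ, ((a : ℤ) ^ k - 1) = ((a ^ k - 1 : ℕ) : ℤ) := by
    intro k
    rw [Nat.cast_sub (Nat.one_le_pow _ _ (by omega))]
    push_cast
    rfl
  rw [e1, e1] at h1
  exact_mod_cast h1

theorem dvd_pow_sub_one {n a : ℕ} (ha : 1 < a) (hn : 1 < n) : Ph n a ∣ a ^ n - 1 := by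
  have h := mul_dvd (n := n) (d := 1) ha (by simp [hn])
  exact (Dvd.intro_left _ rfl).trans h

theorem sq_not_dvd_odd {n a r : ℕ} (ha : 1 < a) (hn : 1 < n) (hr : r.Prime) (hodd : Odd r)
    (hrn : r ∣ n) (h : r ∣ Ph n a) : ¬ r ^ 2 ∣ Ph n a := by
  haveI := Fact.mk hr
  obtain ⟨d, rfl⟩ := hrn
  have hd0 : 0 < d := Nat.pos_of_ne_zero (by rintro rfl; simp at hn)
  have hdp : d ∈ (r * d).properDivisors := by
    rw [Nat.mem_properDivisors]
    refine ⟨Dvd.intro_left _ rfl, ?_⟩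
    have := hr.two_le
    nlinarith
  have h1 := mul_dvd ha hdp
  set c := a ^ d with hc
  have hc1 : 1 < c := Nat.one_lt_pow hd0.ne' ha
  have e : a ^ (r * d) = c ^ r := by rw [hc, ← pow_mul, mul_comm]
  rw [e] at h1
  have h2 : r ∣ c ^ r - 1 := (h.trans (Dvd.intro_left _ rfl)).trans h1
  have h3 : r ∣ c - 1 := by
    have h4 := (dvd_iff (by omega)).1 h2
    rw [ZMod.pow_card] at h4
    have := (dvd_iff (k := 1) (r := r) (a := c) (by omega)).2 (by rw [pow_one]; exact h4)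
    rwa [pow_one] at this
  have h5 : ¬ r ∣ c := by
    intro h6
    have : r ∣ 1 := by
      have h7 := (Nat.dvd_sub h6 h3)
      have e2 : c - (c - 1) = 1 := by omega
      rwa [e2] at h7
    exact hr.one_lt.ne' (Nat.dvd_one.1 this)
  have hlte := padicValNat.pow_sub_pow hodd hc1 h3 h5 (n := r) hr.ne_zero
  rw [one_pow, padicValNat_self] at hlte
  intro hsq
  have hne : c ^ r - 1 ≠ 0 := by
    have := Nat.one_lt_pow hr.ne_zero hc1
    omega
  have h8 : r ^ (padicValNat r (c - 1) + 2) ∣ c ^ r - 1 := by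
    rw [pow_add]
    exact (Nat.mul_dvd_mul pow_padicValNat_dvd hsq).trans h1
  have := (padicValNat_dvd_iff_le hne).1 h8
  omega

theorem sq_not_dvd_two {n a : ℕ} (ha : 1 < a) (hn : 2 < n) (hrn : 2 ∣ n) (h : 2 ∣ Ph n a) :
    ¬ 2 ^ 2 ∣ Ph n a := by
  obtain ⟨k, m, hm, rfl⟩ := Nat.exists_eq_pow_mul_and_not_dvd (by omega : n ≠ 0) 2 (by norm_num)
  have hk : 0 < k := by
    rcases Nat.eq_zero_or_pos k with rfl | h
    · rw [pow_zero, one_mul] at hrn; exact absurd hrn hm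
    · exact h
  have hm0 : 0 < m := Nat.pos_of_ne_zero (by rintro rfl; simp at hn)
  have hp := prim_of_dvd ha Nat.prime_two hk hm h
  have hd := dvd_sub_one Nat.prime_two hp hm0
  have hm1 : m = 1 := Nat.dvd_one.1 hd
  subst hm1
  rw [mul_one] at hn h ⊢
  obtain ⟨j, rfl⟩ : ∃ j, k = j + 2 := by
    refine ⟨k - 2, ?_⟩
    rcases (by omega : k = 1 ∨ 2 ≤ k) with rfl | h2
    · norm_num at hn
    · omega
  have hdp : 2 ^ (j + 1) ∈ (2 ^ (j + 2)).properDivisors := by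
    rw [Nat.mem_properDivisors]
    exact ⟨pow_dvd_pow 2 (by omega), Nat.pow_lt_pow_right (by norm_num) (by omega)⟩
  have h1 := mul_dvd ha hdp
  set s := a ^ 2 ^ j with hs
  have hs1 : 1 < s := Nat.one_lt_pow (by positivity) ha
  have e1 : a ^ 2 ^ (j + 1) = s ^ 2 := by rw [hs, ← pow_mul, pow_succ]
  have e2 : a ^ 2 ^ (j + 2) = (s ^ 2) ^ 2 := by rw [hs, ← pow_mul, ← pow_mul, pow_add]; norm_num [mul_assoc]
  rw [e1, e2] at h1
  have hs2 : 1 < s ^ 2 := Nat.one_lt_pow (by norm_num) hs1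
  have e3 : (s ^ 2) ^ 2 - 1 = (s ^ 2 - 1) * (s ^ 2 + 1) := by
    obtain ⟨t, ht⟩ : ∃ t, s ^ 2 = t + 1 := ⟨s ^ 2 - 1, by omega⟩
    rw [ht]
    simp only [Nat.add_sub_cancel]
    have : (t + 1) ^ 2 = t * (t + 1 + 1) + 1 := by ring
    rw [this, Nat.add_sub_cancel]
  rw [e3] at h1
  have h2 : Ph (2 ^ (j + 2)) a ∣ s ^ 2 + 1 := Nat.dvd_of_mul_dvd_mul_left (by omega) h1
  intro h4
  have h5 : 4 ∣ s ^ 2 + 1 := by
    have : (2 : ℕ) ^ 2 = 4 := by norm_num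
    rw [this] at h4
    exact h4.trans h2
  have h6 : (s ^ 2 + 1) % 4 = 0 := Nat.mod_eq_zero_of_dvd h5
  have h7 : s % 4 = 0 ∨ s % 4 = 1 ∨ s % 4 = 2 ∨ s % 4 = 3 := by omega
  rcases h7 with h7 | h7 | h7 | h7 <;>
    simp [Nat.add_mod, Nat.pow_mod, h7] at h6

theorem lt_Ph {n a r : ℕ} (ha : 3 ≤ a) (hn : 1 < n) (hr : r.Prime) (hrn : r ∣ n) : r < Ph n a := by
  have h1 := sub_one_pow_totient_lt_natAbs_cyclotomic_eval (n := n) (q := a) hn (by omega)
  have h2 : r - 1 ≤ n.totient := by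
    have := Nat.totient_dvd_of_dvd hrn
    rw [Nat.totient_prime hr] at this
    exact Nat.le_of_dvd (Nat.totient_pos.2 (by omega)) this
  calc r ≤ 2 ^ (r - 1) := by
        have := Nat.lt_two_pow_self (n := r - 1)
        have := hr.pos
        omega
    _ ≤ 2 ^ n.totient := Nat.pow_le_pow_right (by norm_num) h2
    _ ≤ (a - 1) ^ n.totient := Nat.pow_le_pow_left (by omega) _
    _ < Ph n a := h1

theorem Ph_mul_of_dvd {n r a : ℕ} (hr : r.Prime) (h : r ∣ n) : Ph (n * r) a = Ph n (a ^ r) := by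
  unfold Ph
  rw [← cyclotomic_expand_eq_cyclotomic hr h ℤ, expand_eval]
  push_cast
  rfl

theorem Ph_mul_of_not_dvd {n r a : ℕ} (hr : r.Prime) (h : ¬ r ∣ n) :
    Ph (n * r) a * Ph n a = Ph n (a ^ r) := by
  unfold Ph
  rw [← Int.natAbs_mul, ← eval_mul, ← cyclotomic_expand_eq_cyclotomic_mul hr h ℤ, expand_eval]
  push_cast
  rfl

theorem Ph_le {m a : ℕ} (ha : 1 < a) : Ph m a ≤ (a + 1) ^ m.totient := by
  have h := cyclotomic_eval_le_add_one_pow_totient (q := (a : ℝ)) (by exact_mod_cast ha) m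
  have h1 := cyclotomic.eval_apply (a : ℤ) m (Int.castRingHom ℝ)
  simp only [eq_intCast, Int.cast_natCast] at h1
  rw [h1, ← Ph_cast ha] at h
  exact_mod_cast h

end Cfsg.Agent.H17.Zsig
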