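import Mathlib
import Cfsg.Agent.H17.Zsig

/-! # Zsigmondy's theorem: main statement -/

namespace Cfsg.Agent.H17.Zsig

open Polynomial

theorem three_mul_lt_two_pow {r : ℕ} (hr : 5 ≤ r) : 3 * r + 1 ≤ 2 ^ r := by
  induction r, hr using Nat.le_induction with
  | base => norm_num
  | succ k hk ih => rw [pow_succ]; omega

theorem zsigmondy (a n : ℕ) (ha : 1 < a) (hn : 1 < n) (h6 : ¬ (a = 2 ∧ n = 6))
    (h2 : ¬ (n = 2 ∧ ∃ m : ℕ, a + 1 = 2 ^ m)) :
    ∃ r : ℕ, r.Prime ∧ r ∣ a ^ n - 1 ∧ ∀ k : ℕ, 0 < k → k < n → ¬ r ∣ a ^ k - 1 := by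
  rcases (by omega : n = 2 ∨ 2 < n) with rfl | hn2
  · rcases Nat.eq_two_pow_or_exists_odd_prime_and_dvd (a + 1) with ⟨m, hm⟩ | ⟨r, hr, hd, hodd⟩
    · exact absurd ⟨rfl, m, hm⟩ h2
    · refine ⟨r, hr, ?_, ?_⟩
      · have e : a ^ 2 - 1 = (a + 1) * (a - 1) := by
          obtain ⟨t, rfl⟩ : ∃ t, a = t + 1 := ⟨a - 1, by omega⟩
          simp only [Nat.add_sub_cancel]
          have : (t + 1) ^ 2 = (t + 1 + 1) * t + 1 := by ring
          rw [this, Nat.add_sub_cancel]
        rw [e]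
        exact Dvd.dvd.mul_right hd _
      · intro k hk hk2 hdk
        obtain rfl : k = 1 := by omega
        rw [pow_one] at hdk
        have h3 : r ∣ 2 := by
          have := Nat.dvd_sub hd hdk
          have e : a + 1 - (a - 1) = 2 := by omega
          rwa [e] at this
        have h4 := (Nat.prime_dvd_prime_iff_eq hr Nat.prime_two).1 h3
        rw [h4] at hodd
        exact absurd hodd (by decide)
  by_contra hcon
  push Not at hcon
  have hlow := sub_one_pow_totient_lt_natAbs_cyclotomic_eval (n := n) (q := a) hn (by omega)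
  have hN1 : 1 < Ph n a := by
    have : 1 ≤ (a - 1) ^ n.totient := Nat.one_le_pow _ _ (by omega)
    exact lt_of_le_of_lt this hlow
  have hall : ∀ s : ℕ, s.Prime → s ∣ Ph n a → s ∣ n := by
    intro s hs hsd
    by_contra hsn
    obtain ⟨h3, h4⟩ := ppd_of_not_dvd ha hs hsd hsn
    obtain ⟨k, hk, hkn, hkd⟩ := hcon s hs h3
    exact h4 k hk hkn hkd
  obtain ⟨r, hr, hrd⟩ := Nat.exists_prime_and_dvd hN1.ne'
  have hrn := hall r hr hrd
  have huniq : ∀ {s : ℕ}, s.Prime → s ∣ Ph n a → s = r := by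
    intro s hs hsd
    have hsn := hall s hs hsd
    exact le_antisymm (le_of_both ha (by omega) hr hs hrn hsn hrd)
      (le_of_both ha (by omega) hs hr hsn hrn hsd)
  have hpow := Nat.eq_prime_pow_of_unique_prime_dvd (by omega : Ph n a ≠ 0) huniq
  have hsq : ¬ r ^ 2 ∣ Ph n a := by
    rcases hr.eq_two_or_odd' with rfl | hodd
    · exact sq_not_dvd_two ha hn2 hrn hrd
    · exact sq_not_dvd_odd ha hn hr hodd hrn hrd
  have hNr : Ph n a = r := by
    set e := (Ph n a).primeFactorsList.length with he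
    rcases (by omega : e = 0 ∨ e = 1 ∨ 2 ≤ e) with h | h | h
    · rw [hpow, h, pow_zero] at hN1; omega
    · rw [hpow, h, pow_one]
    · exfalso; apply hsq
      rw [hpow]
      exact pow_dvd_pow r h
  rcases (by omega : a = 2 ∨ 3 ≤ a) with rfl | ha3
  swap
  · have := lt_Ph ha3 hn hr hrn
    omega
  obtain ⟨k, m, hm, hnkm⟩ := Nat.exists_eq_pow_mul_and_not_dvd (by omega : n ≠ 0) r hr.ne_one
  have hk : 0 < k := by
    rcases Nat.eq_zero_or_pos k with rfl | h
    · rw [pow_zero, one_mul] at hnkm; rw [hnkm] at hrn; exact absurd hrn hm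
    · exact h
  have hm0 : 0 < m := Nat.pos_of_ne_zero (by rintro rfl; simp at hnkm; omega)
  rcases (by omega : k = 1 ∨ 2 ≤ k) with rfl | hk2
  swap
  · obtain ⟨j, rfl⟩ : ∃ j, k = j + 2 := ⟨k - 2, by omega⟩
    have e : n = (r ^ (j + 1) * m) * r := by rw [hnkm]; ring
    have hdv : r ∣ r ^ (j + 1) * m := Dvd.dvd.mul_right (dvd_pow_self r (by omega)) _
    have h3 := Ph_mul_of_dvd (a := 2) hr hdv
    rw [← e, hNr] at h3
    have h4 : 3 ≤ 2 ^ r := by
      have := Nat.pow_le_pow_right (show 0 < 2 by norm_num) hr.two_le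
      omega
    have h5 : 1 < r ^ (j + 1) * m := by
      have := Nat.le_of_dvd (Nat.mul_pos (pow_pos hr.pos _) hm0) hdv
      have := hr.two_le
      omega
    have := lt_Ph h4 h5 hr hdv
    omega
  rw [pow_one] at hnkm
  have hp : IsPrimitiveRoot ((2 : ℕ) : ZMod r) m :=
    prim_of_dvd (k := 1) ha hr (by norm_num) hm (by rw [pow_one, ← hnkm]; exact hrd)
  have hmd := dvd_sub_one hr hp hm0
  have hrm : r ∣ 2 ^ m - 1 := (dvd_iff (by norm_num)).2 hp.pow_eq_one
  have hm1 : m ≠ 1 := by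
    rintro rfl
    norm_num at hrm
    exact hr.one_lt.ne' hrm
  have hr2 : r ≠ 2 := by
    rintro rfl
    obtain ⟨t, rfl⟩ : ∃ t, m = t + 1 := ⟨m - 1, by omega⟩
    have : 0 < 2 ^ t := by positivity
    rw [pow_succ] at hrm
    omega
  have hr3 : r ≠ 3 := by
    rintro rfl
    have : m ≤ 2 := Nat.le_of_dvd (by norm_num) hmd
    have : m = 2 := by omega
    subst this
    exact h6 ⟨rfl, hnkm⟩
  have hr4 : r ≠ 4 := by rintro rfl; revert hr; decide
  have hr5 : 5 ≤ r := by have := hr.two_le; omega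
  have e : n = m * r := by rw [hnkm, mul_comm]
  have h3 := Ph_mul_of_not_dvd (a := 2) hr hm
  rw [← e, hNr] at h3
  have h4 := Ph_le (m := m) (a := 2) (by norm_num)
  have h5 := sub_one_pow_totient_lt_natAbs_cyclotomic_eval (n := m) (q := 2 ^ r) (by omega)
    (by have := Nat.one_lt_two_pow hr.ne_zero; omega)
  have h5' : (2 ^ r - 1) ^ m.totient < Ph m (2 ^ r) := h5
  have ht : 0 < m.totient := Nat.totient_pos.2 hm0
  have h6' := three_mul_lt_two_pow hr5
  have h7 : (3 * r) ^ m.totient ≤ (2 ^ r - 1) ^ m.totient := Nat.pow_le_pow_left (by omega) _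
  have h8 : r * 3 ^ m.totient ≤ (3 * r) ^ m.totient := by
    rw [mul_pow, mul_comm]
    apply Nat.mul_le_mul_left
    calc r = r ^ 1 := (pow_one r).symm
      _ ≤ r ^ m.totient := Nat.pow_le_pow_right hr.pos ht
  have h9 : r * Ph m 2 ≤ r * 3 ^ m.totient := Nat.mul_le_mul_left _ h4
  omega

end Cfsg.Agent.H17.Zsig
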